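import Mathlib
import Cfsg.Agent.Fus.FunctorInst
import Cfsg.Agent.PLocal.ZJ
import Cfsg.Agent.PLocal.NormPStable

/-!
The axiomatic form of the ZJ-theorem and of the Glauberman–Thompson criterion.
-/

set_option autoImplicit false

namespace Cfsg.Agent.Fus

open Cfsg Cfsg.FusionSystem Subgroup

universe u

section Groups

variable {G : Type*} [Group G] [Finite G] {p : ℕ} [Fact p.Prime]

theorem stableOnNormal_of_isCoatom (hp : p ≠ 2) (T : Sylow p G) (hc : IsCoatom (T : Subgroup G)) :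
    PLocal.StableOnNormal p G := by
  let π := QuotientGroup.mk' (pCore p G)
  have hπ : Function.Surjective π := QuotientGroup.mk'_surjective _
  let T' := T.mapSurjective hπ
  have h1 : HasNormalPComplement p (G ⧸ pCore p G) := by
    have h2 : (T : Subgroup G) ≤ (normalizer (centerThompsonAOf (T' : Subgroup (G ⧸ pCore p G)) :
        Set (G ⧸ pCore p G))).comap π :=
      map_le_iff_le_comap.1 (PLocal.le_normalizer_centerThompsonAOf _)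
    rcases h2.eq_or_lt with h | h
    · refine S0659.result hp T' (Transfer.hasNormalPComplement_of_isPGroup ?_)
      rw [← map_comap_eq_self_of_surjective hπ (normalizer _), ← h]
      exact T.isPGroup'.map π
    · have h3 := hc.2 _ h
      rw [← comap_top π, (comap_injective hπ).eq_iff, normalizer_eq_top_iff] at h3
      have h4 := Grp.le_pCore h3 (T'.isPGroup'.to_le (PLocal.centerThompsonAOf_le _))
      rw [Grp.pCore_quotient_pCore, le_bot_iff] at h4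
      refine Transfer.hasNormalPComplement_of_coprime ?_
      have h5 : (T' : Subgroup (G ⧸ pCore p G)) = ⊥ := by
        by_contra h5
        exact PLocal.centerThompsonAOf_ne_bot T'.isPGroup' h5 h4
      have h6 := T'.not_dvd_index
      rw [h5, index_bot] at h6
      exact ((Nat.Prime.coprime_iff_not_dvd Fact.out).2 h6).symm
  obtain ⟨Q⟩ : Nonempty (Sylow 2 G) := inferInstance
  have hT := PLocal.transvFree_of_sylow_two_comm hp Q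
    (PLocal.NormPStable.sylow_comm_of_coatom' h1 T hc hp.symm Q)
  exact PLocal.stableOnNormal_of_isPStableOn fun B _ hB => hT.isPStableOn B hB

theorem sInf_normal_of_axioms (hc : centralizer (pCore p G : Set G) ≤ pCore p G)
    (hst : PLocal.StableOnNormal p G) (S : Sylow p G) (𝒜 : Set (Subgroup G))
    (h𝒜 : ∀ A ∈ 𝒜, A ≤ S ∧ IsMulCommutative A) (hne : 𝒜.Nonempty)
    (hinv : ∀ Q : Subgroup G, Q ≤ S → (∃ A ∈ 𝒜, A ≤ Q) → ∀ g ∈ normalizer (Q : Set G), ∀ x,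
      x ∈ sInf {A | A ∈ 𝒜 ∧ A ≤ Q} → g * x * g⁻¹ ∈ sInf {A | A ∈ 𝒜 ∧ A ≤ Q})
    (hrep : ∀ B : Subgroup G, B ≤ S → ⁅⁅B, B⁆, B⁆ = ⊥ → (∃ A ∈ 𝒜, ⁅B, B⁆ ≤ A ∧ ¬ B ≤ A) →
      ∃ A ∈ 𝒜, ⁅B, B⁆ ≤ A ∧ ¬ B ≤ A ∧ B ≤ normalizer (A : Set G)) : (sInf 𝒜).Normal := by
  obtain ⟨A₀, hA₀⟩ := hne
  have hI : IsMulCommutative (sInf 𝒜 : Subgroup G) :=
    have := (h𝒜 A₀ hA₀).2
    IsMulCommutative.of_setLike_mul_comm fun _ ha _ hb =>
      setLike_mul_comm (s := A₀) (sInf_le hA₀ ha) (sInf_le hA₀ hb)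
  have hS : (S : Subgroup G) ≤ normalizer ((sInf 𝒜 : Subgroup G) : Set G) := by
    have e : {A | A ∈ 𝒜 ∧ A ≤ S} = 𝒜 := Set.ext fun A => ⟨fun h => h.1, fun h => ⟨h, (h𝒜 A h).1⟩⟩
    have := hinv S le_rfl ⟨A₀, hA₀, (h𝒜 A₀ hA₀).1⟩
    rw [e] at this
    exact fun g hg => mem_normalizer_fintype (this g (le_normalizer hg))
  have h1 := PLocal.zj_reduction hI ((Grp.pCore_le_sylow S).trans hS) (fun B _ hB hcl hBI h2 => by
    by_cases h : B ≤ sInf 𝒜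
    · rw [inf_eq_right.2 h]; infer_instance
    exfalso
    have hBS : B ≤ S := (Grp.le_pCore inferInstance hB).trans (Grp.pCore_le_sylow S)
    obtain ⟨A, hA, -, h3, h4⟩ := hrep B hBS h2 (by
      by_contra h5
      push Not at h5
      exact h (le_sInf fun A hA => h5 A hA (hBI.trans (sInf_le hA))))
    have h5 : A ≤ (S : Subgroup G) ⊓ PLocal.stabCore p B := le_inf (h𝒜 A hA).1
      (hst.le_of_le_normalizer hB (S.isPGroup'.to_le (h𝒜 A hA).1) (h𝒜 A hA).2 h4)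
    have h6 := PLocal.inf_normal_of_normalizer_le S B fun g hg =>
      mem_normalizer_fintype (hinv _ inf_le_left ⟨A, hA, h5⟩ g hg)
    refine h3 (hcl.ge.trans ((normalClosure_le_normal (N := sInf {A | A ∈ 𝒜 ∧
      A ≤ (S : Subgroup G) ⊓ PLocal.stabCore p B} ⊓ B) ?_).trans (inf_le_left.trans
        (sInf_le ⟨hA, h5⟩))))
    exact inf_le_inf_right B (sInf_le_sInf fun A hA => hA.1)) _ inferInstance
    (Grp.pCore_isPGroup p G)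
  rwa [inf_eq_left.2 (hst.le_pCore hc S ((sInf_le hA₀).trans (h𝒜 A₀ hA₀).1) hI hS)] at h1

end Groups

variable {Ω : Type*} [Group Ω] {S : Subgroup Ω} [Finite S] {F : FusionSystem S} {p : ℕ}
  [Fact p.Prime]

theorem normal_imageAlong_sInf {G : Type*} [Group G] [Finite G] {κ : S →* G}
    (hκ : Function.Injective κ) (T : Sylow p G) (hT : (T : Subgroup G) = κ.range)
    (hreal : ∀ P, P ≤ S → ∀ g : G, (∀ x ∈ P, g * hfn κ x * g⁻¹ ∈ κ.range) →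
      ∃ f, IsMap F P f ∧ ∀ x ∈ P, hfn κ (f x) = g * hfn κ x * g⁻¹)
    (hc : centralizer (pCore p G : Set G) ≤ pCore p G) (hst : PLocal.StableOnNormal p G)
    (𝒜 : Set (Subgroup Ω)) (h𝒜 : ∀ A ∈ 𝒜, A ≤ S ∧ IsMulCommutative A) (hne : 𝒜.Nonempty)
    (hinv : ∀ Q : Subgroup Ω, Q ≤ S → (∃ A ∈ 𝒜, A ≤ Q) → ∀ α ∈ F.autGroup Q, ∀ x,
      x ∈ sInf {A | A ∈ 𝒜 ∧ A ≤ Q} → afn α x ∈ sInf {A | A ∈ 𝒜 ∧ A ≤ Q})
    (hrep : ∀ B : Subgroup Ω, B ≤ S → ⁅⁅B, B⁆, B⁆ = ⊥ → (∃ A ∈ 𝒜, ⁅B, B⁆ ≤ A ∧ ¬ B ≤ A) →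
      ∃ A ∈ 𝒜, ⁅B, B⁆ ≤ A ∧ ¬ B ≤ A ∧ B ≤ normalizer (A : Set Ω)) :
    (imageAlong κ (sInf 𝒜)).Normal := by
  obtain ⟨b, hb⟩ := gIso_of_injective κ hκ
  set a := hfn κ
  have key : ∀ ℬ : Set (Subgroup Ω), ℬ ⊆ 𝒜 → ℬ.Nonempty → sInf (imX a '' ℬ) = imX a (sInf ℬ) := by
    rintro ℬ hℬ ⟨A₀, hA₀⟩
    have h0 := (h𝒜 A₀ (hℬ hA₀)).1
    ext y
    rw [hb.mem_imX_iff ((sInf_le hA₀).trans h0), mem_sInf, mem_sInf, Set.forall_mem_image]
    exact ⟨fun h => ⟨hb.imX_le h0 (h hA₀), fun A hA => hb.inv_mem (h𝒜 A (hℬ hA)).1 (h hA)⟩,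
      fun h A hA => (hb.mem_imX_iff (h𝒜 A (hℬ hA)).1).2 ⟨h.1, h.2 A hA⟩⟩
  obtain ⟨A₀, hA₀⟩ := id hne
  rw [← imX_hfn κ ((sInf_le hA₀).trans (h𝒜 A₀ hA₀).1), ← key 𝒜 le_rfl hne]
  refine sInf_normal_of_axioms hc hst T _ ?_ (hne.image _) (fun Q' hQ' hex g hg y hy => ?_)
    fun B' hB' h2 hex => ?_
  · rintro _ ⟨A, hA, rfl⟩
    refine ⟨hT ▸ hb.imX_le (h𝒜 A hA).1, ?_⟩
    have := (h𝒜 A hA).2
    refine IsMulCommutative.of_setLike_mul_comm fun x hx y hy => ?_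
    obtain ⟨x, hx', rfl⟩ := (hb.mem_imX (h𝒜 A hA).1).1 hx
    obtain ⟨y, hy', rfl⟩ := (hb.mem_imX (h𝒜 A hA).1).1 hy
    rw [← hfn_mul κ ((h𝒜 A hA).1 hx') ((h𝒜 A hA).1 hy'), setLike_mul_comm (s := A) hx' hy',
      hfn_mul κ ((h𝒜 A hA).1 hy') ((h𝒜 A hA).1 hx')]
  · obtain ⟨Q, hQ, rfl⟩ : ∃ Q, Q ≤ S ∧ imX a Q = Q' :=
      ⟨_, hb.symm.imX_le (hT ▸ hQ'), hb.imX_imX' (hT ▸ hQ')⟩
    have e : {A | A ∈ imX a '' 𝒜 ∧ A ≤ imX a Q} = imX a '' {A | A ∈ 𝒜 ∧ A ≤ Q} := by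
      ext A'
      constructor
      · rintro ⟨⟨A, hA, rfl⟩, h⟩
        exact ⟨A, ⟨hA, (hb.imX_le_imX_iff (h𝒜 A hA).1 hQ).1 h⟩, rfl⟩
      · rintro ⟨A, hA, rfl⟩
        exact ⟨⟨A, hA.1, rfl⟩, imX_mono a hA.2⟩
    obtain ⟨_, ⟨A, hA, rfl⟩, hAQ⟩ := hex
    rw [hb.imX_le_imX_iff (h𝒜 A hA).1 hQ] at hAQ
    have hI : sInf {A | A ∈ 𝒜 ∧ A ≤ Q} ≤ Q :=
      (sInf_le (show A ∈ {A | A ∈ 𝒜 ∧ A ≤ Q} from ⟨hA, hAQ⟩)).trans hAQ
    rw [e, key {A | A ∈ 𝒜 ∧ A ≤ Q} (fun A hA => hA.1) ⟨A, hA, hAQ⟩] at hy ⊢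
    obtain ⟨x, hx, rfl⟩ := (hb.mem_imX (hI.trans hQ)).1 hy
    have hm : ∀ x ∈ Q, g * a x * g⁻¹ ∈ imX a Q := fun x hx =>
      (mem_normalizer_iff.1 hg _).1 (mem_imX_of_mem a hx)
    obtain ⟨f, hf, ef⟩ := hreal Q hQ g fun x hx => hb.imX_le hQ (hm x hx)
    obtain ⟨α, hα, eα⟩ := hf.exists_aut' fun x hx =>
      (hb.map_mem_imX_iff hQ (hf.mem hx)).1 (by rw [ef x hx]; exact hm x hx)
    rw [← ef x (hI hx), ← eα x (hI hx)]
    exact mem_imX_of_mem a (hinv Q hQ ⟨A, hA, hAQ⟩ α hα x hx)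
  · obtain ⟨B, hB, rfl⟩ : ∃ B, B ≤ S ∧ imX a B = B' :=
      ⟨_, hb.symm.imX_le (hT ▸ hB'), hb.imX_imX' (hT ▸ hB')⟩
    have hBB : ⁅B, B⁆ ≤ S := (commutator_le_self B).trans hB
    rw [← hb.imX_commutator hB hB] at h2 hex ⊢
    rw [← hb.imX_commutator hBB hB, hb.imX_eq_bot_iff ((commutator_mono hBB hB).trans
      (commutator_le_self S))] at h2
    obtain ⟨_, ⟨A, hA, rfl⟩, h3, h4⟩ := hex
    obtain ⟨A, hA, h3, h4, h5⟩ := hrep B hB h2 ⟨A, hA,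
      (hb.imX_le_imX_iff hBB (h𝒜 A hA).1).1 h3, fun h => h4 (imX_mono a h)⟩
    exact ⟨_, ⟨A, hA, rfl⟩, imX_mono a h3, fun h => h4 ((hb.imX_le_imX_iff hB (h𝒜 A hA).1).1 h),
      ((imX_mono a (le_inf le_rfl h5 : B ≤ normalizerIn B A)).trans
        (hb.imX_normalizerIn_le hB (h𝒜 A hA).1)).trans inf_le_right⟩

theorem eq_inner_of_axioms {Ω : Type u} [Group Ω] {S : Subgroup Ω} [Finite S] {F : FusionSystem S}
    (hp : p ≠ 2) (hS : IsPGroup p S) (hF : F.IsSaturated p)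
    (𝒜 : Set (Subgroup Ω)) (h𝒜 : ∀ A ∈ 𝒜, A ≤ S ∧ IsMulCommutative A) (hne : 𝒜.Nonempty)
    (hinv : ∀ Q : Subgroup Ω, Q ≤ S → (∃ A ∈ 𝒜, A ≤ Q) → ∀ α ∈ F.autGroup Q, ∀ x,
      x ∈ sInf {A | A ∈ 𝒜 ∧ A ≤ Q} → afn α x ∈ sInf {A | A ∈ 𝒜 ∧ A ≤ Q})
    (hrep : ∀ B : Subgroup Ω, B ≤ S → ⁅⁅B, B⁆, B⁆ = ⊥ → (∃ A ∈ 𝒜, ⁅B, B⁆ ≤ A ∧ ¬ B ≤ A) →
      ∃ A ∈ 𝒜, ⁅B, B⁆ ≤ A ∧ ¬ B ≤ A ∧ B ≤ normalizer (A : Set Ω))
    (h1 : sInf 𝒜 ≤ S) (h2 : S ≤ normalizer ((sInf 𝒜 : Subgroup Ω) : Set Ω))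
    (h : NilN p F (sInf 𝒜)) : F = innerFusionSystem S := by
  by_contra hne'
  obtain ⟨E, h3, h4, h5⟩ := exists_constrained_le_odd hp hS hF hne'
  obtain ⟨G, _, ι, hG⟩ := exists_model hS h4
  obtain ⟨_, hr, ⟨T, hT⟩, hc⟩ := id hG
  have h6 := npc_normalizer_of_inner hr T hT h1 h2 fun P f hf =>
    (h.of_sub h3).isMap_inner hS h4.1 (fullyNormalized_of_le_normalizer E h1 h2) hf
  have h7 : (T : Subgroup G) ≠ ⊤ := fun e => h5 (eq_inner_of_npc hr T hT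
    (Transfer.hasNormalPComplement_of_isPGroup ((e ▸ T.isPGroup').of_equiv topEquiv)))
  obtain ⟨H, hTH, -⟩ := exists_covBy_le_of_lt (lt_top_iff_ne_top.2 h7)
  have hm : ∀ s : S, ι s ∈ H := fun s => hTH.le (hT ▸ ⟨s, rfl⟩)
  let κ := ι.codRestrict H hm
  have hκ : ∀ x, ((hfn κ x : H) : G) = hfn ι x := fun x => by
    by_cases hx : x ∈ S
    · rw [hfn_apply κ hx, hfn_apply ι hx]; rfl
    · simp [hfn, hx]
  have hrange : ∀ {y : H}, y ∈ κ.range ↔ (y : G) ∈ ι.range :=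
    ⟨fun ⟨s, e⟩ => ⟨s, congrArg Subtype.val e⟩, fun ⟨s, e⟩ => ⟨s, Subtype.ext e⟩⟩
  have hT' : ((T.subtype hTH.le : Sylow p H) : Subgroup H) = κ.range := by
    ext y
    rw [hrange, ← hT, Sylow.coe_subtype, mem_subgroupOf]
  have hO : (pCore p G).subgroupOf H ≤ pCore p H :=
    Grp.le_pCore inferInstance (Grp.pCore_isPGroup p G).comap_subtype
  have hOH : pCore p G ≤ H := (Grp.pCore_le_sylow T).trans hTH.le
  have hc' : centralizer (pCore p H : Set H) ≤ pCore p H := fun x hx =>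
    hO (hc fun y hy => congrArg Subtype.val (hx ⟨y, hOH hy⟩ (hO hy)))
  have hco : IsCoatom ((T.subtype hTH.le : Sylow p H) : Subgroup H) := by
    rw [Sylow.coe_subtype]
    refine ⟨fun e => hTH.lt.not_ge (subgroupOf_eq_top.1 e), fun K hK => ?_⟩
    have h8 : (T : Subgroup G) < K.map H.subtype := by
      rw [← map_subgroupOf_eq_of_le hTH.le]
      exact (map_lt_map_iff_of_injective H.subtype_injective).2 hK
    have h9 := (hTH.eq_or_eq h8.le (map_subtype_le K)).resolve_left h8.ne'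
    exact map_injective H.subtype_injective (by rw [h9, ← MonoidHom.range_eq_map, range_subtype])
  have h8 := normal_imageAlong_sInf (F := F) (κ := κ) (fun a b e => hr.1 (congrArg Subtype.val e))
    _ hT' (fun P hP g hg => by
      obtain ⟨f, hf, e⟩ := IsRealizedBy_exists_isMap hr hP g fun x hx => by
        rw [← hκ]; exact hrange.1 (hg x hx)
      exact ⟨f, hf.of_sub h3, fun x hx => Subtype.ext (by rw [hκ, e x hx, ← hκ]; rfl)⟩)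
    hc' (stableOnNormal_of_isCoatom hp _ hco) 𝒜 h𝒜 hne hinv hrep
  have h9 : HasNormalPComplement p H := Transfer.HasNormalPComplement.of_le h6 fun g hg => mem_normalizer_fintype fun y hy => by
    obtain ⟨x, hx, rfl⟩ := (mem_imageAlong_of_le h1).1 hy
    obtain ⟨z, hz, e⟩ := (mem_imageAlong_of_le h1).1
      (h8.conj_mem _ (hfn_mem_imageAlong κ hx (h1 hx)) ⟨g, hg⟩)
    rw [← hκ, show g * ((hfn κ x : H) : G) * g⁻¹ = hfn ι z by rw [← hκ, e]; rfl]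
    exact hfn_mem_imageAlong ι hz (h1 hz)
  have h10 : IsPGroup p H := Transfer.pResidual_eq_bot_iff.1 (eq_bot_iff.2
    (Transfer.pResidual_le_iff.2 fun x hx => Transfer.eq_one_of_mem_isPGroup_of_coprime
      (Grp.pCore_isPGroup p H) (hc' (Transfer.HasNormalPComplement.mem_centralizer h9
        (Grp.pCore_isPGroup p H) (le_normalizer_of_normal (mem_top x)) hx)) hx))
  exact hTH.lt.ne (T.is_maximal' h10 hTH.le).symm

end Cfsg.Agent.Fus
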