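import Mathlib
import Cfsg.Agent.Fus.Normal
import Cfsg.Agent.Fus.AutCop

/-!
The centre of a fusion system as a direct factor of `Z(S)`.
-/

set_option autoImplicit false

namespace Cfsg.Agent.Fus

open Cfsg Cfsg.FusionSystem Subgroup

theorem exists_compl_fixed {A W : Type*} [Group A] [Finite A] [CommGroup W] {p : ℕ}
    [Fact p.Prime] (hW : IsPGroup p W) (ρ : A →* MulAut W) (P : Subgroup A) (hP : ¬ p ∣ P.index) :
    ∃ K : Subgroup W, (∀ w ∈ K, (∀ a, ρ a w = w) → w = 1) ∧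
      ∀ z, (∀ a ∈ P, ρ a z = z) → ∃ c, (∀ a, ρ a c = c) ∧ c⁻¹ * z ∈ K := by
  classical
  have : Fintype (A ⧸ P) := Fintype.ofFinite _
  let τ : W →* W := ∏ q : A ⧸ P, (ρ q.out).toMonoidHom
  have hτ : ∀ w, τ w = ∏ q : A ⧸ P, ρ q.out w := fun w => by simp [τ]
  have h1 : ∀ w, (∀ a, ρ a w = w) → τ w = w ^ P.index := fun w hw => by
    simp [hτ, hw, index_eq_card]
  have hc : P.index.Coprime p := ((Nat.Prime.coprime_iff_not_dvd Fact.out).2 hP).symm
  have h2 : ∀ w : W, P.index.Coprime (orderOf w) := fun w => by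
    obtain ⟨k, hk⟩ := IsPGroup.iff_orderOf.1 hW w
    rw [hk]; exact hc.pow_right k
  refine ⟨τ.ker, fun w hw h => ?_, fun z hz => ?_⟩
  · rw [MonoidHom.mem_ker, h1 w h, ← orderOf_dvd_iff_pow_eq_one] at hw
    exact orderOf_eq_one_iff.1 ((h2 w).symm.eq_one_of_dvd hw)
  · have h3 : ∀ a, ρ a (τ z) = τ z := fun a => by
      rw [hτ, map_prod]
      refine Fintype.prod_equiv (MulAction.toPerm a) _ _ fun q => ?_
      have h4 : ((a • q).out)⁻¹ * (a * q.out) ∈ P := by
        rw [← QuotientGroup.eq, QuotientGroup.out_eq', ← smul_eq_mul,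
          MulAction.Quotient.mk_smul_out]
      have h5 := congrArg (ρ (a • q).out) (hz _ h4)
      rw [← MulAut.mul_apply, ← map_mul, mul_inv_cancel_left, map_mul, MulAut.mul_apply] at h5
      exact h5
    obtain ⟨m, hm⟩ := exists_pow_eq_self_of_coprime (h2 (τ z))
    have h4 : ∀ a, ρ a (τ z ^ m) = τ z ^ m := fun a => by rw [map_pow, h3]
    refine ⟨τ z ^ m, h4, ?_⟩
    rw [MonoidHom.mem_ker, map_mul, map_inv, h1 _ h4, ← pow_mul, mul_comm m, pow_mul, hm,
      inv_mul_cancel]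

variable {Ω : Type*} [Group Ω] {S : Subgroup Ω} [Finite S] {F : FusionSystem S} {p : ℕ}
  [Fact p.Prime]

open scoped IsMulCommutative in
theorem exists_compl_center (hS : IsPGroup p S) (hF : F.IsSaturated p) {Q : Subgroup Ω}
    (hQ : F.IsNormal Q) (hZ : centralizerIn S S ≤ Q) :
    ∃ K : Subgroup Ω, K ≤ centralizerIn S S ∧ F.center ⊓ K = ⊥ ∧
      F.center ⊔ K = centralizerIn S S := by
  have : Finite Q := finite_of_le hQ.1
  obtain ⟨ρ, hρ⟩ := AC.exists_subHom (AC.inv_of_char (F.autGroup Q) (center Q))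
  have hA := sat_fullyAutomized hS hF
    (fullyNormalized_of_weaklyClosed (weaklyClosed_of_isNormal hQ))
  obtain ⟨K, h1, h2⟩ := exists_compl_fixed (((isPGroup_of_le hS hQ.1).to_subgroup (center Q))) ρ
    ((autInducedBy S Q).subgroupOf _) (SylIn.not_dvd_relIndex hA.2)
  have hc : ∀ w : center Q, (∀ a, ρ a w = w) ↔ ((w : Q) : Ω) ∈ F.center := fun w => by
    constructor
    · refine fun h => (mem_center_iff hS hF).2 ⟨hQ.1 (w : Q).2, fun P f hf hw => ?_⟩
      obtain ⟨g, hg, e, hi⟩ := IsNormal_extend hQ hf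
      obtain ⟨α, hα, eα⟩ := (hg.mono le_sup_right).exists_aut hi
      rw [← e _ hw, ← eα _ (w : Q).2, afn_coe, ← hρ ⟨α, hα⟩, h]
    · intro h a
      refine Subtype.ext (Subtype.ext ?_)
      rw [hρ, ← afn_coe]
      exact (isMap_afn hQ.1 a.2).eq_of_isCentral (isCentral_center F) (w : Q).2 h
  have hZF : F.center ≤ centralizerIn S S := fun z hz => ⟨center_le F hz, fun s hs => by
    have := (isMap_conj F le_rfl hs).eq_of_isCentral (isCentral_center F) (center_le F hz) hz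
    exact mul_inv_eq_iff_eq_mul.1 this⟩
  refine ⟨(K.map (center Q).subtype).map Q.subtype ⊓ centralizerIn S S, inf_le_right,
    eq_bot_iff.2 ?_, le_antisymm (sup_le hZF inf_le_right) fun z hz => ?_⟩
  · rintro _ ⟨hz, ⟨_, ⟨w, hw, rfl⟩, rfl⟩, -⟩
    rw [h1 w hw ((hc w).2 hz)]
    exact one_mem _
  · let w : center Q := ⟨⟨z, hZ hz⟩, Subgroup.mem_center_iff.2 fun y => Subtype.ext (hz.2 y (hQ.1 y.2))⟩
    obtain ⟨c, h3, h4⟩ := h2 w fun a ha => by
      obtain ⟨g, hg, e⟩ := mem_autInducedBy_iff.1 ha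
      refine Subtype.ext (Subtype.ext ?_)
      rw [hρ]
      exact (e _).trans (mul_inv_eq_iff_eq_mul.2 (hz.2 g hg))
    rw [← mul_inv_cancel_left ((c : Q) : Ω) z]
    exact mul_mem_sup ((hc c).1 h3) ⟨⟨_, ⟨_, h4, rfl⟩, rfl⟩,
      (centralizerIn S S).mul_mem ((centralizerIn S S).inv_mem (hZF ((hc c).1 h3))) hz⟩

end Cfsg.Agent.Fus
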