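import Mathlib
import Cfsg.Agent.Fus.FunctorThm

set_option autoImplicit false
universe u

namespace Cfsg.Agent.Fus
open Cfsg Cfsg.FusionSystem

variable {p : ℕ} [Fact p.Prime] {W : ∀ (Q : Type u) [Group Q], Subgroup Q}
  {𝒞 : ∀ {Ω : Type u} [Group Ω] {S : Subgroup Ω}, FusionSystem S → Prop}
  {𝒢 : ∀ (G : Type u) [Group G], Prop}

/-- Elements of the centre of the normalizer system of `W(S)` are central in `S`. -/
theorem mem_centralizerIn_of_mem_center_induced (hW : IsCharPFunctor.{u} p W)
    {Ω : Type u} [Group Ω] {S : Subgroup Ω} [Finite S] {F : FusionSystem S}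
    (hS : IsPGroup p S) (hF : F.IsSaturated p) {U : Subgroup Ω} (hU : inducedFunctor W S = U)
    {N : FusionSystem (normalizerIn S U)} (hN : F.IsNormalizerSystem U N) {z : Ω}
    (hz : z ∈ N.center) : z ∈ centralizerIn S S := by
  subst hU
  have hW' := isFunctorOn_induced hW hS F
  have hfn := fullyNormalized_of_le_normalizer F (hW'.le S le_rfl) hW'.le_normalizer
  have hNs := normalizerSystem_saturated hS hF hfn hN
  have hT := isPGroup_of_le hS (normalizerIn_le S (inducedFunctor W S))
  have hST : S ≤ normalizerIn S (inducedFunctor W S) := le_inf le_rfl hW'.le_normalizer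
  rw [mem_center_iff hT hNs] at hz
  exact mem_centralizerIn.2 ⟨hz.1.1, fun x hx => by
    have := hz.2 _ _ (isMap_conj N le_rfl (hST hx)) hz.1
    exact mul_inv_eq_iff_eq_mul.1 this⟩

theorem center_le_center_induced (hW : IsCharPFunctor.{u} p W)
    {Ω : Type u} [Group Ω] {S : Subgroup Ω} [Finite S] {F : FusionSystem S}
    (hS : IsPGroup p S) (hF : F.IsSaturated p) {U : Subgroup Ω} (hU : inducedFunctor W S = U)
    {N : FusionSystem (normalizerIn S U)} (hN : F.IsNormalizerSystem U N) :
    F.center ≤ N.center := by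
  subst hU
  have hW' := isFunctorOn_induced hW hS F
  have hfn := fullyNormalized_of_le_normalizer F (hW'.le S le_rfl) hW'.le_normalizer
  have hNs := normalizerSystem_saturated hS hF hfn hN
  have hT := isPGroup_of_le hS (normalizerIn_le S (inducedFunctor W S))
  have hNm := isNormalizerSystem_iff.1 hN
  have hST : S ≤ normalizerIn S (inducedFunctor W S) := le_inf le_rfl hW'.le_normalizer
  intro z
  rw [mem_center_iff hT hNs, mem_center_iff hS hF]
  exact fun ⟨h1, h2⟩ => ⟨hST h1, fun P f hf => h2 P f ((hNm P f).1 hf).isMap⟩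

/-- Control of weak closure of `k`-th powers of central elements, in terms of centres. -/
theorem pow_mem_center_of_induced (hW : IsCharPFunctor.{u} p W) (h𝒞 : GoodClass p 𝒞 𝒢) (k : ℕ)
    (base : ∀ (G : Type u) [Group G] [Finite G] (T : Sylow p G),
      Subgroup.centralizer ((pCore p G : Subgroup G) : Set G) ≤ pCore p G → 𝒢 G →
      ∀ w ∈ centralizerIn (T : Subgroup G) T, w ^ k ∈ pCore p G →
        (∀ g ∈ Subgroup.normalizer (inducedFunctor W (T : Subgroup G) : Set G),
          g * w ^ k * g⁻¹ = w ^ k) → ∀ g : G, g * w ^ k * g⁻¹ = w ^ k)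
    {Ω : Type u} [Group Ω] {S : Subgroup Ω} [Finite S] {F : FusionSystem S}
    (hS : IsPGroup p S) (hF : F.IsSaturated p) (hC : 𝒞 F) {U : Subgroup Ω}
    (hU : inducedFunctor W S = U)
    {N : FusionSystem (normalizerIn S U)} (hN : F.IsNormalizerSystem U N) {w : Ω}
    (hw : w ∈ centralizerIn S S) (hz : w ^ k ∈ N.center) : w ^ k ∈ F.center := by
  subst hU
  have hW' := isFunctorOn_induced hW hS F
  have hfn := fullyNormalized_of_le_normalizer F (hW'.le S le_rfl) hW'.le_normalizer
  have hNs := normalizerSystem_saturated hS hF hfn hN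
  have hT := isPGroup_of_le hS (normalizerIn_le S (inducedFunctor W S))
  have hNm := isNormalizerSystem_iff.1 hN
  rw [mem_center_iff hT hNs] at hz
  rw [mem_center_iff hS hF]
  exact ⟨hz.1.1, fix_of_induced hW h𝒞 k base F hS hF hC w hw
    fun P f hf => hz.2 P f ((hNm P f).2 hf)⟩

theorem center_eq_of_induced (hW : IsCharPFunctor.{u} p W) (h𝒞 : GoodClass p 𝒞 𝒢)
    (base : ∀ (G : Type u) [Group G] [Finite G] (T : Sylow p G),
      Subgroup.centralizer ((pCore p G : Subgroup G) : Set G) ≤ pCore p G → 𝒢 G →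
      ∀ w ∈ centralizerIn (T : Subgroup G) T, w ∈ pCore p G →
        (∀ g ∈ Subgroup.normalizer (inducedFunctor W (T : Subgroup G) : Set G),
          g * w * g⁻¹ = w) → ∀ g : G, g * w * g⁻¹ = w)
    {Ω : Type u} [Group Ω] {S : Subgroup Ω} [Finite S] {F : FusionSystem S}
    (hS : IsPGroup p S) (hF : F.IsSaturated p) (hC : 𝒞 F) {U : Subgroup Ω}
    (hU : inducedFunctor W S = U)
    {N : FusionSystem (normalizerIn S U)} (hN : F.IsNormalizerSystem U N) :
    N.center = F.center := by
  refine le_antisymm (fun z hz => ?_) (center_le_center_induced hW hS hF hU hN)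
  have := pow_mem_center_of_induced hW h𝒞 1 (by simpa only [pow_one] using base) hS hF hC hU hN
    (mem_centralizerIn_of_mem_center_induced hW hS hF hU hN hz) (by rwa [pow_one])
  rwa [pow_one] at this

/-- The subgroup generated by the `k`-th powers of central elements consists of such powers. -/
theorem exists_pow_of_mem_closure {Ω : Type*} [Group Ω] {S : Subgroup Ω} (k : ℕ) {z : Ω}
    (hz : z ∈ Subgroup.closure ((fun z : Ω => z ^ k) ''
      ((S ⊓ Subgroup.centralizer (S : Set Ω) : Subgroup Ω) : Set Ω))) :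
    ∃ w ∈ centralizerIn S S, w ^ k = z := by
  induction hz using Subgroup.closure_induction with
  | mem x hx =>
    obtain ⟨w, hw, rfl⟩ := hx
    exact ⟨w, hw, rfl⟩
  | one => exact ⟨1, one_mem _, one_pow k⟩
  | mul x y _ _ hx hy =>
    obtain ⟨a, ha, rfl⟩ := hx
    obtain ⟨b, hb, rfl⟩ := hy
    refine ⟨a * b, mul_mem ha hb, Commute.mul_pow ?_ k⟩
    exact (mem_centralizerIn.1 hb).2 a ha.1
  | inv x _ hx =>
    obtain ⟨a, ha, rfl⟩ := hx
    exact ⟨a⁻¹, inv_mem ha, inv_pow a k⟩

end Cfsg.Agent.Fus
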