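import Cfsg.Agent.Fus.AbelIdx
import Cfsg.Agent.Fus.GenES
import Cfsg.Agent.FGS.IndexP

/-! Essential subgroups normalized by groups of transvections with a common centre. -/

set_option autoImplicit false

namespace Cfsg.Agent.Fus

open Subgroup Cfsg.FusionSystem
open scoped commutatorElement

variable {Ω : Type*} [Group Ω] {S : Subgroup Ω} {F : FusionSystem S} {P Q : Subgroup Ω}
  {p : ℕ} [hp : Fact p.Prime] [Finite S]

/-- The strongly `p`-embedded subgroup, in the form of a separating automorphism. -/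
theorem exists_aut_sep (hS : IsPGroup p S) (hF : F.IsSaturated p) (hP : F.IsEssential p P) :
    ∃ α ∈ F.autGroup P, ∀ B ≤ F.autGroup P, IsPGroup p B → ∀ q (hq : q ∈ normalizerIn S P) r
      (hr : r ∈ normalizerIn S P), conjAut P q hq.2 ∈ B → α * conjAut P r hr.2 * α⁻¹ ∈ B →
      q ∈ P ∨ r ∈ P := by
  obtain ⟨α, hα, hα'⟩ := SetLike.not_le_iff_exists.1 (essential_not_le_extAut hS hF hP)
  refine ⟨α, hα, fun B hB hB' q hq r hr h1 h2 => by_contra fun hn => hα' ?_⟩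
  have := finite_mulAut hP.1.1
  obtain ⟨γ, hγ, e⟩ := SylIn.exists_conj (sat_fullyAutomized hS hF hP.2.1).2 hB' hB
  have h3 := mem_extAut hγ fun hle => hn (.inl (hle (mem_Nf_afn hq (e _ h1))))
  have h4 := mem_extAut (mul_mem hγ hα) fun hle => hn (.inr (hle (mem_Nf_afn hr (by
    simpa [mul_assoc] using e _ h2))))
  simpa using mul_mem (inv_mem h3) h4

theorem exists_centralizer_le (hS : IsPGroup p S) (hF : F.IsSaturated p) (hP : F.IsEssential p P)
    (z : P) : ∃ w : P, ∀ q (hq : q ∈ normalizerIn S P),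
      (∀ e : P, e⁻¹ * conjAut P q hq.2 e ∈ zpowers z) → conjAut P q hq.2 z = z →
      conjAut P q hq.2 w = w → q ∈ P := by
  obtain ⟨α, hα, h⟩ := exists_aut_sep hS hF hP
  have := finite_of_le hP.1.1
  refine ⟨α z, fun q hq h1 h2 h3 => ?_⟩
  have hA := autInducedBy_le_autGroup F hP.1.1 (conjAut_mem_autInducedBy hq)
  have h4 : ∀ y, y⁻¹ * (α * conjAut P q hq.2 * α⁻¹) y ∈ zpowers (α z) := fun y => by
    obtain ⟨i, hi⟩ := h1 (α⁻¹ y)
    exact ⟨i, by simpa using congrArg α hi⟩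
  have h5 : zpowers (α z) ⊔ zpowers z ≤ AC.fix₁ (conjAut P q hq.2) :=
    sup_le (zpowers_le.2 h3) (zpowers_le.2 h2)
  refine (h (AC.stab3 (zpowers (α z)) (zpowers (α z) ⊔ zpowers z) le_sup_left ⊓ F.autGroup P)
    inf_le_right ((AC.isPGroup_stab3 (isPGroup_of_le hS hP.1.1) _ _ _).to_le inf_le_left) q hq q hq
    ⟨⟨fun y hy => h5 (mem_sup_left hy), fun y hy => ?_, fun y => mem_sup_right (h1 y)⟩, hA⟩
    ⟨⟨fun y hy => ?_, fun y _ => h4 y, fun y => mem_sup_left (h4 y)⟩,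
      Subgroup.mul_mem _ (mul_mem hα hA) (Subgroup.inv_mem _ hα)⟩).elim id id
  · rw [show conjAut P q hq.2 y = y from h5 hy, inv_mul_cancel]; exact one_mem _
  · exact (zpowers_le (H := AC.fix₁ _)).2 (by simp [AC.mem_fix₁, h2]) hy

/-- An essential subgroup properly inside a subgroup with derived group of order `p`. -/
theorem index_center_of_essential (hS : IsPGroup p S) (hF : F.IsSaturated p)
    (hP : F.IsEssential p P) (hPQ : P < Q) (hQ : Q ≤ S) {z : Ω} (hz : orderOf z = p) (hzP : z ∈ P)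
    (hzQ : ∀ q ∈ Q, Commute q z) (hc : ∀ a ∈ Q, ∀ b ∈ Q, ⁅a, b⁆ ∈ zpowers z) :
    (center Q).index = p ^ 2 := by
  have := finite_of_le hQ
  have := finite_of_le hP.1.1
  have hN : Q ≤ normalizerIn S P := fun q hq => ⟨hQ hq, mem_normalizer_of_conj_mem fun e he => by
    simpa [commutatorElement_def] using mul_mem (zpowers_le.2 hzP (hc q hq e (hPQ.le he))) he⟩
  have h1 : ∀ q (hq : q ∈ Q) (e : P), e⁻¹ * conjAut P q (hN hq).2 e ∈ zpowers (⟨z, hzP⟩ : P) :=
    fun q hq e => by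
      obtain ⟨i, hi⟩ := hc _ (inv_mem (hPQ.le e.2)) q hq
      exact ⟨i, Subtype.ext (by simpa [commutatorElement_def, mul_assoc] using hi)⟩
  obtain ⟨q₀, hq₀, hq₀'⟩ := SetLike.exists_of_lt hPQ
  have hPP := isPGroup_of_le hS hP.1.1
  have hab := (AC.comm_or P).resolve_right fun ⟨a, b, hab⟩ => hq₀' (by
    obtain ⟨j, hj⟩ := hc a (hPQ.le a.2) b (hPQ.le b.2)
    obtain ⟨i, hi⟩ := AC.exists_zpow_of_mem_zpowers (z := (⟨z, hzP⟩ : P))
      (Subtype.ext (hz ▸ pow_orderOf_eq_one z)) ⟨j, Subtype.ext hj⟩ hab (mem_zpowers _)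
    have h2 : (⟨z, hzP⟩ : P) ∈ frattini P := hi ▸ zpow_mem (Grp.PFrattini.commutator_le_frattini hPP
        (commutator_mem_commutator (mem_top a) (mem_top b))) i
    exact (conjAut_mem_inn_iff hP.1.1 (isCentric_self hP.1) (hN hq₀)).1
      ((ess_of_essential hS hF hP).mem_inn_of_frattini hPP
        (autInducedBy_le_autGroup F hP.1.1 (conjAut_mem_autInducedBy (hN hq₀)))
        fun y => zpowers_le.2 h2 (h1 q₀ hq₀ y)))
  obtain ⟨w, hw⟩ := exists_centralizer_le hS hF hP ⟨z, hzP⟩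
  have h3 : ∀ q : Q, q * inclusion hPQ.le w = inclusion hPQ.le w * q → (q : Ω) ∈ P := fun q e =>
    hw q (hN q.2) (h1 q q.2) (Subtype.ext (mul_inv_eq_of_eq_mul (hzQ q q.2)))
      (Subtype.ext (mul_inv_eq_of_eq_mul (congrArg Subtype.val e)))
  refine AC.index_center_of_abelian_centralizer (z := ⟨z, hPQ.le hzP⟩) (by rwa [← orderOf_coe])
    (isPGroup_of_le hS hQ) (fun a b => ?_) (x := ⟨q₀, hq₀⟩) (w := inclusion hPQ.le w)
    (fun e => hq₀' (h3 _ (commutatorElement_eq_one_iff_mul_comm.1 e))) fun a b ha hb =>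
      Subtype.ext (congrArg Subtype.val (hab ⟨a, h3 a ha⟩ ⟨b, h3 b hb⟩) :)
  obtain ⟨i, hi⟩ := hc a a.2 b b.2
  exact ⟨i, Subtype.ext hi⟩

theorem mem_center_of_isES (hS : IsPGroup p S) (hQ : Q ≤ S) (hi : Q.relIndex S = p) {z : Ω}
    (h : Grp.ES.IsES p z Q) : z ∈ centralizerIn S S := by
  have := FGS.normal_of_index_eq_prime hS hi
  have hn : (zpowers (⟨z, hQ h.mem⟩ : S)).Normal := ⟨by
    rintro _ ⟨i, rfl⟩ g
    rw [← conj_zpow]
    refine zpow_mem ?_ i
    obtain ⟨j, hj⟩ := h.center _ (this.conj_mem ⟨z, hQ h.mem⟩ h.mem g) fun b hb => by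
      have := h.central _ (this.conj_mem' ⟨b, hQ hb⟩ hb g)
      simpa [mul_assoc] using (this.map (MulAut.conj (g : Ω))).symm
    exact ⟨j, Subtype.ext (by simpa using hj)⟩⟩
  exact map_center_eq S ▸ ⟨⟨z, hQ h.mem⟩, Grp.PChain.le_center_of_card_eq_prime hS (zpowers ⟨z, _⟩)
    (by rw [Nat.card_zpowers, ← orderOf_coe, h.ord]) (mem_zpowers _), rfl⟩

end Cfsg.Agent.Fus
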