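import Mathlib
import Cfsg.Agent.Inv.AutTwo

/-! Sections of wreath products of a Sylow 2-subgroup of `GL₂(q)`: abstract data and normal
abelian subgroups. -/

set_option autoImplicit false
set_option linter.unusedSectionVars false

namespace Cfsg.Agent.Fus.LnS

open Subgroup Equiv
open scoped commutatorElement

variable {Γ U : Type*} [Group Γ] [CommGroup U]

/-- What is used about a Sylow 2-subgroup `R` of `GL₂(q)`. -/
structure RD (R A : Subgroup Γ) (δ : Γ →* U) (s : U →* Γ) (y c a : Γ) (k : ℕ) : Prop where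
  AR : A ≤ R
  comm : ∀ x ∈ A, ∀ x' ∈ A, x * x' = x' * x
  yR : y ∈ R
  δy : δ y = 1
  dec : ∀ r ∈ R, r ∈ A ∨ r * y⁻¹ ∈ A
  bar : ∀ x ∈ A, y * x * y⁻¹ ∈ A
  cen : ∀ u g, s u * g = g * s u
  δs : ∀ u, δ (s u) = u * u
  nrm : ∀ x ∈ A, x * (y * x * y⁻¹) = s (δ x)
  sc : ∀ x ∈ A, y * x * y⁻¹ = x → ∃ u, x = s u
  cA : c ∈ A
  δc : δ c = 1
  oc : orderOf c = 2 ^ (k + 2)
  cyc : ∀ x ∈ A, δ x = 1 → x ∈ zpowers c
  aA : a ∈ A
  ya : y * a * y⁻¹ = a * c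
  ns : ¬ IsSquare (δ a)
  sq : ∀ x ∈ A, IsSquare (δ x) ∨ IsSquare (δ x * (δ a)⁻¹)
  ev : ∀ x ∈ A, IsSquare (δ x) → x ^ 2 ^ (k + 1) = 1 ∨ x ^ 2 ^ (k + 1) = c ^ 2 ^ (k + 1)
  one : ∀ u, s u * s u = 1 → s u = 1 ∨ s u = c ^ 2 ^ (k + 1)
  zs : ∃ u, c ^ 2 ^ (k + 1) = s u

namespace RD

variable {R A : Subgroup Γ} {δ : Γ →* U} {s : U →* Γ} {y c a : Γ} {k : ℕ}
  (r : RD R A δ s y c a k) {x g : Γ} {u : U}
include r

theorem yc : y * c * y⁻¹ = c⁻¹ := by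
  have := r.nrm c r.cA
  rw [r.δc, map_one] at this
  exact eq_inv_of_mul_eq_one_right this

theorem pow_eq : c ^ 2 ^ (k + 2) = 1 := r.oc ▸ pow_orderOf_eq_one c

theorem z_ne : c ^ 2 ^ (k + 1) ≠ 1 := fun h => by
  have := Nat.le_of_dvd (by positivity) (r.oc ▸ orderOf_dvd_of_pow_eq_one h)
  rw [pow_succ 2 (k + 1)] at this
  have : 0 < 2 ^ (k + 1) := by positivity
  omega

theorem z_sq : c ^ 2 ^ (k + 1) * c ^ 2 ^ (k + 1) = 1 := by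
  rw [← pow_add, ← mul_two, ← pow_succ, r.pow_eq]

theorem cc_ne : c * c ≠ 1 := fun h => r.z_ne (by rw [pow_succ', pow_mul, pow_two c, h, one_pow])

theorem cj_s (g : Γ) (u : U) : g * s u * g⁻¹ = s u := by rw [← r.cen, mul_inv_cancel_right]

theorem cjA (hg : g ∈ A) (hx : x ∈ A) : g * x * g⁻¹ = x := by
  rw [r.comm g hg x hx, mul_inv_cancel_right]

theorem cjB (hg : g ∈ R) (h : g ∉ A) (hx : x ∈ A) : g * x * g⁻¹ = y * x * y⁻¹ := by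
  have := r.cjA ((r.dec g hg).resolve_left h) (r.bar x hx)
  rw [← this]; group

theorem cj_mem (hg : g ∈ R) (hx : x ∈ A) : g * x * g⁻¹ ∈ A := by
  by_cases h : g ∈ A
  · rwa [r.cjA h hx]
  · rw [r.cjB hg h hx]; exact r.bar x hx

theorem yA : y ∉ A := fun h => r.cc_ne (by
  have := r.yc
  rw [r.cjA h r.cA] at this
  exact mul_eq_one_iff_eq_inv.2 this)

theorem mul_mem_A (hg : g ∈ R) (h : g ∉ A) (hx : x ∈ R) (h' : x ∉ A) : g * x ∈ A := by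
  have h1 := (r.dec _ hg).resolve_left h
  have h2 := (r.dec _ (inv_mem hx)).resolve_left (fun e => h' (inv_mem_iff.1 e))
  convert mul_mem h1 (inv_mem h2) using 1; group

theorem s_mem (h : s u ∈ R) : s u ∈ A := by_contra fun e => r.cc_ne (by
  have := r.cjB h e r.cA
  rw [r.cen, mul_inv_cancel_right, r.yc] at this
  exact mul_eq_one_iff_eq_inv.2 this)

theorem c_ne : c ≠ s u := fun h => r.cc_ne (by
  have := r.yc
  rw [h, r.cj_s, ← h] at this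
  exact mul_eq_one_iff_eq_inv.2 this)

theorem aa_ne : a * a ≠ s u := fun h => r.cc_ne (by
  have h1 := r.cj_s y u
  rw [← h, ← conj_mul, r.ya, mul_assoc, mul_right_inj, ← mul_assoc, r.comm c r.cA a r.aA,
    mul_assoc] at h1
  exact mul_eq_left.1 h1)

theorem k_eq (h : c⁻¹ * c⁻¹ = s u) : k = 0 := by
  have h1 := r.cj_s y u
  rw [← h, ← conj_mul, conj_inv.symm, r.yc, inv_inv] at h1
  have h2 : c ^ 2 ^ 2 = 1 := by
    rw [show c ^ 2 ^ 2 = c * c * (c * c) by simp [pow_succ, mul_assoc]]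
    nth_rw 1 [h1]; group
  have := (Nat.pow_dvd_pow_iff_le_right one_lt_two).1 (r.oc ▸ orderOf_dvd_of_pow_eq_one h2)
  omega

theorem δ_cj (g x : Γ) : δ (g * x * g⁻¹) = δ x := by
  rw [map_mul, map_mul, map_inv, mul_comm (δ g), mul_inv_cancel_right]

theorem δz : δ (c ^ 2 ^ (k + 1)) = 1 := by rw [map_pow, r.δc, one_pow]

theorem cm_mem (hg : g ∈ R) (hx : x ∈ A) : g * x * g⁻¹ * x⁻¹ ∈ zpowers c :=
  r.cyc _ (mul_mem (r.cj_mem hg hx) (inv_mem hx)) (by rw [map_mul, r.δ_cj, map_inv, mul_inv_cancel])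

theorem cm_a : y * a * y⁻¹ * a⁻¹ = c := by rw [r.ya, r.cjA r.aA r.cA]

theorem cm_pow (hx : x ∈ A) (h : IsSquare (δ x)) : (y * x * y⁻¹ * x⁻¹) ^ 2 ^ (k + 1) = 1 := by
  have h1 : x ^ 2 ^ (k + 1) * x ^ 2 ^ (k + 1) = 1 ∧ δ (x ^ 2 ^ (k + 1)) = 1 := by
    rcases r.ev x hx h with e | e <;> rw [e]
    exacts [⟨mul_one _, map_one _⟩, ⟨r.z_sq, r.δz⟩]
  have h2 : y * x * y⁻¹ * x⁻¹ = s (δ x) * (x * x)⁻¹ := by
    rw [← r.nrm x hx, r.comm x hx _ (r.bar x hx)]; group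
  rw [h2, Commute.mul_pow (r.cen _ _), ← map_pow, ← map_pow, h1.2, map_one, one_mul, inv_pow,
    (Commute.refl x).mul_pow, h1.1, inv_one]

theorem cm_pow' (hx : x ∈ A) (h : ¬ IsSquare (δ x)) :
    (y * x * y⁻¹ * x⁻¹) ^ 2 ^ (k + 1) = c ^ 2 ^ (k + 1) := by
  have hb := mul_mem hx (inv_mem r.aA)
  have h1 := r.cm_pow hb (by simpa using (r.sq x hx).resolve_left h)
  have hm := mul_mem (r.bar _ hb) (inv_mem hb)
  have h2 : y * x * y⁻¹ * x⁻¹ = y * (x * a⁻¹) * y⁻¹ * (x * a⁻¹)⁻¹ * c := by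
    rw [mul_assoc _ _ c, r.comm _ (inv_mem hb) c r.cA, ← r.cm_a]; group
  rw [h2, Commute.mul_pow (r.comm _ hm c r.cA), h1, one_mul]

theorem δ_sq (hk : k = 0) (hx : x ∈ A) (h : y * x * y⁻¹ * x⁻¹ * (y * x * y⁻¹ * x⁻¹) = 1) :
    δ x * δ x = 1 := by
  subst hk
  by_cases e : IsSquare (δ x)
  · rw [← map_mul, ← pow_two]
    rcases r.ev x hx e with e | e
    · rw [show x ^ 2 = 1 from e, map_one]
    · rw [show x ^ 2 = _ from e, r.δz]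
  · exact absurd ((r.cm_pow' hx e).symm.trans (by rw [← h, ← pow_two]; rfl)) r.z_ne

end RD

variable {ι K T : Type*} [Fintype ι] [DecidableEq ι] [Nonempty ι] [Group K] [Group T]

/-- `K` is the subgroup of `R ≀ P` cut out by the determinant (if `ev`), and `T` its quotient by
the scalars (if `ev`). -/
structure St (R A : Subgroup Γ) (δ : Γ →* U) (s : U →* Γ) (y c a : Γ) (k : ℕ) (P : Subgroup (Perm ι))
    (ev : Prop) (L : K → ι → Γ) (σ : K →* Perm ι) (π : K →* T) : Prop where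
  r : RD R A δ s y c a k
  mul : ∀ g h i, L (g * h) i = L g i * L h ((σ g)⁻¹ i)
  ext : ∀ g, (∀ i, L g i = 1) → σ g = 1 → g = 1
  mem : ∀ g i, L g i ∈ R
  memP : ∀ g, σ g ∈ P
  det : ev → ∀ g, ∏ i, δ (L g i) = 1
  ex : ∀ f τ, (∀ i, f i ∈ R) → τ ∈ P → (ev → ∏ i, δ (f i) = 1) → ∃ g, L g = f ∧ σ g = τ
  surj : Function.Surjective π
  ker : ∀ g, π g = 1 ↔ σ g = 1 ∧ ∃ u, (∀ i, L g i = s u) ∧ (ev ∨ s u = 1)
  nt : ev → ∀ i : ι, ∃ j, j ≠ i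

/-- there is always a third block -/
def Third (ι : Type*) (ev : Prop) : Prop := ev → ∀ i l : ι, ∃ j, j ≠ i ∧ j ≠ l

/-- there are two blocks -/
def Two (ι : Type*) (ev : Prop) : Prop := ev ∧ ∀ i j : ι, j ≠ i → ∀ l, l = i ∨ l = j

theorem third_or_two (ι : Type*) (ev : Prop) : Third ι ev ∨ Two ι ev := by
  refine or_iff_not_imp_left.2 fun h => ?_
  simp only [Third, not_forall, not_exists, not_and, not_not] at h
  obtain ⟨e, i, l, h⟩ := h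
  refine ⟨e, fun i' j' hij m => ?_⟩
  replace h : ∀ x, x = i ∨ x = l := fun x => or_iff_not_imp_left.2 (h x)
  rcases h i' with a | a <;> rcases h j' with b | b <;> rcases h m with c | c <;> simp_all

namespace St

variable {R A : Subgroup Γ} {δ : Γ →* U} {s : U →* Γ} {y c a : Γ} {k : ℕ} {P : Subgroup (Perm ι)}
  {ev : Prop} {L : K → ι → Γ} {σ : K →* Perm ι} {π : K →* T}
  (d : St R A δ s y c a k P ev L σ π) {g h : K} {i j l : ι} {x : Γ}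
include d

theorem one (i : ι) : L 1 i = 1 := by simpa using d.mul 1 1 i

theorem inv (g : K) (i : ι) : L g⁻¹ i = (L g (σ g i))⁻¹ := by
  have := d.mul g g⁻¹ (σ g i)
  rw [mul_inv_cancel, d.one, show (σ g)⁻¹ (σ g i) = i by simp] at this
  exact eq_inv_of_mul_eq_one_right this.symm

theorem mul₁ (hg : σ g = 1) (h : K) (i : ι) : L (g * h) i = L g i * L h i := by
  rw [d.mul, hg]; rfl

theorem inv₁ (hg : σ g = 1) (i : ι) : L g⁻¹ i = (L g i)⁻¹ := by rw [d.inv, hg]; rfl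

theorem pow₁ (hg : σ g = 1) (n : ℕ) (i : ι) : L (g ^ n) i = L g i ^ n := by
  induction n with
  | zero => simp [d.one]
  | succ n ih => rw [pow_succ', d.mul₁ hg, ih, pow_succ']

theorem zpow₁ (hg : σ g = 1) (n : ℤ) (i : ι) : L (g ^ n) i = L g i ^ n := by
  rcases n with n | n
  · simpa using d.pow₁ hg n i
  · rw [zpow_negSucc, zpow_negSucc, d.inv₁ (by rw [map_pow, hg, one_pow]), d.pow₁ hg]

theorem ext₁ (hg : σ g = 1) (hh : σ h = 1) (e : ∀ i, L g i = L h i) : g = h :=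
  mul_inv_eq_one.1 (d.ext _ (fun i => by rw [d.mul₁ hg, d.inv₁ hh, e, mul_inv_cancel]) (by simp [*]))

theorem cj (hh : σ h = 1) (g : K) (i : ι) :
    L (g * h * g⁻¹) i = L g i * L h ((σ g)⁻¹ i) * (L g i)⁻¹ := by
  rw [d.mul, d.mul, d.inv, map_mul, hh, mul_one, show σ g ((σ g)⁻¹ i) = i by simp]

omit d in
theorem σ_cm (hh : σ h = 1) (g : K) : σ ⁅g, h⁆ = 1 := by rw [map_commutatorElement, hh]; simp

theorem cm (hh : σ h = 1) (g : K) (i : ι) :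
    L ⁅g, h⁆ i = L g i * L h ((σ g)⁻¹ i) * (L g i)⁻¹ * (L h i)⁻¹ := by
  rw [commutatorElement_def, d.mul₁ (by simp [hh]), d.cj hh, d.inv₁ hh]

theorem cm₁ (hg : σ g = 1) (hh : σ h = 1) (i : ι) :
    L ⁅g, h⁆ i = L g i * L h i * (L g i)⁻¹ * (L h i)⁻¹ := by rw [d.cm hh, hg]; rfl

theorem ex1 (i : ι) (hx : x ∈ R) (h1 : ev → δ x = 1) :
    ∃ h, σ h = 1 ∧ L h i = x ∧ ∀ j, j ≠ i → L h j = 1 := by
  obtain ⟨h, e, e'⟩ := d.ex (Pi.mulSingle i x) 1 (fun j => by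
    by_cases c : j = i
    · subst c; simpa
    · simp [c]) (one_mem _) (fun e => by
      rw [Finset.prod_eq_single i (fun j _ c => by simp [c]) (by simp)]; simpa using h1 e)
  exact ⟨h, e', by simp [e], fun j c => by simp [e, c]⟩

theorem ex2 (hj : j ≠ i) (hx : x ∈ R) :
    ∃ h, σ h = 1 ∧ L h i = x ∧ L h j = x⁻¹ ∧ ∀ l, l ≠ i → l ≠ j → L h l = 1 := by
  obtain ⟨h, e, e'⟩ := d.ex (Pi.mulSingle i x * Pi.mulSingle j x⁻¹) 1 (fun l => by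
    refine mul_mem ?_ ?_ <;> rw [Pi.mulSingle_apply] <;> split_ifs <;> simp [hx])
    (one_mem _) (fun e => by
      simp only [Pi.mul_apply, map_mul, Finset.prod_mul_distrib]
      simp [Pi.mulSingle_apply, apply_ite δ])
  exact ⟨h, e', by simp [e, hj.symm], by simp [e, hj], fun l c c' => by simp [e, c, c']⟩

/-- the torus -/
def Ah : Subgroup K where
  carrier := {g | σ g = 1 ∧ ∀ i, L g i ∈ A}
  one_mem' := ⟨map_one _, fun i => by rw [d.one]; exact one_mem _⟩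
  mul_mem' ha hb := ⟨by simp [ha.1, hb.1], fun i => by
    rw [d.mul₁ ha.1]; exact mul_mem (ha.2 i) (hb.2 i)⟩
  inv_mem' ha := ⟨by simp [ha.1], fun i => by rw [d.inv₁ ha.1]; exact inv_mem (ha.2 i)⟩

instance : d.Ah.Normal := ⟨fun h hh g => ⟨by simp [hh.1], fun i => by
  rw [d.cj hh.1]; exact d.r.cj_mem (d.mem g i) (hh.2 _)⟩⟩

theorem mem1 (hh : σ h = 1) (hx : L h i ∈ A) (e : ∀ j, j ≠ i → L h j = 1) : h ∈ d.Ah :=
  ⟨hh, fun j => by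
    by_cases c : j = i
    · rwa [c]
    · rw [e j c]; exact one_mem _⟩

theorem ex2A (hj : j ≠ i) :
    ∃ h ∈ d.Ah, L h i = a ∧ L h j = a⁻¹ ∧ ∀ l, l ≠ i → l ≠ j → L h l = 1 := by
  obtain ⟨h, h1, h2, h3, h4⟩ := d.ex2 hj (d.r.AR d.r.aA)
  refine ⟨h, ⟨h1, fun l => ?_⟩, h2, h3, h4⟩
  by_cases c : l = i
  · rw [c, h2]; exact d.r.aA
  by_cases c' : l = j
  · rw [c', h3]; exact inv_mem d.r.aA
  · rw [h4 l c c']; exact one_mem _

theorem exa (i : ι) : ∃ j, ∃ h ∈ d.Ah, L h i = a ∧ ∀ l, l ≠ i → l ≠ j → L h l = 1 := by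
  by_cases e : ev
  · obtain ⟨j, hj⟩ := d.nt e i
    obtain ⟨h, h1, h2, -, h4⟩ := d.ex2A hj
    exact ⟨j, h, h1, h2, h4⟩
  · obtain ⟨h, h1, h2, h3⟩ := d.ex1 i (d.r.AR d.r.aA) (absurd · e)
    exact ⟨i, h, d.mem1 h1 (h2 ▸ d.r.aA) h3, h2, fun l c _ => h3 l c⟩

theorem exa3 (h3 : Third ι ev) (hl : l ≠ i) : ∃ h ∈ d.Ah, L h i = a ∧ L h l = 1 := by
  by_cases e : ev
  · obtain ⟨j, hj, hj'⟩ := h3 e i l
    obtain ⟨h, h1, h2, -, h4⟩ := d.ex2A hj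
    exact ⟨h, h1, h2, h4 l hl hj'.symm⟩
  · obtain ⟨h, h1, h2, h3⟩ := d.ex1 i (d.r.AR d.r.aA) (absurd · e)
    exact ⟨h, d.mem1 h1 (h2 ▸ d.r.aA) h3, h2, h3 l hl⟩

theorem exc (i : ι) : ∃ h ∈ d.Ah, L h i = c ∧ ∀ j, j ≠ i → L h j = 1 :=
  let ⟨h, h1, h2, h3⟩ := d.ex1 i (d.r.AR d.r.cA) fun _ => d.r.δc
  ⟨h, d.mem1 h1 (h2 ▸ d.r.cA) h3, h2, h3⟩

theorem exy (i : ι) : ∃ h, σ h = 1 ∧ L h i = y ∧ ∀ j, j ≠ i → L h j = 1 :=
  d.ex1 i d.r.yR fun _ => d.r.δy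

theorem scal (hg : π g = 1) : ∃ u, ∀ i, L g i = s u :=
  let ⟨_, u, h, _⟩ := (d.ker g).1 hg; ⟨u, h⟩

theorem triv0 (hg : π g = 1) (h : L g j = 1) (i : ι) : L g i = 1 :=
  let ⟨_, e⟩ := d.scal hg; (e i).trans ((e j).symm.trans h)

theorem triv1 (hg : π g = 1) (h : ∀ j, j ≠ i → L g j = 1) : L g i = 1 := by
  obtain ⟨-, u, h1, e | e⟩ := (d.ker g).1 hg
  · obtain ⟨j, hj⟩ := d.nt e i
    exact d.triv0 hg (h j hj) i
  · exact (h1 i).trans e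

theorem triv (h3 : Third ι ev) (hg : π g = 1) (h : ∀ j, j ≠ i → j ≠ l → L g j = 1) (j : ι) :
    L g j = 1 := by
  obtain ⟨-, u, h1, e | e⟩ := (d.ker g).1 hg
  · obtain ⟨m, hm, hm'⟩ := h3 e i l
    exact d.triv0 hg (h m hm hm') j
  · exact (h1 j).trans e

/-- the image of the torus -/
def Ab : Subgroup T := d.Ah.map π

instance : d.Ab.Normal := Normal.map inferInstance π d.surj

theorem mem_Ab : π g ∈ d.Ab ↔ g ∈ d.Ah := by
  refine ⟨fun ⟨h, hh, e⟩ => ?_, mem_map_of_mem π⟩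
  have e' : π (h⁻¹ * g) = 1 := by simp [e]
  obtain ⟨u, hu⟩ := d.scal e'
  exact (mul_mem_cancel_left (inv_mem hh)).1
    ⟨((d.ker _).1 e').1, fun i => hu i ▸ d.r.s_mem (hu i ▸ d.mem _ i)⟩

theorem comm_Ab : ∀ x ∈ d.Ab, ∀ x' ∈ d.Ab, x * x' = x' * x := by
  rintro _ ⟨g, hg, rfl⟩ _ ⟨h, hh, rfl⟩
  rw [← map_mul, ← map_mul, d.ext₁ (mul_mem hg hh).1 (mul_mem hh hg).1 fun i => by
    rw [d.mul₁ hg.1, d.mul₁ hh.1, d.r.comm _ (hg.2 i) _ (hh.2 i)]]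

section Normal
variable {B : Subgroup T} [hB : B.Normal] (hc : ∀ x ∈ B, ∀ x' ∈ B, x * x' = x' * x)
include hc

omit d hc in
theorem cm_mem (hg : π g ∈ B) (h : K) : π ⁅g, h⁆ ∈ B := by
  rw [map_commutatorElement, commutatorElement_def, mul_assoc, mul_assoc]
  exact mul_mem hg (by simpa [mul_assoc] using hB.conj_mem _ (inv_mem hg) (π h))

omit d hc in
theorem cm_mem' (hg : π g ∈ B) (h : K) : π ⁅h, g⁆ ∈ B := by
  rw [← commutatorElement_inv, map_inv]; exact inv_mem (cm_mem hg h)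

omit d hB in
theorem cm_one (hg : π g ∈ B) (hh : π h ∈ B) : π ⁅g, h⁆ = 1 := by
  rw [map_commutatorElement, commutatorElement_eq_one_iff_mul_comm, hc _ hg _ hh]

theorem n1 (hg : π g ∈ B) (hi : σ g i ≠ i) : Two ι ev ∧ k = 0 := by
  have hi' : (σ g)⁻¹ i ≠ i := fun e => hi (Perm.inv_eq_iff_eq.1 e).symm
  obtain ⟨h, h1, h2, h3⟩ := d.exc i
  obtain ⟨Y, y1, y2, y3⟩ := d.exy i
  have s1 := σ_cm h1.1 g
  have s2 := σ_cm s1 Y
  have e := cm_one hc hg (cm_mem' (cm_mem hg h) Y)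
  have a1 : L ⁅Y, ⁅g, h⁆⁆ i = c * c := by
    rw [d.cm₁ y1 s1, d.cm h1.1, h3 _ hi', y2, h2, mul_one, mul_inv_cancel, one_mul, conj_inv.symm,
      d.r.yc]; simp
  have a2 : ∀ j, j ≠ i → L ⁅Y, ⁅g, h⁆⁆ j = 1 := fun j hj => by rw [d.cm₁ y1 s1, y3 j hj]; simp
  have a3 : L ⁅g, ⁅Y, ⁅g, h⁆⁆⁆ i = c⁻¹ * c⁻¹ := by rw [d.cm s2, a2 _ hi', a1]; simp
  obtain ⟨u, hu⟩ := d.scal e
  refine ⟨(third_or_two ι ev).resolve_left fun h3 => d.r.cc_ne ?_, d.r.k_eq (a3.symm.trans (hu i))⟩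
  rw [← inv_eq_one, mul_inv_rev, ← a3]
  refine d.triv h3 e (i := i) (l := σ g i) (fun j c c' => ?_) i
  rw [d.cm s2, a2 j c, a2 _ fun e => c' (Perm.inv_eq_iff_eq.1 e)]; simp

theorem n2 (hg : π g ∈ B) (h0 : σ g = 1) (hi : L g i ∉ A) : Two ι ev ∧ k = 0 ∧ ∀ j, L g j ∉ A := by
  obtain ⟨j, h, h1, h2, h3⟩ := d.exa i
  have s1 := σ_cm h1.1 g
  have e := cm_one hc hg (cm_mem hg h)
  have a1 : L ⁅g, ⁅g, h⁆⁆ i = c⁻¹ * c⁻¹ := by
    rw [d.cm₁ h0 s1, d.cm₁ h0 h1.1, h2, d.r.cjB (d.mem g i) hi d.r.aA, d.r.cm_a,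
      d.r.cjB (d.mem g i) hi d.r.cA, d.r.yc]
  have a2 : L ⁅g, ⁅g, h⁆⁆ i ≠ 1 := fun e => d.r.cc_ne (by rw [← inv_eq_one, mul_inv_rev, ← a1, e])
  obtain ⟨u, hu⟩ := d.scal e
  refine ⟨(third_or_two ι ev).resolve_left fun h4 => a2 ?_, d.r.k_eq (a1.symm.trans (hu i)),
    fun l hl => a2 (d.triv0 e (j := l) ?_ i)⟩
  · refine d.triv h4 e (i := i) (l := j) (fun l c c' => ?_) i
    rw [d.cm₁ h0 s1, d.cm₁ h0 h1.1, h3 l c c']; simp
  · rw [d.cm₁ h0 s1, d.cm₁ h0 h1.1, d.r.cjA hl (h1.2 l)]; simp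

theorem n3 (hg : π g ∈ B) (h0 : g ∉ d.Ah) :
    Two ι ev ∧ k = 0 ∧ ∃ b, π b ∈ B ∧ σ b = 1 ∧ ∀ j, L b j ∉ A := by
  by_cases e : σ g = 1
  · obtain ⟨i, hi⟩ : ∃ i, L g i ∉ A := by_contra fun c => h0 ⟨e, by simpa using c⟩
    have := d.n2 hc hg e hi
    exact ⟨this.1, this.2.1, g, hg, e, this.2.2⟩
  obtain ⟨i, hi⟩ : ∃ i, σ g i ≠ i := by_contra fun c => e (Equiv.ext (by simpa using c))
  obtain ⟨Y, y1, y2, y3⟩ := d.exy i
  have := d.n2 hc (cm_mem hg Y) (σ_cm y1 g) (i := i) (by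
    rw [d.cm y1, y3 _ fun e => hi (Perm.inv_eq_iff_eq.1 e).symm, y2]; simpa using d.r.yA)
  exact ⟨this.1, this.2.1, _, cm_mem hg Y, σ_cm y1 g, this.2.2⟩

omit hc in
theorem δ_eq (h2 : Two ι ev) (hi : ∀ i, δ (L g i) * δ (L g i) = 1) (i j : ι) :
    δ (L g j) = δ (L g i) := by
  by_cases c : j = i
  · rw [c]
  have := d.det h2.1 g
  rw [Fintype.prod_eq_mul i j (Ne.symm c) fun l hl => (h2.2 i j c l).elim (absurd · hl.1)
    (absurd · hl.2)] at this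
  exact mul_left_cancel (this.trans (hi i).symm)

theorem n4 (h2 : Two ι ev) (hk : k = 0) {b : K} (hb : π b ∈ B) (b1 : σ b = 1) (b2 : ∀ j, L b j ∉ A)
    (hg : π g ∈ B) (h0 : σ g = 1) : π (g * g) = 1 := by
  have r := d.r
  obtain ⟨i⟩ := ‹Nonempty ι›
  by_cases c : g ∈ d.Ah
  · obtain ⟨u, hu⟩ := d.scal (cm_one hc hb hg)
    replace hu : ∀ j, y * L g j * y⁻¹ * (L g j)⁻¹ = s u := fun j => by
      rw [← hu j, d.cm₁ b1 h0, r.cjB (d.mem b j) (b2 j) (c.2 j)]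
    have hq : ∀ j, δ (L g j) * δ (L g j) = 1 := fun j => r.δ_sq hk (c.2 j) (by
      rw [hu, ← map_mul, ← r.δs, ← hu j, map_mul, r.δ_cj, map_inv, mul_inv_cancel, map_one])
    refine (d.ker _).2 ⟨by simp [h0], δ (L g i) * u⁻¹, fun j => ?_, Or.inl h2.1⟩
    rw [d.mul₁ h0, map_mul, map_inv, ← d.δ_eq h2 hq i j, ← r.nrm _ (c.2 j), ← hu j,
      r.comm _ (r.bar _ (c.2 j)) _ (inv_mem (c.2 j))]
    group
  · obtain ⟨i, hi⟩ : ∃ i, L g i ∉ A := by_contra fun e => c ⟨h0, by simpa using e⟩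
    have g2 := (d.n2 hc hg h0 hi).2.2
    have hA : ∀ j, L g j * y⁻¹ ∈ A := fun j => (r.dec _ (d.mem g j)).resolve_left (g2 j)
    have hq : ∀ j, δ (L g j) * δ (L g j) = 1 := fun j => by
      obtain ⟨Y, y1, y2, y3⟩ := d.exy j
      have s1 := σ_cm h0 Y
      have a1 : L ⁅Y, g⁆ j = y * (L g j * y⁻¹) * y⁻¹ * (L g j * y⁻¹)⁻¹ := by
        rw [d.cm₁ y1 h0, y2]; group
      have a2 := d.triv1 (cm_one hc hb (cm_mem' hg Y)) (i := j) fun l hl => by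
        rw [d.cm₁ b1 s1, d.cm₁ y1 h0, y3 l hl]; simp
      obtain ⟨n, hn⟩ := r.cm_mem r.yR (hA j)
      rw [d.cm₁ b1 s1, a1, r.cjB (d.mem b j) (b2 j) (mul_mem (r.bar _ (hA j)) (inv_mem (hA j))),
        ← hn, ← conj_zpow, r.yc, inv_zpow, ← mul_inv_rev, inv_eq_one] at a2
      simpa [r.δy] using r.δ_sq hk (hA j) (by rw [← hn, a2])
    obtain ⟨v, hv⟩ := r.sc _ (r.mul_mem_A r.yR r.yA r.yR r.yA) (by group)
    refine (d.ker _).2 ⟨by simp [h0], δ (L g i) * v, fun j => ?_, Or.inl h2.1⟩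
    have := r.nrm _ (hA j)
    rw [map_mul, map_inv, r.δy, inv_one, mul_one] at this
    rw [d.mul₁ h0, map_mul, ← d.δ_eq h2 hq i j, ← this, ← hv]
    group

theorem le_Ab (hP : ev → ∃ x ∈ B, ∃ x' ∈ B, x * x ≠ 1 ∧ x' * x' ≠ 1 ∧ x * x' * (x * x') ≠ 1) :
    B ≤ d.Ab := fun t ht => by
  obtain ⟨g, rfl⟩ := d.surj t
  refine d.mem_Ab.2 (by_contra fun c => ?_)
  obtain ⟨h2, hk, b, hb, b1, b2⟩ := d.n3 hc ht c
  obtain ⟨x, hx, x', hx', e1, e2, e3⟩ := hP h2.1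
  obtain ⟨g, rfl⟩ := d.surj x
  obtain ⟨h, rfl⟩ := d.surj x'
  simp only [← map_mul] at e1 e2 e3
  have k : ∀ {g}, π g ∈ B → π (g * g) ≠ 1 → ∀ i, σ g i ≠ i := fun {g} hg e i c =>
    e (d.n4 hc h2 hk hb b1 b2 hg (Equiv.ext fun l => by
      by_contra c'
      rcases h2.2 l _ c' i with r | r
      · exact c' (r ▸ c)
      · exact c' ((σ g).injective (r ▸ c))))
  obtain ⟨i⟩ := ‹Nonempty ι›
  have k1 := k hx e1
  have k2 := k hx' e2 i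
  have k3 := k (map_mul π g h ▸ mul_mem hx hx') e3 i
  rw [map_mul, Perm.mul_apply] at k3
  exact (h2.2 i _ k2 (σ g (σ h i))).elim k3 (k1 _)

end Normal

theorem map_mem_Ab (γ : MulAut T) {t : T} (ht : t ∈ d.Ab) : γ t ∈ d.Ab := by
  have : (d.Ab.map γ.toMonoidHom).Normal := Normal.map inferInstance _ γ.surjective
  refine d.le_Ab (B := d.Ab.map γ.toMonoidHom) ?_ (fun e => ?_) (mem_map_of_mem _ ht)
  · rintro _ ⟨x, hx, rfl⟩ _ ⟨x', hx', rfl⟩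
    rw [← map_mul, d.comm_Ab x hx x' hx', map_mul]
  obtain ⟨i⟩ := ‹Nonempty ι›
  obtain ⟨j, hj⟩ := d.nt e i
  obtain ⟨g, g1, g2, g3⟩ := d.exc i
  obtain ⟨h, h1, h2, h3, -⟩ := d.ex2A hj
  refine ⟨_, mem_map_of_mem _ (d.mem_Ab.2 g1), _, mem_map_of_mem _ (d.mem_Ab.2 h1), ?_⟩
  simp only [← map_mul, MulEquiv.coe_toMonoidHom, ne_eq, EmbeddingLike.map_eq_one_iff]
  refine ⟨fun c => d.r.cc_ne ?_, fun c => ?_, fun c => ?_⟩
  · rw [← g2, ← d.mul₁ g1.1]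
    exact d.triv1 c fun l hl => by rw [d.mul₁ g1.1, g3 l hl, mul_one]
  · obtain ⟨u, hu⟩ := d.scal c
    exact d.r.aa_ne (by rw [← hu i, d.mul₁ h1.1, h2])
  · obtain ⟨u, hu⟩ := d.scal c
    refine d.r.aa_ne (u := u⁻¹) ?_
    rw [map_inv, ← hu j, d.mul₁ (mul_mem g1 h1).1, d.mul₁ g1.1, g3 j hj, h3]; simp

end St

end Cfsg.Agent.Fus.LnS
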