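import Cfsg.Agent.Fus.LnA
import Cfsg.Agent.KSG.SymSylow2

/-! Sections of wreath products of a Sylow 2-subgroup of `GL₂(q)`: the automorphism group is a
2-group. -/

set_option autoImplicit false
set_option linter.unusedSectionVars false

namespace Cfsg.Agent.Fus.LnS

open Subgroup Equiv
open scoped commutatorElement

theorem mem_zpowers_of_pow {T : Type*} [Group T] {x v : T} {n : ℕ} (hx : x ^ 2 ^ (n + 1) = 1)
    (hv : v ∈ zpowers x) (h : v ^ 2 ^ n ≠ 1) : zpowers x ≤ zpowers v := by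
  obtain ⟨m, rfl⟩ := hv
  obtain ⟨b, rfl | rfl⟩ := Int.even_or_odd' m
  · refine absurd ?_ h
    rw [← zpow_natCast, ← zpow_mul, show 2 * b * ((2 ^ n : ℕ) : ℤ) = ((2 ^ (n + 1) : ℕ) : ℤ) * b by
      push_cast; ring, zpow_mul, zpow_natCast, hx, one_zpow]
  obtain ⟨e, -, he⟩ := (Nat.dvd_prime_pow Nat.prime_two).1 (orderOf_dvd_of_pow_eq_one hx)
  refine zpowers_le.2 (mem_zpowers_zpow_iff.2 ?_)
  rw [he, ← Int.isCoprime_iff_gcd_eq_one]
  push_cast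
  exact IsCoprime.pow_right ⟨1, -b, by ring⟩

variable {Γ U : Type*} [Group Γ] [CommGroup U] {ι K T : Type*} [Fintype ι] [DecidableEq ι]
  [Nonempty ι] [Group K] [Group T]

namespace St

variable {R A : Subgroup Γ} {δ : Γ →* U} {s : U →* Γ} {y c a : Γ} {k : ℕ} {P : Subgroup (Perm ι)}
  {ev : Prop} {L : K → ι → Γ} {σ : K →* Perm ι} {π : K →* T}
  (d : St R A δ s y c a k P ev L σ π) {g h : K} {i j l : ι} {x : Γ} {t t' : T}
include d

/-- `t` inverts exactly the `j`-th factor of the torus -/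
def E (_ : St R A δ s y c a k P ev L σ π) (t : T) (j : ι) : Prop :=
  ∃ g, π g = t ∧ σ g = 1 ∧ L g j ∉ A ∧ ∀ l, l ≠ j → L g l ∈ A

theorem E_mul (e : d.E t j) (ht : t' ∈ d.Ab) : d.E (t * t') j := by
  obtain ⟨g, rfl, g1, g2, g3⟩ := e
  obtain ⟨h, hh, rfl⟩ := ht
  exact ⟨g * h, map_mul _ _ _, by simp [g1, hh.1], by
    rwa [d.mul₁ g1, mul_mem_cancel_right (hh.2 j)], fun l hl => by
    rw [d.mul₁ g1]; exact mul_mem (g3 l hl) (hh.2 l)⟩

theorem E_div (e : d.E t j) (e' : d.E t' j) : t⁻¹ * t' ∈ d.Ab := by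
  obtain ⟨g, rfl, g1, g2, g3⟩ := e
  obtain ⟨h, rfl, h1, h2, h3⟩ := e'
  rw [← map_inv, ← map_mul, d.mem_Ab]
  refine ⟨by simp [g1, h1], fun l => ?_⟩
  rw [d.mul₁ (by simp [g1]), d.inv₁ g1]
  by_cases c : l = j
  · subst c; exact d.r.mul_mem_A (inv_mem (d.mem g l)) (by simpa) (d.mem h l) h2
  · exact mul_mem (inv_mem (g3 l c)) (h3 l c)

theorem E_uniq (e : d.E t i) (e' : d.E t j) : i = j := by
  obtain ⟨g, rfl, g1, g2, -⟩ := e
  obtain ⟨h, e, h1, -, h3⟩ := e'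
  have k := (d.mem_Ab (g := h⁻¹ * g)).1 (by simp [e])
  refine by_contra fun c => g2 ?_
  have := mul_mem (h3 i c) (k.2 i)
  rwa [← d.mul₁ h1, mul_inv_cancel_left] at this

theorem E_cj (e : d.E t i) (g : K) : d.E (π g * t * (π g)⁻¹) (σ g i) := by
  obtain ⟨h, rfl, h1, h2, h3⟩ := e
  refine ⟨g * h * g⁻¹, by simp, by simp [h1], fun c => h2 ?_, fun l hl => ?_⟩
  · rw [d.cj h1, show (σ g)⁻¹ (σ g i) = i by simp] at c
    simpa [mul_assoc] using d.r.cj_mem (inv_mem (d.mem g (σ g i))) c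
  · rw [d.cj h1]
    exact d.r.cj_mem (d.mem g l) (h3 _ fun e => hl (Perm.inv_eq_iff_eq.1 e))

theorem exE (i : ι) : ∃ t, d.E t i :=
  let ⟨Y, y1, y2, y3⟩ := d.exy i
  ⟨_, Y, rfl, y1, y2 ▸ d.r.yA, fun l hl => y3 l hl ▸ one_mem A⟩

theorem E_not (e : d.E t i) : t ∉ d.Ab := by
  obtain ⟨g, rfl, -, g2, -⟩ := e
  exact fun c => g2 ((d.mem_Ab.1 c).2 i)

theorem E_sq (e : d.E t i) : t * t ∈ d.Ab := by
  obtain ⟨g, rfl, g1, g2, g3⟩ := e
  rw [← map_mul, d.mem_Ab]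
  refine ⟨by simp [g1], fun l => ?_⟩
  rw [d.mul₁ g1]
  by_cases c : l = i
  · subst c; exact d.r.mul_mem_A (d.mem g l) g2 (d.mem g l) g2
  · exact mul_mem (g3 l c) (g3 l c)

theorem E_cm (e : d.E t i) (h1 : σ h = 1) (h2 : L h i = c) (h3 : ∀ j, j ≠ i → L h j = 1)
    (ht : t' ∈ d.Ab) : ⁅t, t'⁆ ∈ zpowers (π h) := by
  obtain ⟨g, rfl, g1, -, g3⟩ := e
  obtain ⟨b, hb, rfl⟩ := ht
  obtain ⟨n, hn⟩ := d.r.cm_mem (d.mem g i) (hb.2 i)
  refine ⟨n, ?_⟩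
  rw [← map_commutatorElement]
  refine (map_zpow π h n).symm.trans (congrArg π (d.ext₁ (by simp [h1]) (σ_cm hb.1 g) fun l => ?_))
  rw [d.zpow₁ h1, d.cm₁ g1 hb.1]
  by_cases c : l = i
  · rw [c, h2]; exact hn
  · rw [h3 l c, d.r.cjA (g3 l c) (hb.2 l)]; simp

theorem E_gen (e : d.E t i) : ∃ t' ∈ d.Ab, ∃ g, π g = ⁅t, t'⁆ ∧ σ g = 1 ∧ L g i = c ∧
    ∀ j, j ≠ i → L g j = 1 := by
  obtain ⟨g, rfl, g1, g2, g3⟩ := e
  obtain ⟨j, h, h1, h2, -⟩ := d.exa i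
  refine ⟨_, d.mem_Ab.2 h1, _, map_commutatorElement _ _ _, σ_cm h1.1 g, ?_, fun l hl => ?_⟩
  · rw [d.cm₁ g1 h1.1, h2, d.r.cjB (d.mem g i) g2 d.r.aA, d.r.cm_a]
  · rw [d.cm₁ g1 h1.1, d.r.cjA (g3 l hl) (h1.2 l), mul_inv_cancel]

theorem pow_c (h1 : σ h = 1) (h2 : L h i = c) (h3 : ∀ j, j ≠ i → L h j = 1) :
    π h ^ 2 ^ (k + 2) = 1 ∧ π h ^ 2 ^ (k + 1) ≠ 1 := by
  simp only [← map_pow]
  refine ⟨(congrArg π (d.ext _ (fun l => ?_) (by simp [h1]))).trans (map_one π),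
    fun e => d.r.z_ne ?_⟩
  · rw [d.pow₁ h1]
    by_cases c : l = i
    · rw [c, h2, d.r.pow_eq]
    · rw [h3 l c, one_pow]
  · rw [← h2, ← d.pow₁ h1]
    exact d.triv1 e fun l hl => by rw [d.pow₁ h1, h3 l hl, one_pow]

theorem E_third (h3 : Third ι ev) (h0 : t ∉ d.Ab) {v : T} (hv : v ^ 2 ^ (k + 2) = 1)
    (h1 : ∀ t' ∈ d.Ab, ⁅t, t'⁆ ∈ zpowers v) : ∃ j, d.E t j := by
  obtain ⟨g, rfl⟩ := d.surj t
  have r := d.r
  have key : ∀ {h h' i l}, h ∈ d.Ah → h' ∈ d.Ah → L ⁅g, h⁆ i ^ 2 ^ (k + 1) ≠ 1 →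
      (∀ j, j ≠ i → j ≠ l → L ⁅g, h⁆ j = 1) → ∃ n : ℤ, π (⁅g, h⁆ ^ n * ⁅g, h'⁆⁻¹) = 1 :=
    fun {h h' i l} hh hh' e1 e2 => by
      obtain ⟨n, hn⟩ := mem_zpowers_of_pow hv (h1 _ (d.mem_Ab.2 hh)) (fun e => e1 (by
        rw [← map_commutatorElement, ← map_pow] at e
        rw [← d.pow₁ (σ_cm hh.1 g)]
        exact d.triv h3 e (fun j c c' => by rw [d.pow₁ (σ_cm hh.1 g), e2 j c c', one_pow]) i))
        (h1 _ (d.mem_Ab.2 hh'))
      exact ⟨n, by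
        rw [map_mul, map_inv, map_zpow, mul_inv_eq_one, map_commutatorElement, map_commutatorElement]
        exact hn⟩
  by_cases g1 : σ g = 1
  · obtain ⟨i, hi⟩ : ∃ i, L g i ∉ A := by_contra fun c => h0 (d.mem_Ab.2 ⟨g1, by simpa using c⟩)
    refine ⟨i, g, rfl, g1, hi, fun j hj => by_contra fun hj' => r.cc_ne ?_⟩
    obtain ⟨h, h1, h2, h4, h5⟩ := d.ex2A hj
    obtain ⟨h', k1, k2, k3⟩ := d.exc i
    have a1 : L ⁅g, h⁆ i = c := by rw [d.cm₁ g1 h1.1, h2, r.cjB (d.mem g i) hi r.aA, r.cm_a]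
    have a2 : L ⁅g, h⁆ j = c⁻¹ := by
      rw [d.cm₁ g1 h1.1, h4, r.cjB (d.mem g j) hj' (inv_mem r.aA), conj_inv.symm, r.ya]; simp
    have a3 : ∀ l, l ≠ i → l ≠ j → L ⁅g, h⁆ l = 1 := fun l c c' => by
      rw [d.cm₁ g1 h1.1, h5 l c c']; simp
    have a4 : ∀ l, l ≠ i → L ⁅g, h'⁆ l = 1 := fun l c => by rw [d.cm₁ g1 k1.1, k3 l c]; simp
    obtain ⟨n, hn⟩ := key h1 k1 (a1 ▸ r.z_ne) a3
    have a5 : ∀ l, L (⁅g, h⁆ ^ n * ⁅g, h'⁆⁻¹) l = L ⁅g, h⁆ l ^ n * (L ⁅g, h'⁆ l)⁻¹ := fun l => by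
      rw [d.mul₁ (by simp [h1.1]), d.zpow₁ (σ_cm h1.1 g), d.inv₁ (σ_cm k1.1 g)]
    have a6 := d.triv h3 hn (i := i) (l := j) fun l c c' => by rw [a5, a3 l c c', a4 l c]; simp
    have b1 := a6 j
    have b2 := a6 i
    rw [a5, a2, a4 j hj, inv_one, mul_one, inv_zpow, inv_eq_one] at b1
    rw [a5, a1, b1, d.cm₁ g1 k1.1, k2, r.cjB (d.mem g i) hi r.cA, r.yc] at b2
    simpa using b2
  · obtain ⟨i, hi⟩ : ∃ i, σ g i ≠ i := by_contra fun c => g1 (Equiv.ext (by simpa using c))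
    have hi' : (σ g)⁻¹ i ≠ i := fun e => hi (Perm.inv_eq_iff_eq.1 e).symm
    obtain ⟨h, h1, h2, h4⟩ := d.exc i
    obtain ⟨h', k1, k2, k3⟩ := d.exa3 h3 hi'
    have a1 : L ⁅g, h⁆ i = c⁻¹ := by rw [d.cm h1.1, h4 _ hi', h2]; simp
    obtain ⟨n, hn⟩ := key (l := σ g i) h1 k1 (by rw [a1, inv_pow]; simpa using r.z_ne) fun l c c' => by
      rw [d.cm h1.1, h4 l c, h4 _ fun e => c' (Perm.inv_eq_iff_eq.1 e)]; simp
    obtain ⟨u, hu⟩ := d.scal hn
    have := congrArg δ (hu i)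
    rw [d.mul₁ (by simp [h1.1]), d.zpow₁ (σ_cm h1.1 g), d.inv₁ (σ_cm k1.1 g), a1, d.cm k1.1, k3,
      k2, r.δs] at this
    exact absurd ⟨u, by simpa [r.δc] using this⟩ r.ns

theorem E_two (h2 : Two ι ev) (h0 : t ∉ d.Ab) (h3 : t * t ∈ d.Ab) (ht : t' ∈ d.Ab)
    (h1 : ⁅t, t'⁆ ^ 2 ^ (k + 1) ≠ 1) : ∃ j, d.E t j := by
  obtain ⟨g, rfl⟩ := d.surj t
  obtain ⟨h, hh, rfl⟩ := ht
  have r := d.r
  rw [← map_commutatorElement, ← map_pow] at h1
  have s1 := σ_cm hh.1 g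
  have pr : ∀ {i j}, j ≠ i → δ (L h i) = (δ (L h j))⁻¹ := fun {i j} c => by
    have := d.det h2.1 h
    rw [Fintype.prod_eq_mul i j (Ne.symm c) fun l hl => (h2.2 i j c l).elim (absurd · hl.1)
      (absurd · hl.2)] at this
    exact eq_inv_of_mul_eq_one_left this
  have fin : ∀ {i j u}, j ≠ i → L ⁅g, h⁆ i ^ 2 ^ (k + 1) = s u → L ⁅g, h⁆ j ^ 2 ^ (k + 1) = s u →
      False := fun {i j u} c e1 e2 => h1 ((d.ker _).2 ⟨by simp [hh.1], u, fun l => by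
        rw [d.pow₁ s1]; rcases h2.2 i j c l with e | e <;> rwa [e], Or.inl h2.1⟩)
  obtain ⟨u, hu⟩ := r.zs
  by_cases g1 : σ g = 1
  · obtain ⟨i, hi⟩ : ∃ i, L g i ∉ A := by_contra fun c => h0 (d.mem_Ab.2 ⟨g1, by simpa using c⟩)
    refine ⟨i, g, rfl, g1, hi, fun j hj => by_contra fun hj' => ?_⟩
    have a1 := d.cm₁ g1 hh.1 i
    have a2 := d.cm₁ g1 hh.1 j
    rw [r.cjB (d.mem g i) hi (hh.2 i)] at a1
    rw [r.cjB (d.mem g j) hj' (hh.2 j)] at a2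
    by_cases c : IsSquare (δ (L h j))
    · exact fin (u := 1) hj (by rw [a1, r.cm_pow (hh.2 i) (pr hj ▸ c.inv), map_one])
        (by rw [a2, r.cm_pow (hh.2 j) c, map_one])
    · exact fin hj (by rw [a1, r.cm_pow' (hh.2 i) (by rwa [pr hj, isSquare_inv]), hu])
        (by rw [a2, r.cm_pow' (hh.2 j) c, hu])
  · obtain ⟨i, hi⟩ : ∃ i, σ g i ≠ i := by_contra fun c => g1 (Equiv.ext (by simpa using c))
    rw [← map_mul, d.mem_Ab] at h3
    have e1 : (σ g)⁻¹ (σ g i) = i := by simp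
    have e2 : (σ g)⁻¹ i = σ g i := (h2.2 i _ hi _).resolve_left fun e =>
      hi (Perm.inv_eq_iff_eq.1 e).symm
    generalize σ g i = j at hi e1 e2
    have a0 := h3.2 j
    have a1 := d.cm hh.1 g i
    have a2 := d.cm hh.1 g j
    rw [d.mul, e1] at a0
    rw [e2] at a1
    rw [e1] at a2
    have a3 : L ⁅g, h⁆ j = (L g j * L ⁅g, h⁆ i * (L g j)⁻¹)⁻¹ := by
      rw [a1, a2]; nth_rw 1 [← r.cjA a0 (hh.2 j)]; group
    have a4 := r.ev (L ⁅g, h⁆ i) (a1 ▸ mul_mem (r.cj_mem (d.mem g i) (hh.2 j)) (inv_mem (hh.2 i)))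
      ⟨δ (L h j), by rw [a1, map_mul, r.δ_cj, map_inv, pr hi, inv_inv]⟩
    refine (a4.elim (fun e => fin (u := 1) hi (by rw [e, map_one]) ?_) fun e =>
      fin hi (e.trans hu) ?_).elim
    · rw [a3, inv_pow, conj_pow, e]; simp
    · rw [a3, inv_pow, conj_pow, e, hu, r.cj_s, inv_eq_iff_mul_eq_one, ← hu, r.z_sq]

theorem E_map (γ : MulAut T) (e : d.E t i) : ∃ j, d.E (γ t) j := by
  have h0 : γ t ∉ d.Ab := fun c => d.E_not e (by simpa using d.map_mem_Ab γ⁻¹ c)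
  obtain ⟨t', ht, g, g0, g1, g2, g3⟩ := d.E_gen e
  have hp := d.pow_c g1 g2 g3
  rcases third_or_two ι ev with h | h
  · refine d.E_third h h0 (v := γ (π g)) (by rw [← map_pow, hp.1, map_one]) fun b hb => ?_
    obtain ⟨n, hn⟩ := d.E_cm e g1 g2 g3 (d.map_mem_Ab γ⁻¹ hb)
    exact ⟨n, by simpa using congrArg γ hn⟩
  · refine d.E_two h h0 (map_mul γ t t ▸ d.map_mem_Ab γ (d.E_sq e)) (d.map_mem_Ab γ ht) ?_
    rw [← map_commutatorElement, ← map_pow, ← g0]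
    exact fun c => hp.2 (γ.injective (c.trans (map_one γ).symm))

theorem E_fix (hP : IsPGroup 2 P) (hN : normalizer (P : Set (Perm ι)) ≤ P) {β : MulAut T} {m : ℕ}
    (hm : Odd m) (hβ : β ^ m = 1) (e : d.E t i) : d.E (β t) i := by
  choose Y hY using d.exE
  choose ρ hρ using fun i => d.E_map β (hY i)
  have k1 : ∀ {t i}, d.E t i → d.E (β t) (ρ i) := fun {t i} e => by
    simpa [← map_mul] using d.E_mul (hρ i) (d.map_mem_Ab β (d.E_div (hY i) e))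
  have k2 : ∀ n i, d.E ((β ^ n) (Y i)) (ρ^[n] i) := fun n i => by
    induction n with
    | zero => exact hY i
    | succ n ih => rw [pow_succ', Function.iterate_succ_apply']; exact k1 ih
  have k3 : ∀ i, ρ^[m] i = i := fun i => d.E_uniq (by simpa [hβ] using k2 m i) (hY i)
  obtain ⟨n, rfl⟩ := hm
  let τ : Perm ι := Equiv.ofBijective ρ (Finite.injective_iff_bijective.1
    (Function.LeftInverse.injective (g := ρ^[2 * n]) k3))
  have k4 : τ ∈ P := hN (mem_normalizer_fintype fun p hp => by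
    obtain ⟨g, -, rfl⟩ := d.ex 1 p (fun _ => one_mem _) hp (by simp)
    obtain ⟨g', e⟩ := d.surj (β (π g))
    have : τ * σ g = σ g' * τ := Equiv.ext fun i => d.E_uniq (k1 (d.E_cj (hY i) g))
      (by rw [map_mul, map_mul, map_inv, ← e]; exact d.E_cj (hρ i) g')
    rw [this, mul_inv_cancel_right]; exact d.memP g')
  obtain ⟨b, hb⟩ := hP ⟨τ, k4⟩
  have k5 : τ = 1 := by
    rw [← orderOf_eq_one_iff, ← Nat.dvd_one, ← (Nat.Coprime.pow_left b
      (Nat.coprime_two_left.2 (odd_two_mul_add_one n))).gcd_eq_one]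
    exact Nat.dvd_gcd (orderOf_dvd_of_pow_eq_one (congrArg Subtype.val hb))
      (orderOf_dvd_of_pow_eq_one (Equiv.ext fun i => by rw [Perm.coe_pow]; exact k3 i))
  have := k1 e
  rwa [show ρ i = i from congrArg (fun τ : Perm ι => τ i) k5] at this

theorem mem_of_signs {D : Subgroup T} (hD : ∀ i h, σ h = 1 → L h i = c → (∀ j, j ≠ i → L h j = 1) →
    π h ∈ D) (S : Finset ι) : ∀ g, σ g = 1 → (∀ i, L g i = 1 ∨ L g i = c ^ 2 ^ (k + 1)) →
      (∀ i, i ∉ S → L g i = 1) → π g ∈ D := by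
  induction S using Finset.induction_on with
  | empty => exact fun g g1 _ g3 => by rw [d.ext g (fun i => g3 i (by simp)) g1, map_one]; exact one_mem _
  | insert i S hi ih =>
    intro g g1 g2 g3
    rcases g2 i with e | e
    · exact ih g g1 g2 fun l hl => by
        by_cases c : l = i
        · rwa [c]
        · exact g3 l (by simp [c, hl])
    obtain ⟨h, h1, h2, h3⟩ := d.exc i
    have a : ∀ l, L (g * (h ^ 2 ^ (k + 1))⁻¹) l = if l = i then 1 else L g l := fun l => by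
      rw [d.mul₁ g1, d.inv₁ (by simp [h1.1]), d.pow₁ h1.1]
      split_ifs with c
      · rw [c, e, h2, mul_inv_cancel]
      · simp [h3 l c]
    have := ih (g * (h ^ 2 ^ (k + 1))⁻¹) (by simp [g1, h1.1]) (fun l => by
      rw [a]; split_ifs; exacts [Or.inl rfl, g2 l]) fun l hl => by
      rw [a]; split_ifs with c; exacts [rfl, g3 l (by simp [c, hl])]
    rwa [map_mul, map_inv, map_pow, mul_mem_cancel_right (inv_mem (pow_mem (hD i h h1.1 h2 h3) _))]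
      at this

theorem mem_of_cent {D : Subgroup T} (hD : ∀ i h, σ h = 1 → L h i = c → (∀ j, j ≠ i → L h j = 1) →
    π h ∈ D) (ht : t ∈ d.Ab) (h1 : ∀ i t', d.E t' i → ⁅t', t⁆ = 1) (h2 : t * t = 1) : t ∈ D := by
  obtain ⟨g, hg, rfl⟩ := ht
  have r := d.r
  have a : ∀ i, ∃ u, L g i = s u := fun i => by
    obtain ⟨Y, y1, y2, y3⟩ := d.exy i
    have := d.triv1 ((map_commutatorElement π Y g).trans (h1 i _ ⟨Y, rfl, y1, y2 ▸ r.yA,
      fun l hl => y3 l hl ▸ one_mem A⟩)) (i := i) fun l hl => by rw [d.cm₁ y1 hg.1, y3 l hl]; simp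
    rw [d.cm₁ y1 hg.1, y2, mul_inv_eq_one] at this
    exact r.sc _ (hg.2 i) this
  choose μ hμ using a
  obtain ⟨-, u, hu, e⟩ := (d.ker _).1 ((map_mul π g g).trans h2)
  simp only [d.mul₁ hg.1, hμ] at hu
  rcases e with e | e
  swap
  · exact d.mem_of_signs hD Finset.univ g hg.1 (fun i => hμ i ▸ r.one _ ((hu i).trans e)) (by simp)
  obtain ⟨i⟩ := ‹Nonempty ι›
  have b : ∀ l, s (μ l * (μ i)⁻¹) = 1 ∨ s (μ l * (μ i)⁻¹) = c ^ 2 ^ (k + 1) := fun l => r.one _ (by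
    rw [← map_mul, mul_mul_mul_comm, ← mul_inv, map_mul, map_inv, map_mul, map_mul, hu, hu,
      mul_inv_cancel])
  obtain ⟨h, h3, h4⟩ := d.ex (fun l => s (μ l * (μ i)⁻¹)) 1 (fun l => by
    rw [map_mul, map_inv, ← hμ, ← hμ]; exact mul_mem (d.mem g l) (inv_mem (d.mem g i))) (one_mem _)
    fun _ => Finset.prod_eq_one fun l _ => by rcases b l with e | e <;> simp [e, r.δc]
  have := (d.ker (h⁻¹ * g)).2 ⟨by simp [h4, hg.1], μ i, fun l => by
    rw [d.mul₁ (by simp [h4]), d.inv₁ h4, h3, hμ, ← map_inv, ← map_mul]; simp, Or.inl e⟩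
  rw [map_mul, map_inv, inv_mul_eq_one] at this
  exact this ▸ d.mem_of_signs hD Finset.univ h h4 (by simpa only [h3] using b) (by simp)

theorem mem_Ab_of_cent (h : ∀ t' ∈ d.Ab, ⁅t, t'⁆ = 1) : t ∈ d.Ab := by
  obtain ⟨g, rfl⟩ := d.surj t
  have k : ∀ {b}, b ∈ d.Ah → ∃ u, ∀ i, L ⁅g, b⁆ i = s u := fun hb =>
    d.scal ((map_commutatorElement π _ _).trans (h _ (d.mem_Ab.2 hb)))
  have g1 : σ g = 1 := Equiv.ext fun i => by_contra fun hi : σ g i ≠ i => by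
    obtain ⟨b, h1, h2, h3⟩ := d.exc i
    obtain ⟨u, hu⟩ := k h1
    refine d.r.c_ne (u := u⁻¹) ?_
    rw [map_inv, ← hu i, d.cm h1.1, h3 _ fun e => hi (Perm.inv_eq_iff_eq.1 e).symm, h2]; simp
  refine d.mem_Ab.2 ⟨g1, fun i => by_contra fun hi => ?_⟩
  obtain ⟨j, b, h1, h2, -⟩ := d.exa i
  obtain ⟨u, hu⟩ := k h1
  exact d.r.c_ne (by rw [← hu i, d.cm₁ g1 h1.1, h2, d.r.cjB (d.mem g i) hi d.r.aA, d.r.cm_a])

theorem isPGroup_mulAut [Finite T] (hT : IsPGroup 2 T) (hP : IsPGroup 2 P)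
    (hN : normalizer (P : Set (Perm ι)) ≤ P) : IsPGroup 2 (MulAut T) := by
  refine Inv.isPGroup_two_of_odd fun β m hm hβ => ?_
  have o : Inv.OddAut ⊤ β := ⟨hT.to_subgroup ⊤, fun _ _ => trivial, fun a _ b _ => map_mul β a b,
    fun _ _ _ _ e => β.injective e, fun g _ => Inv.aut_fix_of_fix_diff hT β hm hβ g⟩
  have fx : ∀ {t i}, d.E t i → d.E (β t) i := d.E_fix hP hN hm hβ
  have k1 : ∀ i h, σ h = 1 → L h i = c → (∀ j, j ≠ i → L h j = 1) → π h ∈ o.fixed :=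
    fun i h h1 h2 h3 => by
      obtain ⟨t, e⟩ := d.exE i
      obtain ⟨t', ht, g, g0, g1, g2, g3⟩ := d.E_gen e
      obtain rfl : g = h := d.ext₁ g1 h1 fun l => by
        by_cases c : l = i
        · rw [c, g2, h2]
        · rw [g3 l c, h3 l c]
      refine o.mem_fixed_of_mem_zpowers trivial ?_
      rw [g0, map_commutatorElement, ← g0]
      exact d.E_cm (fx e) h1 h2 h3 (d.map_mem_Ab β ht)
  have k2 : ∀ n, ∀ t ∈ d.Ab, t ^ 2 ^ n = 1 → t ∈ o.fixed := fun n => by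
    induction n with
    | zero => exact fun t _ e => by rw [show t = 1 by simpa using e]; exact one_mem _
    | succ n ih =>
      intro t ht e
      have hb := d.map_mem_Ab β ht
      have a1 := (ih _ (mul_mem ht ht) (by rw [← pow_two, ← pow_mul, ← pow_succ', e])).2
      refine o.mem_fixed_of_diff trivial (d.mem_of_cent k1 (mul_mem (inv_mem ht) hb)
        (fun i v ev => ?_) ?_)
      · obtain ⟨h, h1, h2, h3⟩ := d.exc i
        have a2 := ((zpowers_le.2 (k1 i h h1.1 h2 h3)) (d.E_cm ev h1.1 h2 h3 ht)).2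
        have a3 := d.comm_Ab _ (d.E_div ev (fx ev)) _ hb
        rw [map_commutatorElement] at a2
        have a4 : ⁅v, β t⁆ = ⁅v, t⁆ := by
          rw [← a2, commutatorElement_def, commutatorElement_def, show β v = v * (v⁻¹ * β v) by group,
            mul_assoc v (_ * _), a3]; group
        rw [commutatorElement_def, commutatorElement_def, mul_inv_eq_iff_eq_mul] at a4
        rw [commutatorElement_def, ← conj_mul, a4, conj_inv.symm]
        group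
      · have a6 := d.comm_Ab _ (inv_mem ht) _ hb
        rw [mul_assoc, ← mul_assoc (β t), ← a6, mul_assoc, ← map_mul, a1]; group
  have k3 : ∀ t ∈ d.Ab, β t = t := fun t ht => let ⟨n, e⟩ := hT t; (k2 n t ht e).2
  refine MulEquiv.ext fun t => o.fix t trivial (k3 _ (d.mem_Ab_of_cent fun b hb => ?_))
  have := k3 _ ((inferInstance : d.Ab.Normal).conj_mem _ hb t)
  rw [map_mul, map_mul, map_inv, k3 b hb] at this
  rw [commutatorElement_def, mul_inv_rev, mul_assoc t⁻¹, mul_assoc t⁻¹, ← mul_assoc (β t * b), this]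
  group

end St

end Cfsg.Agent.Fus.LnS
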