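import Cfsg.Agent.Fus.LnB
import Cfsg.Agent.PLocal.AmbSyl
import Cfsg.Agent.Grp.UniqueOrderP
import Cfsg.Agent.Class.Wr.SL
import Cfsg.Agent.S0261

/-! The data `RD` for a Sylow 2-subgroup of `GL₂(q)`. -/

set_option autoImplicit false
set_option linter.unusedSectionVars false

namespace Cfsg.Agent.Fus.LnS

open Subgroup Cfsg.Agent.PLocal.Amb
open Matrix hiding zpow_add zpow_mul one_zpow inv_zpow zpow_neg

variable {F : Type*} [Field F]

local notation "G₂" => GL (Fin 2) F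
local notation "dt" => (GeneralLinearGroup.det : G₂ →* Fˣ)
local notation "sc" => (GeneralLinearGroup.scalar (Fin 2) : Fˣ →* G₂)

theorem det_eq {x : G₂} (h : dt x = 1) : x.1 0 0 * x.1 1 1 - x.1 0 1 * x.1 1 0 = 1 :=
  (det_fin_two _).symm.trans (congrArg Units.val h)

theorem ent {x x' : G₂} (h : x = x') (i j : Fin 2) : x.1 i j = x'.1 i j := by rw [h]

theorem eq_of_sq (h2 : (2 : F) ≠ 0) {x : G₂} (h : x * x = 1) (hd : dt x = 1) :
    x = 1 ∨ x = sc (-1) := by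
  have a := ent h 0 0
  have b := ent h 0 1
  have c := ent h 1 0
  have d := det_eq hd
  simp only [Units.val_mul, mul_apply, Fin.sum_univ_two, Units.val_one, one_apply_eq, ne_eq,
    zero_ne_one, one_ne_zero, not_false_eq_true, one_apply_ne] at a b c
  have t : x.1 0 0 + x.1 1 1 ≠ 0 := fun t => h2 (by linear_combination x.1 0 0 * t - a - d)
  have b' : x.1 0 1 = 0 := mul_left_cancel₀ t (by linear_combination b)
  have c' : x.1 1 0 = 0 := mul_left_cancel₀ t (by linear_combination c)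
  rw [b'] at a d
  rcases mul_self_eq_one_iff.1 (show x.1 0 0 * x.1 0 0 = 1 by linear_combination a) with e | e <;>
    [left; right] <;> ext i j <;> fin_cases i <;> fin_cases j <;> simp [e, b', c'] <;>
    rw [e] at d
  · linear_combination d
  · linear_combination -d

theorem tr_eq {u : G₂} (h : u * u = sc (-1)) (hd : dt u = 1) :
    u.1 1 1 = -u.1 0 0 := by
  have a := ent h 0 0
  have b := ent h 0 1
  have d := det_eq hd
  have a' := ent h 1 1
  simp [mul_apply, Fin.sum_univ_two] at a b a'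
  by_contra t
  have t : u.1 0 0 + u.1 1 1 ≠ 0 := fun e => t (by linear_combination e)
  have a1 : u.1 0 0 = 0 := mul_left_cancel₀ t (by linear_combination a + d)
  have a2 : u.1 1 1 = 0 := mul_left_cancel₀ t (by linear_combination a' + d)
  exact t (by simp [a1, a2])

theorem exists_rep (h2 : (2 : F) ≠ 0) {u x : G₂} (h : u * u = sc (-1)) (hd : dt u = 1)
    (hx : x * u = u * x) : ∃ α β : F, x.1 = α • (1 : Matrix (Fin 2) (Fin 2) F) + β • u.1 ∧
      (dt x).1 = α * α + β * β := by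
  have t := tr_eq h hd
  have d := det_eq hd
  have a := ent hx 0 0
  have b := ent hx 0 1
  have c := ent hx 1 0
  simp only [Units.val_mul, mul_apply, Fin.sum_univ_two, t] at a b c d
  have k : x.1 = ((x.1 0 0 + x.1 1 1) / 2) • (1 : Matrix (Fin 2) (Fin 2) F) +
      (-((x.1 0 0 - x.1 1 1) * u.1 0 0 + x.1 0 1 * u.1 1 0 + x.1 1 0 * u.1 0 1) / 2) • u.1 := by
    ext i j
    fin_cases i <;> fin_cases j <;> simp [t] <;> field_simp
    · linear_combination (x.1 1 1 - x.1 0 0) * d - u.1 1 0 * b - u.1 0 0 * a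
    · linear_combination (-2 * x.1 0 1) * d + u.1 0 0 * b - u.1 0 1 * a
    · linear_combination (-2 * x.1 1 0) * d - u.1 0 0 * c + u.1 1 0 * a
    · linear_combination (x.1 0 0 - x.1 1 1) * d + u.1 1 0 * b + u.1 0 0 * a
  refine ⟨_, _, k, ?_⟩
  generalize (x.1 0 0 + x.1 1 1) / 2 = α, -(_ + _ : F) / 2 = β at k
  rw [GeneralLinearGroup.val_det_apply, k, det_fin_two]
  simp [t]
  linear_combination β * β * d

theorem sc_cen (u : Fˣ) (g : G₂) : sc u * g = g * sc u := GeneralLinearGroup.scalar_commute u g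

theorem sc_inj {u : Fˣ} (h : sc u = 1) : u = 1 := Units.ext (by simpa using ent h 0 0)

theorem dt_sc (u : Fˣ) : dt (sc u) = u * u := by simp [GeneralLinearGroup.det_scalar, sq]

theorem m_sq : sc (-1) * sc (-1) = 1 := by rw [← map_mul]; simp

theorem val_m : (sc (-1)).1 = -1 := by ext i j; fin_cases i <;> fin_cases j <;> simp

theorem eq_of_mem_zpowers {G : Type*} [Group G] {m g : G} (h : m * m = 1) (hg : g ∈ zpowers m) :
    g = 1 ∨ g = m := by
  obtain ⟨n, rfl⟩ := hg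
  obtain ⟨b, rfl | rfl⟩ := Int.even_or_odd' n <;> simp [zpow_add, zpow_mul, sq, h]

section Cent
variable (h2 : (2 : F) ≠ 0) {u x x' y : GL (Fin 2) F}
  (h : u * u = GeneralLinearGroup.scalar (Fin 2) (-1)) (hd : GeneralLinearGroup.det u = 1)
  (hx : x * u = u * x)
include h2 h hd hx

theorem cmm_of (hx' : x' * u = u * x') : x * x' = x' * x := by
  obtain ⟨α, β, e, -⟩ := exists_rep h2 h hd hx
  have := congrArg Units.val hx'
  simp only [Units.val_mul] at this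
  exact Units.ext (by simp [e, mul_add, add_mul, this])

theorem exists_rep' (hy : y * u * y⁻¹ = u⁻¹) : ∃ α β : F,
    x.1 = α • (1 : Matrix (Fin 2) (Fin 2) F) + β • u.1 ∧
    (y * x * y⁻¹).1 = α • (1 : Matrix (Fin 2) (Fin 2) F) - β • u.1 ∧ (dt x).1 = α * α + β * β := by
  obtain ⟨α, β, e, e'⟩ := exists_rep h2 h hd hx
  have k : u⁻¹ = u * sc (-1) := by rw [inv_eq_iff_mul_eq_one, ← mul_assoc, h, m_sq]
  have k1 : y.1 * u.1 * y⁻¹.1 = -u.1 := by
    simpa only [Units.val_mul, val_m, mul_neg, mul_one] using congrArg Units.val (hy.trans k)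
  refine ⟨α, β, e, ?_, e'⟩
  simp only [Units.val_mul, e, mul_add, add_mul, Matrix.mul_smul, Matrix.smul_mul, k1, mul_one,
    Units.mul_inv, smul_neg, sub_eq_add_neg]

theorem nrm_of (hy : y * u * y⁻¹ = u⁻¹) : x * (y * x * y⁻¹) = sc (dt x) := by
  obtain ⟨α, β, e1, e2, e3⟩ := exists_rep' h2 h hd hx hy
  have k : u.1 * u.1 = -1 := (congrArg Units.val h).trans val_m
  refine Units.ext ?_
  rw [Units.val_mul, e2, e1, GeneralLinearGroup.coe_scalar, e3, scalar_apply, ← smul_one_eq_diagonal]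
  simp only [mul_sub, add_mul, Matrix.mul_smul, Matrix.smul_mul, k, mul_one, one_mul]
  module

theorem sc_of (hy : y * u * y⁻¹ = u⁻¹) (e : y * x * y⁻¹ = x) : ∃ v, x = sc v := by
  obtain ⟨α, β, e1, e2, e3⟩ := exists_rep' h2 h hd hx hy
  rw [e, e1] at e2
  have k : (2 * β) • u.1 = 0 := by
    rw [mul_smul, two_smul]
    exact add_eq_zero_iff_eq_neg.2 (add_left_cancel (e2.trans (sub_eq_add_neg _ _)))
  have k1 : β = 0 := by simpa [h2, u.ne_zero] using k
  rw [k1, mul_zero, add_zero] at e3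
  refine ⟨Units.mk0 α fun c => (dt x).ne_zero (by rw [e3, c, mul_zero]), Units.ext ?_⟩
  simp [e1, k1, smul_one_eq_diagonal]

end Cent

variable [Fintype F]

theorem two_ne (hF : Odd (Fintype.card F)) : (2 : F) ≠ 0 := fun h => by
  have := FiniteField.cast_card_eq_zero F
  obtain ⟨n, hn⟩ := hF
  simp [hn, h] at this

theorem exists_not_comm (hF : Odd (Fintype.card F)) (D : Sylow 2 G₂) :
    ∃ x ∈ D, ∃ y ∈ D, dt x = 1 ∧ dt y = 1 ∧ x * y ≠ y * x := by
  classical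
  obtain ⟨P⟩ : Nonempty (Sylow 2 (SpecialLinearGroup (Fin 2) F)) := inferInstance
  obtain ⟨k, hk, ⟨e⟩⟩ := S0261.result hF P
  obtain ⟨g, -, hg⟩ := (isSyl_top D).exists_cj_le (P.isPGroup'.map SpecialLinearGroup.toGL) le_top
  have k1 : ∀ x : P, dt (g * SpecialLinearGroup.toGL x.1 * g⁻¹) = 1 := fun x => by
    simp [mul_comm (dt g)]
  refine ⟨_, hg (conj_mem_cj g (mem_map_of_mem _ (e.symm (.a 1)).2)), _,
    hg (conj_mem_cj g (mem_map_of_mem _ (e.symm (.xa 0)).2)), k1 _, k1 _, fun c => ?_⟩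
  rw [conj_mul, conj_mul, mul_left_inj, mul_right_inj, ← map_mul, ← map_mul,
    SpecialLinearGroup.toGL_injective.eq_iff, ← coe_mul, ← coe_mul, Subtype.coe_inj, ← map_mul,
    ← map_mul, e.symm.injective.eq_iff] at c
  simp only [QuaternionGroup.a_mul_xa, QuaternionGroup.xa_mul_a, QuaternionGroup.xa.injEq] at c
  have : ((2 : ℕ) : ZMod (2 * 2 ^ k)) = 0 := by push_cast; linear_combination -c
  have := Nat.le_of_dvd two_pos ((ZMod.natCast_eq_zero_iff _ _).1 this)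
  have := Nat.one_lt_two_pow (n := k) (by omega)
  omega

theorem exists_u (hF : Odd (Fintype.card F)) (D : Sylow 2 G₂) : ∃ u ∈ D, dt u = 1 ∧
    u * u = sc (-1) ∧ ∀ r ∈ D, r * u * r⁻¹ = u ∨ r * u * r⁻¹ = u⁻¹ := by
  classical
  have : (zpowers (sc (-1))).Normal := ⟨fun x hx g => by
    rcases eq_of_mem_zpowers m_sq hx with rfl | rfl <;> simp [← sc_cen]⟩
  let π := QuotientGroup.mk' (zpowers (sc (-1)))
  have hπ : ∀ g, π g = 1 → g = 1 ∨ g = sc (-1) := fun g h =>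
    eq_of_mem_zpowers m_sq ((QuotientGroup.eq_one_iff g).1 h)
  have hQ : IsPGroup 2 ((D.1 ⊓ (dt).ker).map π) := D.isPGroup'.to_inf_left.map π
  have k := inf_centralizer_ne_bot (D.isPGroup'.map π) hQ ((map_mono (le_normalizer_inf
    le_normalizer (le_top.trans (normalizer_eq_top _).ge))).trans (le_normalizer_map π)) fun c => by
      obtain ⟨x, hx, y, -, h1, -, h⟩ := exists_not_comm hF D
      rcases hπ x (mem_bot.1 (c.le (mem_map_of_mem π ⟨hx, h1⟩))) with rfl | rfl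
      exacts [h (by simp), h (sc_cen _ _)]
  obtain ⟨n, hn⟩ := (hQ.to_inf_left (K := 𝐂[D.1.map π])).exists_card_eq
  obtain ⟨⟨_, ⟨u, ⟨h1, h2⟩, rfl⟩, h3⟩, h4⟩ := exists_prime_orderOf_dvd_card' (G := ↥((D.1 ⊓ (dt).ker).map π ⊓
    𝐂[D.1.map π])) 2 (hn ▸ dvd_pow_self 2 fun c => k (card_eq_one.1 (by rw [hn, c, pow_zero])))
  replace h4 : orderOf (π u) = 2 := (orderOf_coe _).trans h4
  have h5 := hπ (u * u) (by rw [map_mul, ← sq]; exact orderOf_dvd_iff_pow_eq_one.1 h4.dvd)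
  have h6 : u * u = sc (-1) := h5.resolve_left fun c => by
    rcases eq_of_sq (two_ne hF) c h2 with rfl | rfl
    · simp at h4
    · rw [show π (sc (-1)) = 1 from (QuotientGroup.eq_one_iff _).2 (mem_zpowers _)] at h4
      simp at h4
  refine ⟨u, h1, h2, h6, fun r hr => (hπ (r * u * r⁻¹ * u⁻¹) ?_).imp mul_inv_eq_one.1 fun c => ?_⟩
  · simp [h3 _ (mem_map_of_mem π hr)]
  · rw [mul_inv_eq_iff_eq_mul.1 c, eq_inv_iff_mul_eq_one, mul_assoc, h6, m_sq]

theorem isSquare_mul_iff (hF : Odd (Fintype.card F)) :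
    (powMonoidHom 2 : Fˣ →* Fˣ).range.index = 2 := by
  rw [IsCyclic.index_powMonoidHom_range, Nat.gcd_eq_right_iff_dvd, Nat.card_units,
    Nat.card_eq_fintype_card]
  exact (Nat.Odd.sub_odd hF odd_one).two_dvd

omit [Fintype F] in
theorem mem_range_sq {v : Fˣ} : v ∈ (powMonoidHom 2 : Fˣ →* Fˣ).range ↔ IsSquare v :=
  ⟨fun ⟨r, h⟩ => ⟨r, h.symm.trans (sq r)⟩, fun ⟨r, h⟩ => ⟨r, (sq r).trans h.symm⟩⟩

theorem exists_ns (hF : Odd (Fintype.card F)) (D : Sylow 2 G₂) : ∃ r ∈ D, ¬ IsSquare (dt r) := by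
  classical
  by_contra! c
  refine D.not_dvd_index (Dvd.dvd.trans ?_ (index_dvd_of_le (K := (powMonoidHom 2 : Fˣ →* Fˣ).range.comap dt)
    fun r hr => mem_range_sq.2 (c r hr)))
  rw [index_comap_of_surjective _ GeneralLinearGroup.det_surjective, isSquare_mul_iff hF]

theorem pow_eq_of_exp (D : Sylow 2 G₂) {M : ℕ} (h : ∀ x ∈ D, dt x = 1 → x ^ M = 1) {ν : Fˣ} {n : ℕ}
    (hν : ν ^ 2 ^ n = 1) : ν ^ M = 1 := by
  classical
  let t : G₂ := ⟨diagonal ![ν.1, ν⁻¹.1], diagonal ![ν⁻¹.1, ν.1], by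
    rw [diagonal_mul_diagonal, ← diagonal_one]; congr 1; ext i; fin_cases i <;> simp, by
    rw [diagonal_mul_diagonal, ← diagonal_one]; congr 1; ext i; fin_cases i <;> simp⟩
  have k : ∀ m, t ^ m = 1 ↔ ν ^ m = 1 := fun m => by
    rw [Units.ext_iff, Units.val_pow_eq_pow_val, diagonal_pow, Units.val_one, ← diagonal_one,
      diagonal_eq_diagonal_iff, Fin.forall_fin_two, Units.ext_iff]
    simp
  obtain ⟨g, -, hg⟩ := (isSyl_top D).exists_cj_le (isPGroup_zpowers ⟨n, (k _).2 hν⟩) le_top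
  have := h _ (hg (conj_mem_cj g (mem_zpowers t))) (by
    rw [map_mul, map_mul, map_inv, mul_comm (dt g), mul_inv_cancel_right]
    exact Units.ext (by simp [t]))
  rwa [conj_pow, conj_eq_one_iff, k] at this

theorem exists_rd (hF : Odd (Fintype.card F)) (D : Sylow 2 G₂) :
    ∃ A y c a k, RD D.1 A dt sc y c a k := by
  classical
  have h2 := two_ne hF
  obtain ⟨u, uD, u1, u2, u3⟩ := exists_u hF D
  obtain ⟨y, yD, y1, hy⟩ : ∃ y ∈ D, dt y = 1 ∧ y * u * y⁻¹ = u⁻¹ := by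
    obtain ⟨x, hx, y, hy, x1, y1, h⟩ := exists_not_comm hF D
    by_contra! c
    exact h (cmm_of h2 u2 u1 (mul_inv_eq_iff_eq_mul.1 ((u3 x hx).resolve_right (c x hx x1)))
      (mul_inv_eq_iff_eq_mul.1 ((u3 y hy).resolve_right (c y hy y1))))
  set A := D.1 ⊓ centralizer {u}
  have mA : ∀ {x}, x ∈ A ↔ x ∈ D ∧ x * u = u * x := and_congr_right' mem_centralizer_singleton_iff
  have comm : ∀ x ∈ A, ∀ x' ∈ A, x * x' = x' * x := fun x hx x' hx' =>
    cmm_of h2 u2 u1 (mA.1 hx).2 (mA.1 hx').2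
  have hy2 : y * u⁻¹ * y⁻¹ = u := by rw [← conj_inv, hy, inv_inv]
  have hy' : y⁻¹ * u * y = u⁻¹ := by nth_rw 1 [← hy2]; group
  have dec : ∀ r ∈ D.1, r ∈ A ∨ r * y⁻¹ ∈ A := fun r hr => (u3 r hr).imp
    (fun e => mA.2 ⟨hr, mul_inv_eq_iff_eq_mul.1 e⟩) fun e => mA.2 ⟨mul_mem hr (inv_mem yD), by
      rw [← mul_inv_eq_iff_eq_mul, show r * y⁻¹ * u * (r * y⁻¹)⁻¹ = r * (y⁻¹ * u * y) * r⁻¹ by group,
        hy', ← conj_inv, e, inv_inv]⟩
  have bar : ∀ x ∈ A, y * x * y⁻¹ ∈ A := fun x hx => mA.2 ⟨mul_mem (mul_mem yD hx.1) (inv_mem yD), by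
    rw [← hy2, conj_mul, conj_mul,
      (Commute.inv_right (mA.1 hx).2 : Commute x u⁻¹)]⟩
  have nrm : ∀ x ∈ A, x * (y * x * y⁻¹) = sc (dt x) := fun x hx => nrm_of h2 u2 u1 (mA.1 hx).2 hy
  have scl : ∀ x ∈ A, y * x * y⁻¹ = x → ∃ v, x = sc v := fun x hx => sc_of h2 u2 u1 (mA.1 hx).2 hy
  obtain ⟨a, aA, ns⟩ : ∃ a ∈ A, ¬ IsSquare (dt a) := by
    obtain ⟨r, hr, e⟩ := exists_ns hF D
    exact (dec r hr).elim (⟨r, ·, e⟩) (⟨_, ·, by simpa [y1] using e⟩)
  have dcj : ∀ x, dt (y * x * y⁻¹) = dt x := fun x => by simp [y1]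
  have inv : ∀ x ∈ A, dt x = 1 → y * x * y⁻¹ = x⁻¹ := fun x hx e =>
    eq_inv_of_mul_eq_one_right (by rw [nrm x hx, e, map_one])
  have hC : IsPGroup 2 ↥(A ⊓ (dt).ker) := D.isPGroup'.to_inf_left.to_inf_left
  have : IsMulCommutative ↥(A ⊓ (dt).ker) := ⟨⟨fun x x' => Subtype.ext (comm _ x.2.1 _ x'.2.1)⟩⟩
  have one : ∀ x : G₂, dt x = 1 → orderOf x = 2 → x = sc (-1) := fun x e o =>
    (eq_of_sq h2 ((sq x).symm.trans (orderOf_dvd_iff_pow_eq_one.1 o.dvd)) e).resolve_left fun c => by simp [c] at o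
  obtain ⟨⟨b, bA, b1⟩, hb⟩ := (Grp.isCyclic_of_prime_order_mem_zpowers (G := ↥(A ⊓ (dt).ker))
    fun x x' hx e => by
      obtain ⟨n, hn⟩ := IsPGroup.iff_orderOf.1 hC x
      have : orderOf x = 2 := by
        rw [hn] at hx ⊢; rw [(Nat.Prime.eq_one_of_pow hx), pow_one]
      rw [show x' = x from Subtype.ext ((one _ x'.2.2 (by rw [orderOf_coe, e, this])).trans
        (one _ x.2.2 (by rw [orderOf_coe, this])).symm)]
      exact mem_zpowers x).exists_generator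
  replace hb : ∀ x ∈ A, dt x = 1 → x ∈ zpowers b := fun x hx e =>
    let ⟨n, hn⟩ := hb ⟨x, hx, e⟩; ⟨n, congrArg Subtype.val hn⟩
  replace bA : b ∈ A := bA
  replace b1 : dt b = 1 := b1
  have m1 : sc (-1) ≠ 1 := fun c => h2 (by
    have e : (-1 : F) = 1 := congrArg Units.val (sc_inj c)
    linear_combination -e)
  obtain ⟨k, hk⟩ : ∃ k, orderOf b = 2 ^ (k + 2) := by
    obtain ⟨n, hn⟩ := IsPGroup.iff_orderOf.1 hC ⟨b, bA, b1⟩
    rw [← orderOf_coe] at hn
    refine ⟨n - 2, hn.trans (congrArg _ (Nat.sub_add_cancel (by_contra fun c => m1 ?_)).symm)⟩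
    obtain ⟨m, rfl⟩ := hb u (mA.2 ⟨uD, rfl⟩) u1
    rw [← u2, ← sq, ← zpow_natCast, ← zpow_mul, mul_comm, zpow_mul, zpow_natCast,
      orderOf_dvd_iff_pow_eq_one.1 (hn ▸ pow_dvd_pow 2 (by omega : n ≤ 1)), one_zpow]
  have cA := mul_mem (inv_mem aA) (bar a aA)
  have c1 : dt (a⁻¹ * (y * a * y⁻¹)) = 1 := by rw [map_mul, dcj, map_inv, inv_mul_cancel]
  have ya : y * a * y⁻¹ = a * (a⁻¹ * (y * a * y⁻¹)) := by group
  generalize a⁻¹ * (y * a * y⁻¹) = c at cA c1 ya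
  have bc : zpowers b = zpowers c := by
    refine le_antisymm (zpowers_le.2 ?_) (zpowers_le.2 (hb c cA c1))
    obtain ⟨n, rfl⟩ := hb c cA c1
    obtain ⟨m, rfl | rfl⟩ := Int.even_or_odd' n
    · obtain ⟨v, hv⟩ := scl _ (mul_mem aA (zpow_mem bA m)) (by
        rw [← conj_mul, ya, ← conj_zpow, inv b bA b1]; group)
      exact absurd ⟨v, by simpa [b1, sq] using congrArg dt hv⟩ ns
    · refine mem_zpowers_zpow_iff.2 ?_
      rw [hk, ← Int.isCoprime_iff_gcd_eq_one]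
      push_cast
      exact IsCoprime.pow_right ⟨1, -m, by ring⟩
  rw [bc] at hb
  rw [← Nat.card_zpowers, bc, Nat.card_zpowers] at hk
  have c2 : c ^ 2 ^ (k + 2) = 1 := hk ▸ pow_orderOf_eq_one c
  have z : c ^ 2 ^ (k + 1) = sc (-1) := one _ (by simp [c1]) (by
    rw [orderOf_pow_of_dvd (by positivity) (hk ▸ pow_dvd_pow 2 (by omega)), hk, pow_succ,
      Nat.mul_div_cancel_left _ (by positivity)])
  have ex : ∀ x ∈ D, dt x = 1 → x ^ 2 ^ (k + 2) = 1 := fun x hx e => by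
    rcases dec x hx with h | h
    · obtain ⟨n, rfl⟩ := hb x h e
      rw [← zpow_natCast, ← zpow_mul, mul_comm, zpow_mul, zpow_natCast, c2, one_zpow]
    obtain ⟨v, hv⟩ := scl (y * y) (mA.2 ⟨mul_mem yD yD, by
      rw [← mul_inv_eq_iff_eq_mul, show y * y * u * (y * y)⁻¹ = y * (y * u * y⁻¹) * y⁻¹ by group,
        hy, hy2]⟩) (by group)
    have e1 : x * x = sc v := by
      have := inv _ h (by simp [e, y1])
      rw [← hv, ← mul_inv_eq_one, ← mul_inv_cancel (x * y⁻¹), ← this]; group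
    have e2 : v * v = 1 := by rw [← dt_sc, ← e1, map_mul, e, mul_one]
    rw [pow_add, mul_comm, pow_mul, show x ^ 2 ^ 2 = x * x * (x * x) by simp [pow_succ, mul_assoc],
      e1, ← map_mul, e2, map_one, one_pow]
  refine ⟨A, y, c, a, k, inf_le_left, comm, yD, y1, dec, bar, sc_cen, dt_sc, nrm, scl, cA, c1, hk,
    hb, aA, ya, ns, fun x _ => or_iff_not_imp_left.2 fun e => ?_, fun x hx ⟨ν, e⟩ => ?_,
    fun v e => ?_, -1, z⟩
  · simp only [← mem_range_sq] at *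
    exact (mul_mem_iff_of_index_two (isSquare_mul_iff hF)).2 (by simp [e, ns])
  · obtain ⟨n, hn⟩ := D.isPGroup' ⟨x, hx.1⟩
    have hν : ν ^ 2 ^ (n + 1) = 1 := by
      rw [pow_succ', pow_mul, sq, ← e, ← map_pow, show x ^ 2 ^ n = 1 from congrArg Subtype.val hn,
        map_one]
    have : (zpowers (sc ν)).Normal := ⟨fun _ ⟨m, h⟩ g => ⟨m, by
      rw [← h]; beta_reduce; rw [← map_zpow, ← sc_cen, mul_inv_cancel_right]⟩⟩
    have k1 : sc ν ∈ D.1 := (isPGroup_zpowers ⟨n + 1, by rw [← map_pow, hν, map_one]⟩).le_sylow_of_normal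
      D (mem_zpowers _)
    have k2 := pow_eq_of_exp D ex hν
    have k3 := ex _ (mul_mem hx.1 (inv_mem k1)) (by rw [map_mul, map_inv, dt_sc, e, mul_inv_cancel])
    rw [Commute.mul_pow (Commute.inv_right (sc_cen ν x).symm), inv_pow, ← map_pow, k2, map_one,
      inv_one, mul_one] at k3
    rw [z]
    exact eq_of_sq h2 (by rw [← pow_add, ← mul_two, ← pow_succ, k3])
      (by rw [map_pow, e, ← sq, ← pow_mul, ← pow_succ', k2])
  · rw [z]
    exact eq_of_sq h2 e (by rw [dt_sc]; exact sc_inj (by rwa [map_mul]))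

end Cfsg.Agent.Fus.LnS
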