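import Cfsg.Agent.Fus.MaxCl

/-! Blackburn's theorem on exceptional `p`-groups of maximal class. -/

set_option autoImplicit false

namespace Cfsg.Agent.Fus.MC.IsMC

open Subgroup FGS.LcsLie Engel
open scoped commutatorElement

universe u

variable {G : Type u} [Group G] [Finite G] {p n : ℕ} [hp : Fact p.Prime]

theorem exists_gen_K (h : IsMC p n G) (hn : 4 ≤ n) {s : G} (hs : U 2 s) :
    ∃ y ∈ K G 1, ⁅s, y⁆ ∉ gam G 2 ∧ K G 1 = gam G 1 ⊔ zpowers y := by
  obtain ⟨g, -, hg⟩ : ∃ x ∈ gam G 0, ⁅s, x⁆ ∉ gam G (0 + 2) := by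
    simpa [mem_K] using hs 0 (by omega)
  obtain ⟨k, hk⟩ := h.exists_pow_mul_mem_K le_rfl (hs 1 (by omega)) g
  have hy : ⁅s, (s ^ k)⁻¹ * g⁆ ∉ gam G 2 := by
    rw [comm_mem_iff (j := 0) (mem_top _)] at hg ⊢
    rwa [cls_mul (n := 0) (mem_top _) (mem_top _), cls_inv (n := 0) (mem_top _),
      cls_pow (n := 0) (mem_top _), lie_add, lie_neg, lie_nsmul, lie_self, smul_zero, neg_zero,
      zero_add]
  exact ⟨_, hk, hy, h.eq_sup (h.K_ne_top (by omega)) (gam_one_le_K 1) hk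
    fun e => hy (comm_mem_succ e s)⟩

theorem exc_core (h : IsMC p n G) {m : ℕ} (hm : 1 ≤ m) (hn : m + 3 ≤ n)
    (hlt : ∀ j, 1 ≤ j → j < m → K G 1 ≤ K G j) (hne : ¬ K G 1 ≤ K G m) :
    Odd m ∧ 3 ≤ m ∧ m + 3 = n ∧ ∃ u ∈ gam G 1, ∃ v ∈ gam G (m - 1), ⁅u, v⁆ ∉ gam G (m + 2) := by
  have h3 : 3 ≤ m := by
    by_contra hc
    obtain rfl | rfl : m = 1 ∨ m = 2 := by omega
    exacts [hne le_rfl, hne (h.K_one_le (by omega))]
  obtain ⟨s, hs⟩ := h.exists_U
  obtain ⟨y, hyK, hy, eK⟩ := h.exists_gen_K (by omega) (hs.mono (by omega))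
  have hx : ∀ k, ad s k y ∈ gam G k := fun k => by simpa using ad_mem (i := 0) (mem_top y) s k
  have hx' : ∀ k, 1 ≤ k → k + 2 ≤ n → ad s k y ∉ gam G (k + 1) := fun k h1 h2 => by
    obtain ⟨k, rfl⟩ : ∃ j, k = j + 1 := ⟨k - 1, by omega⟩
    simpa using h.ad_not_mem hs (j := 0) (mem_top y) hy k (by omega)
  obtain ⟨X, hX⟩ : ∃ X : ℕ → Lie G, ∀ k, X k = cls k (ad s k y) := ⟨_, fun _ => rfl⟩
  have hXs : ∀ k, ⁅cls 0 s, X k⁆ = X (k + 1) := fun k => by
    rw [hX, hX, ad_succ, cls_comm (hx k)]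
  have hX0 : X 0 = cls 0 y := hX 0
  have rc : ∀ i k, ⁅cls 0 s, ⁅X i, X k⁆⁆ = ⁅X (i + 1), X k⁆ + ⁅X i, X (k + 1)⁆ := fun i k => by
    rw [leibniz_lie, hXs, hXs]
  have z0 : ∀ k < m, ⁅X 0, X k⁆ = 0 := fun k hk => by
    rcases Nat.eq_zero_or_pos k with rfl | h0
    · exact lie_self _
    · rw [hX0, hX k, ← comm_mem_iff (hx k)]
      exact hlt k h0 hk hyK _ (hx k)
  have z : ∀ d < m, ∀ i k, i + k = d → ⁅X i, X k⁆ = 0 := by
    intro d
    induction d with
    | zero => intro _ i k e; obtain rfl : i = k := by omega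
              exact lie_self _
    | succ d ihd =>
      intro hd i
      induction i with
      | zero => intro k e; exact z0 k (by omega)
      | succ i ih =>
        intro k e
        have := rc i k
        rw [ihd (by omega) i k (by omega), lie_zero, ih (k + 1) (by omega), add_zero] at this
        exact this.symm
  have hw := comm_mem_succ (hx m) y
  have hW : cls (m + 1) ⁅y, ad s m y⁆ = ⁅X 0, X m⁆ := by rw [cls_comm (hx m), hX0, hX m]
  have hA : ⁅y, ad s m y⁆ ∉ gam G (m + 2) := fun e => hne (by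
    rw [eK]
    refine sup_le (gam_one_le_K m) (zpowers_le.2 fun v hv => ?_)
    obtain ⟨k, hk⟩ := h.gen hm (hx m) (hx' m hm (by omega)) hv
    rw [comm_mem_iff hv, hk, lie_nsmul, (comm_mem_iff (hx m) y).1 e, smul_zero])
  have hA' : ⁅X 0, X m⁆ ≠ 0 := by rw [← hW]; exact mt (cls_eq_zero_iff hw).1 hA
  have sg : ∀ i k, i + k = m → ⁅X i, X k⁆ = (-1 : ℤ) ^ i • ⁅X 0, X m⁆ := by
    intro i
    induction i with
    | zero => intro k e; obtain rfl : k = m := by omega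
              simp
    | succ i ih =>
      intro k e
      have := rc i k
      rw [z (m - 1) (by omega) i k (by omega), lie_zero, ih (k + 1) (by omega)] at this
      rw [pow_succ, mul_neg, mul_one, neg_smul]
      exact eq_neg_of_add_eq_zero_left this.symm
  have sg' : ∀ i k, i + k = m → ⁅X i, X k⁆ ≠ 0 := fun i k e e' => hA' (by
    have := sg i k e
    rw [e'] at this
    rcases neg_one_pow_eq_or ℤ i with h1 | h1
    · rw [this, h1, one_smul]
    · rwa [h1, neg_smul, one_smul, eq_comm, neg_eq_zero] at this)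
  have hodd : Odd m := by
    rcases Nat.even_or_odd m with ⟨i, hi⟩ | h
    · exact absurd (lie_self _) (sg' i i hi.symm)
    · exact h
  refine ⟨hodd, h3, by_contra fun hc => ?_, _, hx 1, _, hx (m - 1), fun e => ?_⟩
  swap
  · refine sg' 1 (m - 1) (by omega) ?_
    rw [hX, hX, lie_cls (hx 1) (hx (m - 1))]
    refine cls_eq_zero ?_
    rwa [show 1 + (m - 1) + 1 + 1 = m + 2 by omega]
  have hmp : m < p := by
    by_contra hle
    exact hne ((hlt (m - (p - 1)) (by omega) (by have := hp.out.two_le; omega)).trans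
      (h.K_le (hs.mono (by omega)) (by omega) (by have := hp.out.two_le; omega) (by omega)))
  obtain ⟨t, ht⟩ := hodd
  have bs : ∀ i k, i + k = m + 1 → ⁅X i, X k⁆ =
      (-1 : ℤ) ^ i • (⁅X 0, X (m + 1)⁆ - i • ⁅cls 0 s, ⁅X 0, X m⁆⁆) := by
    intro i
    induction i with
    | zero => intro k e; obtain rfl : k = m + 1 := by omega
              simp
    | succ i ih =>
      intro k e
      have := rc i k
      rw [sg i k (by omega), ih (k + 1) (by omega), lie_zsmul] at this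
      rw [eq_sub_of_add_eq this.symm, pow_succ, succ_nsmul]
      module
  have b0 : ⁅X 0, X (m + 1)⁆ = 0 := by
    obtain ⟨k, hk⟩ := h.gen (j := m + 1) (by omega) hw hA (hx (m + 1))
    have e1 := sg 1 (m - 1) (by omega)
    have e2 : ⁅X 0, ⁅X 1, X (m - 1)⁆⁆ = 0 := by
      rw [leibniz_lie, z0 1 (by omega), z0 (m - 1) (by omega), zero_lie, lie_zero, add_zero]
    rw [e1, pow_one, neg_smul, one_smul, lie_neg, neg_eq_zero] at e2
    rw [hX (m + 1), hk, lie_nsmul, hW, e2, smul_zero]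
  have b1 := bs (t + 1) (t + 1) (by omega)
  rw [lie_self, b0, zero_sub] at b1
  have b2 : (t + 1) • ⁅cls 0 s, ⁅X 0, X m⁆⁆ = 0 := by
    rcases neg_one_pow_eq_or ℤ (t + 1) with h1 | h1 <;> rw [h1] at b1 <;> simpa using b1.symm
  have hv := comm_mem_succ hw s
  rw [← hW, ← cls_comm hw, ← cls_pow hv, cls_eq_zero_iff (pow_mem hv _)] at b2
  have b3 : ⁅s, ⁅y, ad s m y⁆⁆ ^ p ∈ gam G (m + 1 + 1 + 1) :=
    gam_anti (by have := hp.out.two_le; omega) (h.pow_mem_gam (by omega) hv)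
  refine hA (h.mem_succ (by omega) (hs (m + 1) (by omega)) hw ?_)
  have hco : Nat.Coprime (t + 1) p :=
    ((hp.out.coprime_iff_not_dvd).2 (Nat.not_dvd_of_pos_of_lt (by omega) (by omega))).symm
  obtain ⟨a, b, e⟩ := Nat.isCoprime_iff_coprime.2 hco
  rw [← zpow_one ⁅s, _⁆, ← e, zpow_add, mul_comm a, mul_comm b, zpow_mul, zpow_mul, zpow_natCast,
    zpow_natCast]
  exact mul_mem (zpow_mem b2 a) (zpow_mem b3 b)

/-- `G / Z(G)` is never exceptional. -/
theorem K_one_le_K (h : IsMC p n G) {j : ℕ} (hj : 1 ≤ j) (hn : j + 4 ≤ n) : K G 1 ≤ K G j := by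
  induction j using Nat.strong_induction_on with
  | _ j ih =>
    by_contra hne
    have := (h.exc_core hj (by omega) (fun i h1 h2 => ih i h2 h1 (by omega)) hne).2.2.1
    omega

theorem exc (h : IsMC p n G) (hn : 4 ≤ n) (hne : ¬ K G 1 ≤ K G (n - 3)) :
    Even n ∧ 6 ≤ n ∧ ∃ u ∈ gam G 1, ∃ v ∈ gam G (n - 4), ⁅u, v⁆ ≠ 1 := by
  obtain ⟨⟨t, ht⟩, h3, -, u, hu, v, hv, huv⟩ := h.exc_core (m := n - 3) (by omega) (by omega)
    (fun j h1 h2 => h.K_one_le_K h1 (by omega)) hne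
  exact ⟨⟨t + 2, by omega⟩, by omega, u, hu, v, hv, fun e => huv (e ▸ one_mem _)⟩

end Cfsg.Agent.Fus.MC.IsMC
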