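import Cfsg.Agent.Fus.MCExc

/-! Normal subgroups of `p`-groups of maximal class, and commutators in exceptional groups. -/

set_option autoImplicit false

namespace Cfsg.Agent.Fus.MCN

open Subgroup FGS.LcsLie Engel MC
open scoped commutatorElement

universe u

variable {G : Type u} [Group G] [Finite G] {p n : ℕ} [hp : Fact p.Prime] {s : G}

omit [Finite G] in
theorem comm_mem_normal {N : Subgroup G} [hN : N.Normal] {x : G} (hx : x ∈ N) (g : G) :
    ⁅g, x⁆ ∈ N := mul_mem (hN.conj_mem x hx g) (inv_mem hx)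

omit [Finite G] in
theorem cls_map (γ : G →* G) (hγ : ∀ x, γ x * x⁻¹ ∈ gam G 1) (k : ℕ) :
    ∀ x ∈ gam G k, cls k (γ x) = cls k x := by
  induction k with
  | zero =>
    intro x _
    have := cls_mul (n := 0) (mem_top (γ x * x⁻¹)) (mem_top x)
    rwa [cls_eq_zero (n := 0) (hγ x), zero_add, inv_mul_cancel_right] at this
  | succ k ih =>
    intro x hx
    induction hx using closure_induction with
    | mem x hx =>
      obtain ⟨a, ha, b, -, rfl⟩ := hx
      have h0 : cls 0 (γ b) = cls 0 b := by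
        have := cls_mul (n := 0) (mem_top (γ b * b⁻¹)) (mem_top b)
        rwa [cls_eq_zero (n := 0) (hγ b), zero_add, inv_mul_cancel_right] at this
      have e1 := lie_cls (j := 0) (map_mem γ ha) (mem_top (γ b))
      have e2 := lie_cls (j := 0) ha (mem_top b)
      rw [add_zero] at e1 e2
      rw [map_commutatorElement, ← e1, ← e2, ih a ha, h0]
    | one => rw [map_one]
    | mul x y hx hy ihx ihy =>
      rw [map_mul, cls_mul (n := k + 1) (map_mem γ hx) (map_mem γ hy), cls_mul (n := k + 1) hx hy,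
        ihx, ihy]
    | inv x hx ihx =>
      rw [map_inv, cls_inv (n := k + 1) (map_mem γ hx), cls_inv (n := k + 1) hx, ihx]

variable (h : IsMC p n G)
include h

theorem gam_le_of_mem {N : Subgroup G} [N.Normal] {i : ℕ} (hi : 1 ≤ i) {x : G} (hx : x ∈ N)
    (h1 : x ∈ gam G i) (h2 : x ∉ gam G (i + 1)) : gam G i ≤ N := by
  obtain ⟨s, hs⟩ := h.exists_U
  have hn : i + 2 ≤ n := by
    by_contra hc
    exact h2 (mem_bot.1 ((h.gam_eq_bot_iff.2 (by omega)).le h1) ▸ one_mem _)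
  obtain ⟨d, hd⟩ : ∃ d, i + d + 2 = n := ⟨n - 2 - i, by omega⟩
  induction d generalizing i x with
  | zero =>
    rw [h.le_sup hi h1 h2, h.gam_eq_bot_iff.2 (by omega)]
    exact sup_le bot_le (zpowers_le.2 hx)
  | succ d ih =>
    rw [h.le_sup hi h1 h2]
    exact sup_le (ih (by omega) (comm_mem_normal hx s) (comm_mem_succ h1 s)
      (fun e => h2 (h.mem_succ hi (hs i (by omega)) h1 e)) (by omega) (by omega)) (zpowers_le.2 hx)

theorem eq_gam {N : Subgroup G} [N.Normal] (hN : N ≤ gam G 1) :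
    ∃ i, 1 ≤ i ∧ i + 1 ≤ n ∧ N = gam G i := by
  have h3 := h.three
  have key : ∀ d i, 1 ≤ i → i + d + 1 = n → N ≤ gam G i →
      ∃ i, 1 ≤ i ∧ i + 1 ≤ n ∧ N = gam G i := by
    intro d
    induction d with
    | zero =>
      intro i hi e hle
      refine ⟨i, hi, e.le, le_antisymm hle ?_⟩
      rw [h.gam_eq_bot_iff.2 (by omega)]; exact bot_le
    | succ d ih =>
      intro i hi e hle
      by_cases hc : N ≤ gam G (i + 1)
      · exact ih (i + 1) (by omega) (by omega) hc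
      · obtain ⟨x, hx, hx'⟩ := SetLike.not_le_iff_exists.1 hc
        exact ⟨i, hi, by omega, le_antisymm hle (gam_le_of_mem h hi hx (hle hx) hx')⟩
  exact key (n - 2) 1 le_rfl (by omega) hN

theorem gam_one_le {N : Subgroup G} [hN : N.Normal] (hN' : ¬ N ≤ gam G 1) : gam G 1 ≤ N := by
  obtain ⟨x, hx, hx'⟩ := SetLike.not_le_iff_exists.1 hN'
  rw [← h.K_zero, mem_K] at hx'
  push Not at hx'
  obtain ⟨y, -, hy⟩ := hx'
  refine gam_le_of_mem h le_rfl (x := ⁅x, y⁆) ?_ (comm_mem_succ (j := 0) (mem_top y) x) hy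
  rw [← commutatorElement_inv]; exact inv_mem (comm_mem_normal hx y)

theorem mem_of_ad (hs : U (n - 2) s) {x : G} (hx : x ∈ gam G 1) (c : ℕ) {r : ℕ}
    (hr : r + c + 1 ≤ n) (hc : ad s c x ∈ gam G (r + c)) : x ∈ gam G r := by
  induction c generalizing r with
  | zero => exact hc
  | succ c ih =>
    rw [ad_succ] at hc
    exact ih (by omega) (h.mem_of_comm_mem hs (gam_anti (by omega) (ad_mem hx s c)) (by omega) hc)

theorem surj (hn : 4 ≤ n) (hs : U (n - 2) s) {a : ℕ} (ha : a + 3 ≤ n) {x : G}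
    (hx : x ∈ gam G (a + 1)) :
    ∃ x' ∈ K G 1, x' ∈ gam G a ∧ cls (a + 1) x = ⁅cls 0 s, cls a x'⁆ := by
  obtain ⟨y, hyK, hy, -⟩ := h.exists_gen_K hn (hs.mono (by omega))
  have h1 : ∀ k, ad s k y ∈ gam G k := fun k => by simpa using ad_mem (i := 0) (mem_top y) s k
  have h2 : ad s (a + 1) y ∉ gam G (a + 2) := by
    simpa using h.ad_not_mem hs (j := 0) (mem_top y) hy a (by omega)
  obtain ⟨k, hk⟩ := h.gen (by omega) (h1 (a + 1)) h2 hx
  refine ⟨ad s a y ^ k, pow_mem ?_ k, pow_mem (h1 a) k, ?_⟩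
  · rcases a with _ | a
    · exact hyK
    · exact gam_one_le_K 1 (gam_anti (by omega) (h1 _))
  · rw [hk, cls_pow (h1 a), lie_nsmul, ad_succ, cls_comm (h1 a)]

theorem lie_zero_of (hn : 4 ≤ n) (a : ℕ) : ∀ b, 1 ≤ b → a + b + 4 ≤ n → ∀ x ∈ K G 1,
    x ∈ gam G a → ∀ w ∈ gam G b, ⁅cls a x, cls b w⁆ = 0 := by
  obtain ⟨s, hs⟩ := h.exists_U
  induction a with
  | zero =>
    intro b hb hab x hx _ w hw
    exact (comm_mem_iff hw x).1 (h.K_one_le_K hb (by omega) hx w hw)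
  | succ a ih =>
    intro b hb hab x _ hx w hw
    obtain ⟨x', h1, h2, e⟩ := surj h hn hs (by omega) hx
    rw [e, lie_lie, ih b hb (by omega) x' h1 h2 w hw, ← cls_comm hw,
      ih (b + 1) (by omega) (by omega) x' h1 h2 _ (comm_mem_succ hw s), lie_zero, sub_zero]

theorem comm_mem_two (hn : 4 ≤ n) {a b : ℕ} (hb : 1 ≤ b) (hab : a + b + 4 ≤ n) {x w : G}
    (hx : x ∈ K G 1) (hx' : x ∈ gam G a) (hw : w ∈ gam G b) : ⁅x, w⁆ ∈ gam G (a + b + 2) := by
  have := lie_zero_of h hn a b hb hab x hx hx' w hw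
  rwa [lie_cls hx' hw, cls_eq_zero_iff (comm_mem hx' hw)] at this

theorem K_le_of_lie (hn : 4 ≤ n) (a : ℕ) : ∀ b, 1 ≤ b → a + b + 3 = n →
    (∀ x ∈ K G 1, x ∈ gam G a → ∀ w ∈ gam G b, ⁅cls a x, cls b w⁆ = 0) → K G 1 ≤ K G (n - 3) := by
  induction a with
  | zero =>
    intro b hb hab hz x hx w hw
    obtain rfl : b = n - 3 := by omega
    exact (comm_mem_iff hw x).2 (hz x hx (mem_top x) w hw)
  | succ a ih =>
    intro b hb hab hz
    refine ih (b + 1) (by omega) (by omega) fun x hx hx' w hw => lie_cls_succ (fun w' hw' c => ?_) hw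
    rw [leibniz_lie, lie_zero_of h hn a b hb (by omega) x hx hx' w' hw', lie_zero, add_zero,
      ← lie_skew (cls a x), ← cls_comm hx', neg_lie, neg_eq_zero]
    refine hz _ ?_ (comm_mem_succ hx' c) w' hw'
    exact comm_mem_normal hx c

/-- In an exceptional group, an abelian self-centralising term of the lower central series. -/
theorem exc_idx (hn : 4 ≤ n) (hne : ¬ K G 1 ≤ K G (n - 3)) {i : ℕ} (hi : 1 ≤ i) (hi' : i + 1 ≤ n)
    (hab : ∀ x ∈ gam G i, ∀ y ∈ gam G i, ⁅x, y⁆ = 1)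
    (hC : ∀ g, (∀ x ∈ gam G i, ⁅g, x⁆ = 1) → g ∈ gam G i) : 2 * i + 2 = n := by
  refine le_antisymm ?_ ?_
  · by_contra hc
    obtain ⟨x, hx, hx'⟩ := h.exists_not_mem (k := n - 2 - i) (by omega)
    refine hx' (gam_anti (by omega) (hC x fun y hy => mem_bot.1 ?_))
    rcases (show i + 1 = n ∨ i + 2 ≤ n by omega) with e | e
    · rw [mem_bot.1 ((h.gam_eq_bot_iff.2 (by omega)).le hy)]; simp
    · exact (h.gam_eq_bot_iff.2 (by omega)).le (comm_mem hx hy)
  · by_contra hc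
    refine hne (K_le_of_lie h hn i (n - 3 - i) (by omega) (by omega) fun x _ hx w hw => ?_)
    rw [lie_cls hx hw, hab x hx w (gam_anti (by omega) hw), cls_one]

/-- Elements acting as transvections with the same centre. -/
theorem exists_transv (hn : 6 ≤ n) {i : ℕ} (hi : 2 * i + 2 = n) {w : G} (hw : w ∈ gam G i) :
    ∃ g, g ∉ gam G i ∧ ⁅g, w⁆ = 1 ∧ ∀ x ∈ gam G i, ⁅g, x⁆ ∈ center G := by
  obtain ⟨i, rfl⟩ : ∃ j, i = j + 2 := ⟨i - 2, by omega⟩
  let B : Subgroup G := K G 1 ⊓ gam G i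
  have hB : ∀ g ∈ B, ∀ x ∈ gam G (i + 2), ⁅g, x⁆ ∈ center G := fun g hg x hx => by
    rw [h.center_eq]
    exact gam_anti (by omega) (comm_mem_two h (by omega) (by omega) (by omega) hg.1 hg.2 hx)
  let f : B →* center G := MonoidHom.mk' (fun g => ⟨⁅(g : G), w⁆, hB g g.2 w hw⟩) fun a b => by
    refine Subtype.ext ?_
    have := mem_center_iff.1 (hB b b.2 w hw) a
    simp only [coe_mul]
    rw [mem_center_iff.1 (hB b b.2 w hw), show ⁅(a : G) * b, w⁆ =
      a * ⁅(b : G), w⁆ * (a : G)⁻¹ * ⁅(a : G), w⁆ by simp [commutatorElement_def, mul_assoc], this]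
    simp
  obtain ⟨x, hx, hx'⟩ := h.exists_not_mem (k := i + 1) (by omega)
  have hxB : x ∈ B := ⟨gam_one_le_K 1 (gam_anti (by omega) hx), gam_anti (by omega) hx⟩
  obtain ⟨y, hy, hy'⟩ : ∃ y ∈ B, y ∉ gam G (i + 1) := by
    rcases i with _ | i
    · obtain ⟨s, hs⟩ := h.exists_U
      obtain ⟨y, hyK, hy, -⟩ := h.exists_gen_K (by omega) (hs.mono (by omega))
      exact ⟨y, ⟨hyK, mem_top y⟩, fun e => hy (comm_mem_succ e s)⟩
    · obtain ⟨y, hy, hy'⟩ := h.exists_not_mem (k := i + 1) (by omega)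
      exact ⟨y, ⟨gam_one_le_K 1 (gam_anti (by omega) hy), hy⟩, hy'⟩
  by_cases h1 : f ⟨x, hxB⟩ = 1
  · exact ⟨x, hx', congrArg Subtype.val h1, hB x hxB⟩
  obtain ⟨k, hk⟩ := mem_zpowers_iff.1 (mem_zpowers_of_prime_card h.card_center h1 (g' := f ⟨y, hy⟩))
  have h2 : f (⟨y, hy⟩ * (⟨x, hxB⟩ ^ k)⁻¹) = 1 := by rw [map_mul, map_inv, map_zpow, hk, mul_inv_cancel]
  refine ⟨y * (x ^ k)⁻¹, fun e => hy' ?_, congrArg Subtype.val h2,
    hB _ (mul_mem hy (inv_mem (zpow_mem hxB k)))⟩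
  simpa using mul_mem (gam_anti (by omega) e) (zpow_mem hx k)

/-- A maximal subgroup containing a uniform element has maximal class. -/
theorem isMC_of_U (hn : 4 ≤ n) (hs : U (n - 2) s) {E : Subgroup G} (hE : gam G 1 ≤ E)
    (hsE : s ∈ E) (hc : Nat.card E = p ^ (n - 1)) : IsMC p (n - 1) E := by
  refine (isMC_iff hc (by omega)).2 fun e => ?_
  obtain ⟨y, hy, hy'⟩ := h.exists_not_mem (k := 1) (by omega)
  have h1 : ∀ k, ad s k y ∈ E.lowerCentralSeries k := by
    intro k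
    induction k with
    | zero => exact hE hy
    | succ k ih =>
      rw [ad_succ, ← commutatorElement_inv]
      exact inv_mem (commutator_mem_commutator ih hsE)
  refine hy' (mem_of_ad h hs hy (n - 1 - 2) (by omega) ?_)
  rw [mem_bot.1 (e.le (h1 _))]; exact one_mem _

end Cfsg.Agent.Fus.MCN
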