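import Mathlib
import Cfsg.Agent.Fus.P5Core
import Cfsg.Agent.Fus.Pearl
import Cfsg.Agent.Fus.Hyper

/-! Saturated fusion systems on groups of order `p ^ 5`. -/

set_option autoImplicit false
set_option linter.unusedSectionVars false
set_option linter.unusedVariables false

namespace Cfsg.Agent.Fus.P5

open Subgroup Cfsg.FusionSystem Cfsg.Agent.Fus.AC
open scoped commutatorElement

section
variable {G : Type*} [Group G] [Finite G] {p : ℕ} [hp : Fact p.Prime]

theorem a3_core' (hcard : Nat.card G = p ^ 5) (hp2 : p ≠ 2) {N : Subgroup G} (hN : N.index = p)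
    (hZ : p ^ 2 ≤ Nat.card (N ⊓ centralizer (N : Set G) : Subgroup G))
    (hNA : ∀ A : Subgroup G, A.index = p → ¬ ∀ a ∈ A, ∀ b ∈ A, a * b = b * a)
    {s w : G} (hs : s ∉ N) (hw : w ∈ N) (hy : ⁅s, w⁆ ∉ centralizer (N : Set G))
    (hT : ∀ b : ℤ, ¬ (p : ℤ) ∣ b → ∃ γ : MulAut G, (∀ g ∈ N, γ g ∈ N) ∧
      (w ^ b)⁻¹ * γ w ∈ centralizer (N : Set G) ∧
      ∀ u ∈ N, u ∈ centralizer (N : Set G) → u⁻¹ * γ u ∈ ⁅N, N⁆) :
    p = 3 ∧ ∃ d, d ∉ commutator G ∧ ∀ γ : MulAut G, d⁻¹ * γ d ∈ commutator G := by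
  have hG : IsPGroup p G := IsPGroup.of_card hcard
  have hNn : N.Normal := normal_of_index_eq_minFac_card (by
    rw [hN, hcard, hp.out.pow_minFac (by norm_num)])
  have hNc := (card_of_index hcard).1 hN
  have eZ : (center N).map N.subtype = N ⊓ centralizer (N : Set G) := by
    ext x
    exact ⟨by rintro ⟨u, hu, rfl⟩; exact ⟨u.2, fun g hg => congrArg Subtype.val
      (Subgroup.mem_center_iff.1 hu ⟨g, hg⟩)⟩, fun h => ⟨⟨x, h.1⟩, Subgroup.mem_center_iff.2
        fun g => Subtype.ext (h.2 g g.2), rfl⟩⟩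
  have cZ : Nat.card (center N) = Nat.card (N ⊓ centralizer (N : Set G) : Subgroup G) := by
    rw [← eZ, card_map_of_injective N.subtype_injective]
  obtain ⟨a, ha, b, hb, hab⟩ : ∃ a ∈ N, ∃ b ∈ N, a * b ≠ b * a := by
    have := hNA N hN; push Not at this; exact this
  have hab' : ⁅(⟨a, ha⟩ : N), (⟨b, hb⟩ : N)⁆ ≠ 1 := fun e =>
    hab (congrArg Subtype.val (commutatorElement_eq_one_iff_mul_comm.1 e))
  have hi : (center N).index = p ^ 2 := by
    have h1 := Nat.le_of_dvd (Nat.pos_of_ne_zero index_ne_zero_of_finite)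
      (sq_dvd_index_center (hG.to_subgroup N) ⟨_, _, hab'⟩)
    have h2 := (center N).card_mul_index
    rw [hNc, cZ, show p ^ 4 = p ^ 2 * p ^ 2 by ring] at h2
    have := pow_pos hp.out.pos 2
    nlinarith
  obtain ⟨z, z1, z2, z3, z4, ⟨x, y, z5⟩, -⟩ := exists_z hi
  have eL : ⁅N, N⁆ = zpowers (z : G) := le_antisymm (commutator_le.2 fun g hg h hh => by
      obtain ⟨i, hi⟩ := z3 ⟨g, hg⟩ ⟨h, hh⟩
      exact ⟨i, congrArg Subtype.val hi⟩)
    (zpowers_le.2 (z5 ▸ commutator_mem_commutator x.2 y.2))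
  refine a3_core hcard hp2 (Z := N ⊓ centralizer (N : Set G)) (L := ⁅N, N⁆) hN ?_ ?_ ?_ inf_le_left
    (fun u hu g hg => commutatorElement_eq_one_iff_mul_comm.2 (hu.2 g hg))
    (fun a ha b hb => commutator_mem_commutator ha hb)
    (fun a ha => eZ.le ⟨_, z4 ⟨a, ha⟩, rfl⟩) hNA hs hw (fun h => hy h.2) fun b hb => ?_
  · have h2 := (center N).card_mul_index
    rw [hNc, cZ, hi, show p ^ 4 = p ^ 2 * p ^ 2 by ring] at h2
    exact Nat.eq_of_mul_eq_mul_right (pow_pos hp.out.pos 2) h2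
  · rw [eL, Nat.card_zpowers, orderOf_coe, z1]
  · rw [eL]; exact zpowers_le.2 (eZ.le ⟨z, z2, rfl⟩)
  · obtain ⟨γ, g1, g2, g3⟩ := hT b hb
    exact ⟨γ, g1, ⟨N.mul_mem (N.inv_mem (zpow_mem hw b)) (g1 w hw), g2⟩, fun u hu => g3 u hu.1 hu.2⟩

theorem exists_inv_int {b : ℤ} (hb : ¬ (p : ℤ) ∣ b) : ∃ a : ℤ, (p : ℤ) ∣ a * b - 1 := by
  obtain ⟨u, a, e⟩ := (Nat.prime_iff_prime_int.1 hp.out).irreducible.coprime_iff_not_dvd.2 hb
  exact ⟨a, -u, by linear_combination e⟩

end

variable {Ω : Type*} [Group Ω] {S : Subgroup Ω} {F : FusionSystem S} {E : Subgroup Ω}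
  {p : ℕ} [hp : Fact p.Prime] [Finite S]

theorem ext_norm (hS : IsPGroup p S) (hF : F.IsSaturated p) (hE : F.IsCentric E) {β : MulAut E}
    (hβ : β ∈ F.autGroup E) (h : ∀ t ∈ autInducedBy S E, β * t * β⁻¹ ∈ autInducedBy S E) :
    ∃ α ∈ F.autGroup (normalizerIn S E), ∀ x ∈ E, afn α x = afn β x := by
  obtain ⟨f, hf, e⟩ := sat_extend_of_centric hS hF (isMap_afn hE.1 hβ) hE (R := normalizerIn S E)
    fun s hs => mem_Nf_afn hs (h _ (conjAut_mem_autInducedBy hs))
  obtain ⟨α, hα, e'⟩ := hf.exists_aut' fun x hx => by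
    have := hf.mem_normalizerIn_img (le_normalizerIn hE.1) hx hx
    rwa [(img_congr e).trans (img_afn β)] at this
  exact ⟨α, hα, fun x hx => (e' x (le_normalizerIn hE.1 hx)).trans (e x hx)⟩

/-- essential subgroups which are elementary abelian of rank three -/
theorem a3_setup (hS : IsPGroup p S) (hF : F.IsSaturated p) (hE : F.IsEssential p E)
    (hc : Nat.card E = p ^ 3) (hΦ : frattini E = ⊥) (hbig : p ^ 5 ≤ Nat.card S) :
    Nat.card (normalizerIn S E) = p ^ 4 ∧ ∃ s ∈ normalizerIn S (normalizerIn S E),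
      s ∉ normalizerIn S E ∧ (E.comap (MulAut.conj s).toMonoidHom).relIndex E = p ∧
      (∀ u ∈ E, s * u * s⁻¹ ∈ E → ∀ g ∈ normalizerIn S E, g * u = u * g) ∧
      ∃ (t : MulAut E) (z : E) (D : Subgroup E), autInducedBy S E = zpowers t ∧ t ≠ 1 ∧ Tv p t z ∧
        AC.Inv (F.autGroup E) D ∧ Nat.card D = p ∧ D ≤ fix₁ t ∧
        ∀ g, t g = g → ∃ d ∈ D, ∃ v ∈ zpowers z, g = d * v := by
  have hES := hE.1.1
  have : Finite E := finite_of_le hES
  have : Finite (MulAut E) := finite_mulAut hES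
  have : Finite (normalizerIn S E) := finite_of_le (normalizerIn_le S E)
  have hG := isPGroup_of_le hS hES
  have hcm : ∀ x y : E, x * y = y * x := fun x y => commutatorElement_eq_one_iff_mul_comm.1
    (mem_bot.1 (hΦ.le (Grp.PFrattini.commutator_le_frattini hG
      (commutator_mem_commutator trivial trivial))))
  have he : ∀ x : E, x ^ p = 1 := fun x => mem_bot.1 (hΦ.le (Grp.PFrattini.pow_mem_frattini hG x))
  have hcm' : ∀ x ∈ E, ∀ y ∈ E, x * y = y * x := fun x hx y hy =>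
    congrArg Subtype.val (hcm ⟨x, hx⟩ ⟨y, hy⟩)
  have ha := sat_fullyAutomized hS hF hE.2.1
  have hA := autInducedBy_le_autGroup F hES
  have hcard : Nat.card (autInducedBy S E) = p := by
    have h1 := card_le_of_rank_three hc hcm he ha.2 hA (extAut_le F E) (fun g hg t ht t1 h => by
      obtain ⟨s, hs, rfl⟩ := exists_conjAut_eq ht
      refine mem_extAut hg fun hle => t1 ?_
      ext y
      simp [hcm' s (hle (mem_Nf_afn hs h)) y y.2]) (essential_not_le_extAut hS hF hE)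
    obtain ⟨k, hk⟩ := (isPGroup_autInducedBy hS E).exists_card_eq
    rw [hk] at h1 ⊢
    refine eq_prime_of_pow_le h1 fun h => (essential_cond hE ha).1 ?_
    rw [card_eq_one.1 (hk.trans h)]
    exact bot_le
  have hN : Nat.card (normalizerIn S E) = p ^ 4 := by
    rw [card_normalizerIn_eq, hcard, le_antisymm (isCentric_self hE.1) fun x hx =>
      mem_centralizerIn.2 ⟨hES hx, fun y hy => hcm' y hy x hx⟩, hc, ← pow_succ]
  obtain ⟨s, hs, hs'⟩ := exists_mem_normalizerIn_not_mem hS (T := normalizerIn S E)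
    (lt_of_le_of_ne (normalizerIn_le S E) fun e => by
      rw [← e, hN] at hbig
      exact absurd ((Nat.pow_le_pow_iff_right hp.out.one_lt).1 hbig) (by norm_num))
  set E' := E.comap (MulAut.conj s).toMonoidHom with hE'
  have hEN := le_normalizerIn hES
  have hE'N : E' ≤ normalizerIn S E := fun x hx => by
    simpa [mul_assoc] using conj_mem_of_mem_normalizerIn' hs (hEN hx)
  have hE'c : Nat.card E' = p ^ 3 := by
    rw [hE', comap_equiv_eq_map_symm', card_map_of_injective (MulEquiv.injective _), hc]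
  have i1 : ∀ U : Subgroup Ω, U ≤ normalizerIn S E → Nat.card U = p ^ 3 →
      U.relIndex (normalizerIn S E) = p := fun U h1 h2 => Nat.eq_of_mul_eq_mul_left
    (pow_pos hp.out.pos 3) (by rw [← h2, Grp.card_mul_relIndex h1, hN, h2, ← pow_succ])
  have hne : ¬ E ≤ E' := fun h => hs' (mem_normalizerIn_of_conj hs.1 h)
  have i2 : E'.relIndex E = p := by
    have h1 := relIndex_le_of_le_right (H := E') hEN (by rw [i1 _ hE'N hE'c]; exact hp.out.ne_zero)
    obtain ⟨k, hk⟩ := hG.index (E'.subgroupOf E)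
    rw [i1 _ hE'N hE'c] at h1
    change E'.relIndex E = _ at hk
    rw [hk] at h1 ⊢
    exact eq_prime_of_pow_le h1 fun h => hne (relIndex_eq_one.1 (hk.trans h))
  have hW : ∀ u ∈ E, s * u * s⁻¹ ∈ E → ∀ g ∈ normalizerIn S E, g * u = u * g := fun u hu hu' g hg => by
    obtain ⟨e, he1, he2⟩ := SetLike.not_le_iff_exists.1 hne
    have := Grp.eq_top_of_index_prime hp.out (i1 _ hE'N hE'c)
      (H := (centralizer {u}).subgroupOf (normalizerIn S E)) (fun x hx =>
        mem_centralizer_singleton_iff.2 (by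
          simpa [mul_assoc] using congrArg (fun g => s⁻¹ * g * s) (hcm' _ hx _ hu'))) (x := ⟨e, hEN he1⟩) he2
      (mem_centralizer_singleton_iff.2 (hcm' e he1 u hu))
    exact mem_centralizer_singleton_iff.1 (this.ge (mem_top (⟨g, hg⟩ : normalizerIn S E)))
  refine ⟨hN, s, hs, hs', i2, hW, ?_⟩
  obtain ⟨⟨t, ht⟩, ht1⟩ := ne_bot_iff_exists_ne_one.1
    (show autInducedBy S E ≠ ⊥ from fun h => hp.out.one_lt.ne (by simpa [h] using hcard))
  replace ht1 : t ≠ 1 := fun h => ht1 (Subtype.ext h)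
  have hT := eq_zpowers_of_card hcard ht ht1
  obtain ⟨k, hk⟩ := exists_pow_of_mem (isPGroup_autInducedBy hS E) ht
  have hfix : ∀ u ∈ E'.subgroupOf E, t u = u := fun u hu => by
    obtain ⟨g, hg, rfl⟩ := exists_conjAut_eq ht
    exact Subtype.ext (by simp [hW u u.2 hu g hg])
  obtain ⟨z, hz⟩ := tv_of_fix hG hcm he hk i2 hfix
  obtain ⟨D, w, h1, h2, h3, h4, h5, h6, h7, h8, -⟩ := hz.structure_thm hG hcm (hA ht)
    (hT ▸ ha.2) (by
      by_contra h
      push Not at h
      obtain ⟨y, hy⟩ := (ess_of_essential hS hF hE).toRad.le_inn (zpowers t)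
        (hT ▸ isPGroup_autInducedBy hS E) (zpowers_le.2 (hA ht)) (by
          rintro α hα _ ⟨i, rfl⟩
          simp only
          rw [← conj_zpow]; exact zpow_mem (h α hα) i) (mem_zpowers t)
      exact ht1 (hy ▸ MulEquiv.ext fun x => by simp [hcm y x]))
  refine ⟨t, z, D, hT, ht1, hz, h3, ?_, h5, h8⟩
  have hn : ∀ U : Subgroup E, U.Normal := fun U => ⟨fun a ha g => by rwa [hcm g, mul_inv_cancel_right]⟩
  have e1 : fix₁ t = D ⊔ zpowers z := le_antisymm (fun g hg => by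
      obtain ⟨d, hd, v, hv, rfl⟩ := h8 g hg
      exact mul_mem_sup hd hv) (sup_le h5 (zpowers_le.2 hz.fix))
  have e2 : fix₁ t = E'.subgroupOf E := le_antisymm (fun g hg => by_contra fun h => ht1
    (eq_one_of_fix₁ (Grp.eq_top_of_index_prime hp.out i2 hfix h hg))) hfix
  have c1 := Grp.PChain.card_sup_zpowers hp.out h6 (by simp [he])
  rw [← e1, e2, (card_of_index hc).1 i2, sq] at c1
  exact (Nat.eq_of_mul_eq_mul_right hp.out.pos c1).symm

theorem mem_cen {N : Subgroup Ω} (hN : N ≤ S) {g : S} :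
    g ∈ centralizer (N.subgroupOf S : Set S) ↔ ∀ x ∈ N, x * g = g * x :=
  ⟨fun h x hx => congrArg Subtype.val (h ⟨x, hN hx⟩ hx), fun h x hx => Subtype.ext (h x hx)⟩

theorem incl_ext {P : Subgroup Ω} (hP : P ≤ S) {γ : MulAut S} {β : MulAut P}
    (h : ∀ x ∈ P, afn γ x = afn β x) (x : P) : γ (inclusion hP x) = inclusion hP (β x) :=
  Subtype.ext (by rw [← afn_coe, coe_inclusion, h x x.2, afn_coe, coe_inclusion])

theorem relIndex_center {G : Type*} [Group G] [Finite G] (hc : Nat.card G = p ^ 4)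
    (h1 : Nat.card (frattini G) = p) (h2 : (center G).index = p ^ 2) :
    frattini G ≤ center G ∧ Nat.card (center G) = p ^ 2 ∧ (frattini G).relIndex (center G) = p := by
  have l := Grp.PChain.le_center_of_card_eq_prime (IsPGroup.of_card hc) _ h1
  have c := (center G).card_mul_index
  rw [h2, hc, show p ^ 4 = p ^ 2 * p ^ 2 by ring] at c
  replace c := Nat.eq_of_mul_eq_mul_right (pow_pos hp.out.pos 2) c
  exact ⟨l, c, Nat.eq_of_mul_eq_mul_left hp.out.pos (by
    rw [← sq, ← c, ← Grp.card_mul_relIndex l, h1])⟩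

variable (hF : F.IsSaturated p) (hcard : Nat.card S = p ^ 5) (hp2 : p ≠ 2)
  (hNA : ∀ A : Subgroup S, A.index = p → ¬ ∀ a ∈ A, ∀ b ∈ A, a * b = b * a)
include hF hcard hp2 hNA

omit hF hp2 hNA in
theorem relIndex_of_card {N : Subgroup Ω} (hN : N ≤ S) (h : Nat.card N = p ^ 4) :
    N.relIndex S = p := Nat.eq_of_mul_eq_mul_left (pow_pos hp.out.pos 4)
  (by rw [← h, Grp.card_mul_relIndex hN, hcard, h, ← pow_succ])

omit hF hp2 hNA in
theorem normalizerIn_eq_of_card {N : Subgroup Ω} (hN : N ≤ S) (h : Nat.card N = p ^ 4) :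
    S ≤ normalizerIn S N := fun g hg => by
  have hn : (N.subgroupOf S).Normal := normal_subgroupOf_of_relIndex_dvd (IsPGroup.of_card hcard)
    (relIndex_of_card hcard hN h).dvd
  have := finite_of_le hN
  exact mem_normalizerIn_of_conj hg fun y hy => hn.conj_mem ⟨y, hN hy⟩ hy ⟨g, hg⟩

theorem types (hE : F.IsEssential p E) : (Nat.card E = p ^ 2 ∧ frattini E = ⊥) ∨
    (Nat.card E = p ^ 3 ∧ frattini E = ⊥) ∨ (Nat.card E = p ^ 3 ∧ Nat.card (frattini E) = p) ∨
    (Nat.card E = p ^ 4 ∧ Nat.card (frattini E) = p ∧ (center E).index = p ^ 2) := by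
  have hS : IsPGroup p S := IsPGroup.of_card hcard
  have hES := hE.1.1
  have : Finite E := finite_of_le hES
  have hlt := card_lt_of_lt_of_le (essential_lt hS hF hE) le_rfl
  obtain ⟨k, hk⟩ := (isPGroup_of_le hS hES).exists_card_eq
  have he := ess_of_essential hS hF hE
  obtain ⟨i, h1, h2, h3⟩ := he.card_frattini hk
  rw [hk, hcard, Nat.pow_lt_pow_iff_right hp.out.one_lt] at hlt
  rcases (show k = 4 ∨ (k = 2 ∧ i = 0) ∨ (k = 3 ∧ i = 0) ∨ (k = 3 ∧ i = 1) by omega) with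
    rfl | ⟨rfl, rfl⟩ | ⟨rfl, rfl⟩ | ⟨rfl, rfl⟩
  · refine Or.inr (Or.inr (Or.inr ⟨hk, he.fourth_nonab hk ((comm_or E).resolve_left fun hc => ?_)⟩))
    exact hNA _ (relIndex_of_card hcard hES hk) fun a ha b hb =>
      Subtype.ext (congrArg Subtype.val (hc ⟨a, ha⟩ ⟨b, hb⟩) :)
  · exact Or.inl ⟨hk, card_eq_one.1 (by simpa using h2)⟩
  · exact Or.inr (Or.inl ⟨hk, card_eq_one.1 (by simpa using h2)⟩)
  · exact Or.inr (Or.inr (Or.inl ⟨hk, by simpa using h2⟩))

theorem exists_Z (hE : F.IsEssential p E) : ∃ Z : Subgroup E, AC.Inv (F.autGroup E) Z ∧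
    frattini E ≤ Z ∧ (frattini E).relIndex Z ∣ p ∧ Z.index = p ^ 2 := by
  have hS : IsPGroup p S := IsPGroup.of_card hcard
  have : Finite E := finite_of_le hE.1.1
  have key : ∀ Z : Subgroup E, Nat.card E = p ^ 3 → Nat.card Z = p → Z.index = p ^ 2 :=
    fun Z h1 h2 => Nat.eq_of_mul_eq_mul_left hp.out.pos (by
      rw [← pow_succ', ← h1, ← Z.card_mul_index, h2])
  rcases types hF hcard hp2 hNA hE with ⟨h1, h2⟩ | ⟨h1, h2⟩ | ⟨h1, h2⟩ | ⟨h1, h2, h3⟩
  · exact ⟨_, inv_of_char _ _, le_rfl, by simp, by rw [h2, index_bot, h1]⟩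
  · obtain ⟨-, -, -, -, -, -, -, -, D, -, -, -, d1, d2, -⟩ := a3_setup hS hF hE h1 h2 hcard.ge
    exact ⟨D, d1, h2 ▸ bot_le, by rw [h2, relIndex_bot_left, d2], key D h1 d2⟩
  · exact ⟨_, inv_of_char _ _, le_rfl, by simp, key _ h1 h2⟩
  · obtain ⟨c1, -, c2⟩ := relIndex_center h1 h2 h3
    exact ⟨_, inv_of_char _ _, c1, c2.dvd, h3⟩

theorem fx (hfoc : S ≤ F.focalSubgroup) {x₀ : S}
    (hx₀ : ∀ γ ∈ F.autGroup S, x₀⁻¹ * γ x₀ ∈ commutator S) : x₀ ∈ commutator S := by
  have hS : IsPGroup p S := IsPGroup.of_card hcard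
  have : Finite (MulAut S) := finite_mulAut le_rfl
  refine mem_commutator_of_fix hS (autInducedBy_self S ▸ (sat_fullyAutomized_top hS hF).2)
    (inn_le_autGroup F le_rfl) (frattini_nongenerating ?_) hx₀
  set M := comm (F.autGroup S) ⊤ ⊔ frattini S with hM
  have key : ∀ P, P ≤ S → ∀ f, IsMap F P f → ∀ x ∈ P, x⁻¹ * f x ∈ M.map S.subtype := by
    refine down_induction fun P hP ih f hf => ?_
    refine alperin_induction hS hF (M := fun f => ∀ x ∈ P, x⁻¹ * f x ∈ M.map S.subtype)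
      (fun f h x hx => by simp [h x hx, one_mem]) (fun f g h R hf m hR hg hi hm e x hx => ?_) hf
    suffices (f x)⁻¹ * g (f x) ∈ M.map S.subtype by
      simpa [e x hx, mul_assoc] using mul_mem (m x hx) this
    obtain ⟨α, hα, e'⟩ := hg.exists_aut hi
    rw [← e' _ (hm x hx), afn_apply _ (hm x hx)]
    rcases hR with rfl | hR
    · exact ⟨_, mem_sup_left (mem_comm hα (mem_top ⟨f x, hm x hx⟩)), rfl⟩
    have hRS := hR.1.1
    have : Finite R := finite_of_le hRS
    have : Finite (MulAut R) := finite_mulAut hRS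
    have hG := isPGroup_of_le hS hRS
    obtain ⟨Z, z1, z2, z3, z4⟩ := exists_Z hF hcard hp2 hNA hR
    refine (ess_of_essential hS hF hR).foc hG hp2 z1 z2 z3 z4 (sat_fullyAutomized hS hF hR.2.1).2
      (autInducedBy_le_autGroup F hRS) (M := (M.map S.subtype).subgroupOf R)
      ((Grp.PFrattini.frattini_le_iff hG).2 ⟨commutator_le.2 fun a _ b _ => ?_, fun g => ?_⟩)
      (fun β hβ hn g => ?_) α hα ⟨f x, hm x hx⟩
    · exact ⟨⁅inclusion hRS a, inclusion hRS b⁆, mem_sup_right (Grp.PFrattini.commutator_le_frattini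
        hS (commutator_mem_commutator trivial trivial)), rfl⟩
    · exact ⟨inclusion hRS g ^ p, mem_sup_right (Grp.PFrattini.pow_mem_frattini hS _), rfl⟩
    · obtain ⟨α', hα', e''⟩ := ext_norm hS hF hR.1 hβ hn
      have := ih _ (normalizerIn_le S R) ((hf.card_le_of_mem le_rfl hm).trans_lt
        (card_lt_of_lt_of_le (lt_normalizerIn hS (essential_lt hS hF hR)) (normalizerIn_le S R)))
        _ (isMap_afn (normalizerIn_le S R) hα') g (le_normalizerIn hRS g.2)
      rwa [e'' g g.2, afn_coe] at this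
  refine eq_top_iff.2 fun g _ => ?_
  obtain ⟨m, hm, e⟩ := focal_le_iff.2 (fun P f hf => key P hf.le f hf) (hfoc g.2)
  exact Subtype.ext e ▸ hm

theorem not_a3 (hfoc : S ≤ F.focalSubgroup) (hE : F.IsEssential p E) (hc : Nat.card E = p ^ 3)
    (hΦ : frattini E = ⊥) : False := by
  have hS : IsPGroup p S := IsPGroup.of_card hcard
  obtain ⟨hN, s, hs, hs', i2, hW, t, z, D, hT, t1, hz, d1, d2, d3, d4⟩ :=
    a3_setup hS hF hE hc hΦ hcard.ge
  have hES := hE.1.1
  have hNS := normalizerIn_le S E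
  have hEN := le_normalizerIn hES
  have : Finite E := finite_of_le hES
  have : Finite (MulAut E) := finite_mulAut hES
  have hiN := relIndex_of_card hcard hNS hN
  set N := normalizerIn S E with hNdef
  have : Finite N := finite_of_le hNS
  have : Finite (MulAut N) := finite_mulAut hNS
  suffices ∃ w : S, w ∈ N.subgroupOf S ∧ ⁅(⟨s, hs.1⟩ : S), w⁆ ∉ centralizer (N.subgroupOf S : Set S) ∧
      ∀ b : ℤ, ¬ (p : ℤ) ∣ b → ∃ γ : MulAut S, (∀ g ∈ N.subgroupOf S, γ g ∈ N.subgroupOf S) ∧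
        (w ^ b)⁻¹ * γ w ∈ centralizer (N.subgroupOf S : Set S) ∧
        ∀ u ∈ N.subgroupOf S, u ∈ centralizer (N.subgroupOf S : Set S) →
          u⁻¹ * γ u ∈ ⁅N.subgroupOf S, N.subgroupOf S⁆ by
    obtain ⟨w, w1, w2, w3⟩ := this
    obtain ⟨-, d, h1, h2⟩ := a3_core' hcard hp2 hiN (by
      have l : E.comap (MulAut.conj s).toMonoidHom ⊓ E ≤ S := inf_le_right.trans hES
      have c := Grp.card_inf_mul_relIndex' (E.comap (MulAut.conj s).toMonoidHom) E
      rw [i2, hc, pow_succ, ← Nat.card_congr (subgroupOfEquivOfLe l).toEquiv] at c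
      rw [← Nat.eq_of_mul_eq_mul_right hp.out.pos c]
      exact card_le_of_le fun u hu => ⟨hEN hu.2, (mem_cen hNS).2 (hW u hu.2 hu.1)⟩)
      hNA (s := ⟨s, hs.1⟩) hs' w1 w2 w3
    exact h1 (fx hF hcard hp2 hNA hfoc fun γ _ => h2 γ)
  have hpres : ∀ {γ : MulAut S} {α : MulAut N}, (∀ x ∈ N, afn γ x = afn α x) →
      ∀ g ∈ N.subgroupOf S, γ g ∈ N.subgroupOf S := fun {γ α} e g hg => by
    rw [mem_subgroupOf, ← afn_coe, e g hg]; exact afn_mem α hg
  by_cases hNe : F.IsEssential p N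
  · obtain ⟨h2, h3⟩ : Nat.card (frattini N) = p ∧ (center N).index = p ^ 2 := by
      rcases types hF hcard hp2 hNA hNe with ⟨h1, -⟩ | ⟨h1, -⟩ | ⟨h1, -⟩ | ⟨-, h⟩
      iterate 3 exact absurd (Nat.pow_right_injective hp.out.two_le (hN.symm.trans h1)) (by norm_num)
      exact h
    obtain ⟨c1, -, c2⟩ := relIndex_center hN h2 h3
    have hG := isPGroup_of_le hS hNS
    obtain ⟨x, y, -, y1, -, -, y2⟩ := (ess_of_essential hS hF hNe).tor hG (inv_of_char _ _) c1 c2.dvd h3
      (sat_fullyAutomized hS hF hNe.2.1).2 (autInducedBy_le_autGroup F hNS)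
    have hcen : ∀ u : N, inclusion hNS u ∈ centralizer (N.subgroupOf S : Set S) ↔ u ∈ center N :=
      fun u => (mem_cen hNS).trans ⟨fun h => Subgroup.mem_center_iff.2 fun g => Subtype.ext (h g g.2),
        fun h g hg => congrArg Subtype.val (Subgroup.mem_center_iff.1 h ⟨g, hg⟩)⟩
    refine ⟨inclusion hNS y, y.2, fun h => hs' ((conjAut_mem_inn_iff hNS (isCentric_self hNe.1) hs).1
      (y1 _ (conjAut_mem_autInducedBy hs) ?_)), fun b hb => ?_⟩
    · have := (hcen (conjAut N s hs.2 y * y⁻¹)).1 h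
      simpa [mul_assoc] using (inferInstance : (center N).Normal).conj_mem _ this y⁻¹
    obtain ⟨a, ha⟩ := exists_inv_int hb
    obtain ⟨β, hβ, b1, -, b2, b3⟩ := y2 a b ha
    obtain ⟨α, hα, e⟩ := ext_norm hS hF hNe.1 hβ b1
    obtain ⟨γ, hγ, e'⟩ := ((isMap_afn (normalizerIn_le S N) hα).mono
      (normalizerIn_eq_of_card hcard hNS hN)).exists_aut' fun x hx =>
        (afn_mem α (normalizerIn_eq_of_card hcard hNS hN hx)).1
    have e'' : ∀ x ∈ N, afn γ x = afn β x := fun x hx => (e' x (hNS hx)).trans (e x hx)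
    refine ⟨γ, hpres e'', ?_, fun u hu hu' => ?_⟩
    · rw [incl_ext hNS e'', ← map_zpow, ← map_inv, ← map_mul, hcen]; exact b2
    have hΦ : frattini N ≤ commutator N := by
      obtain ⟨a, b, h⟩ := (comm_or N).resolve_left fun h => hp.out.one_lt.ne' (by
        rw [center_eq_top_iff.2 ⟨⟨h⟩⟩, index_top] at h3
        exact (Nat.pow_eq_one.1 h3.symm).resolve_right two_ne_zero)
      have m := commutator_mem_commutator (mem_top a) (mem_top b)
      rw [eq_zpowers_of_card h2 (Grp.PFrattini.commutator_le_frattini hG m) h]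
      exact zpowers_le.2 m
    have m := mem_map_of_mem (inclusion hNS) (hΦ (b3 ⟨u, hu⟩ ((hcen _).1 hu')))
    rwa [_root_.commutator_def, map_commutator, ← MonoidHom.range_eq_map, inclusion_range, map_mul, map_inv,
      ← incl_ext hNS e''] at m
  have hG := isPGroup_of_le hS hES
  have ha := sat_fullyAutomized hS hF hE.2.1
  obtain ⟨x, y, -, y1, -, -, y2⟩ := (ess_of_essential hS hF hE).tor hG d1 (hΦ ▸ bot_le)
    (by rw [hΦ, relIndex_bot_left, d2]) (Nat.eq_of_mul_eq_mul_left hp.out.pos (by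
      rw [← pow_succ', ← hc, ← D.card_mul_index, d2])) ha.2 (autInducedBy_le_autGroup F hES)
  have hcen : ∀ u : E, inclusion hES u ∈ centralizer (N.subgroupOf S : Set S) ↔ t u = u :=
    fun u => (mem_cen hNS).trans ⟨fun h => by
      obtain ⟨g, hg, e⟩ := exists_conjAut_eq (hT.ge (mem_zpowers t))
      exact e ▸ Subtype.ext (by simpa [mul_inv_eq_iff_eq_mul] using h g hg), fun h g hg => by
      have := congrArg Subtype.val (mem_fix.1 ((fix_zpowers t).ge h) _
        (hT.le (conjAut_mem_autInducedBy hg)))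
      simpa [mul_inv_eq_iff_eq_mul] using this⟩
  have hCE : ∀ u : S, u ∈ centralizer (N.subgroupOf S : Set S) → (u : Ω) ∈ E := fun u hu =>
    isCentric_self hE.1 ⟨u.2, fun x hx => (mem_cen hNS).1 hu x (hEN hx)⟩
  refine ⟨inclusion hES y, hEN y.2, fun h => (essential_cond hE ha).1 fun τ hτ => y1 τ hτ ?_,
    fun b hb => ?_⟩
  · obtain ⟨g, hg, rfl⟩ := exists_conjAut_eq hτ
    have := hW y y.2 (by simpa [commutatorElement_def] using mul_mem (hCE _ h) y.2) g hg
    rw [show conjAut E g hg.2 y = y from Subtype.ext (by simp [this])]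
    simp
  obtain ⟨a, ha⟩ := exists_inv_int hb
  obtain ⟨β, hβ, b1, -, b2, b3⟩ := y2 a b ha
  obtain ⟨α, hα, e⟩ := ext_norm hS hF hE.1 hβ b1
  obtain ⟨γ, hγ, e'⟩ := exists_ext_of_not_essential hS hF hNS hiN hNe hα
  have e'' : ∀ x ∈ E, afn γ x = afn β x := fun x hx => (e' x (hEN hx)).trans (e x hx)
  refine ⟨γ, hpres e', ?_, fun u hu hu' => ?_⟩
  · rw [incl_ext hES e'', ← map_zpow, ← map_inv, ← map_mul, hcen]; exact d3 b2
  have hzL : inclusion hES z ∈ ⁅N.subgroupOf S, N.subgroupOf S⁆ := by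
    obtain ⟨v, hv⟩ : ∃ v, v⁻¹ * t v ≠ 1 := by
      by_contra h
      push Not at h
      exact t1 (MulEquiv.ext fun v => (inv_mul_eq_one.1 (h v)).symm)
    obtain ⟨j, hj⟩ := exists_zpow_of_mem_zpowers hz.pow (hz.mem v) hv (mem_zpowers z)
    obtain ⟨g, hg, e⟩ := exists_conjAut_eq (hT.ge (mem_zpowers t))
    rw [← hj, map_zpow]
    refine zpow_mem ?_ j
    convert commutator_mem_commutator (H₁ := N.subgroupOf S) (H₂ := N.subgroupOf S)
      (g₁ := inclusion hES v⁻¹) (g₂ := ⟨g, hg.1⟩) (hEN v⁻¹.2) hg using 1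
    exact Subtype.ext (by simp [e, commutatorElement_def, mul_assoc])
  obtain ⟨d, hd, v, hv, e1⟩ := d4 ⟨u, hCE u hu'⟩ ((hcen _).1 hu')
  have e2 : u = inclusion hES d * inclusion hES v := by rw [← map_mul, ← e1]; rfl
  have hv' : inclusion hES v ∈ ⁅N.subgroupOf S, N.subgroupOf S⁆ := by
    obtain ⟨i, rfl⟩ := hv
    simpa using zpow_mem hzL i
  have hI : AC.Inv (zpowers γ) (N.subgroupOf S) := inv_zpowers (hpres e')
  have e3 := (inv_mul_eq_one.1 (mem_bot.1 (hΦ.le (b3 d hd)))).symm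
  rw [e2, map_mul, incl_ext hES e'', e3, mul_inv_rev, mul_assoc, inv_mul_cancel_left]
  exact mul_mem (inv_mem hv') (hI.commutator hI γ (mem_zpowers γ) _ hv')

open MC FGS.LcsLie

omit hF hcard hp2 hNA in
theorem inv_K {G : Type*} [Group G] (γ : MulAut G) {j : ℕ} {x : G} (hx : x ∈ K G j) :
    γ x ∈ K G j := fun g hg => by
  simpa using inv_of_char ⊤ _ γ trivial _ (hx _ (inv_of_char ⊤ _ γ⁻¹ trivial g hg))

theorem not_mc (hp7 : p ≠ 7) (hfoc : S ≤ F.focalSubgroup) (hE : F.IsEssential p E)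
    (hE' : Nat.card E = p ^ 2 ∨ (Nat.card E = p ^ 3 ∧ Nat.card (frattini E) = p)) : False := by
  have hS : IsPGroup p S := IsPGroup.of_card hcard
  have hp1 := hp.out.one_lt
  have hnc : ∀ {E : Subgroup Ω}, F.IsEssential p E → Nat.card E = p ^ 3 →
      Nat.card (frattini E) = p → ∃ a b : E, ⁅a, b⁆ ≠ 1 := fun {E} hE h1 h2 => by
    have : Finite E := finite_of_le hE.1.1
    refine (comm_or E).resolve_left fun hc => ?_
    rcases (ess_of_essential hS hF hE).cube h1 with ⟨-, h⟩ | ⟨-, -, h⟩ | ⟨h, -⟩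
    iterate 2
      rw [le_bot_iff.1 (Grp.PFrattini.frattini_le (p := p) (N := ⊥) (commutator_le.2 fun a _ b _ =>
        commutatorElement_eq_one_iff_mul_comm.2 (hc a b)) h), card_bot] at h2
      exact hp1.ne h2
    exact hp2 h
  have hM : IsMC p 5 S := isMC_of_pearl hF hE (hE'.imp id fun h => ⟨h.1, fun c => by
    obtain ⟨a, b, e⟩ := hnc hE h.1 h.2
    exact e (commutatorElement_eq_one_iff_mul_comm.2 (c.is_comm.comm a b))⟩) hcard
  have hi := hM.index_K (j := 1) le_rfl (by norm_num)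
  have hna := hNA _ hi
  have hKc := (card_of_index hcard).1 hi
  have h12 := hM.K_one_le (by norm_num)
  have h4 : gam S 4 = ⊥ := hM.gam_eq_bot_iff.2 le_rfl
  obtain ⟨x₀, hx₀, hx₀'⟩ : ∃ x ∈ K S 1, x ∉ gam S 1 := SetLike.not_le_iff_exists.1 fun h => by
    have := card_le_of_le h
    rw [hKc, hM.card_gam le_rfl, Nat.pow_le_pow_iff_right hp1] at this
    omega
  have eG : ∀ {s}, s ∉ K S 1 → ⊤ = K S 1 ⊔ zpowers s := fun hs => eq_sup_of_card le_top
    (by rw [card_top, hKc, hcard, ← pow_succ]) trivial hs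
  by_cases h3 : p = 3
  · obtain ⟨s, -, hs⟩ := SetLike.not_le_iff_exists.1 (mt top_le_iff.1 (hM.K_ne_top (j := 1) (by norm_num)))
    refine hx₀' (fx hF hcard hp2 hNA hfoc fun γ _ => ?_)
    obtain ⟨a, ha⟩ := exists_wt ((eG hs).le (mem_top (γ s)))
    obtain ⟨w1, w2, -⟩ := mc_wt hM hna hs hx₀ hx₀' γ ha
    have := wt_congr (hM.pow_mem_one x₀) w2 (b := 1) (by
      subst h3
      have : a % 3 = 1 ∨ a % 3 = 2 := by push_cast at w1; omega
      rcases this with h | h <;> simp [Int.dvd_iff_emod_eq_zero, Int.sub_emod, Int.mul_emod, h])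
    rwa [zpow_one] at this
  have hU : ∀ {s : S}, s ∉ K S 1 → Nat.card (centralizer {s}) ≤ p ^ 2 := fun hs =>
    hM.card_centralizer_le (hM.U_of_not_mem (fun j h1 h2 => by
      obtain rfl | rfl : j = 1 ∨ j = 2 := by omega
      exacts [le_rfl, h12]) hs)
  have big : ∀ R (hR : F.IsEssential p R), Nat.card R = p ^ 4 → (center R).index = p ^ 2 →
      ∀ r : R, inclusion hR.1.1 r ∈ K S 1 := fun R hR h1 h2 r => by
    have : Finite R := finite_of_le hR.1.1
    by_contra h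
    have c1 : Nat.card (centralizer {r}) ≤ p ^ 2 := le_trans (by
      rw [← card_map_of_injective (inclusion_injective hR.1.1)]
      refine card_le_of_le ?_
      rintro _ ⟨g, hg, rfl⟩
      rw [mem_centralizer_singleton_iff, ← map_mul, ← map_mul,
        mem_centralizer_singleton_iff.1 hg]) (hU h)
    have c2 := (center R).card_mul_index
    rw [h2, h1, show p ^ 4 = p ^ 2 * p ^ 2 by ring] at c2
    have c3 := eq_of_le_of_card_ge (center_le_centralizer {r})
      (c1.trans (Nat.eq_of_mul_eq_mul_right (by positivity) c2).ge)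
    have c4 : r ∈ center R := c3.ge (mem_centralizer_singleton_iff.2 rfl)
    rw [centralizer_eq_top_iff_subset.2 (Set.singleton_subset_iff.2 c4), card_top, h1,
      Nat.pow_le_pow_iff_right hp1] at c1
    omega
  have ext : ∀ (Q : Subgroup Ω) (s : S), (s : Ω) ∈ Q → s ∉ K S 1 → (∀ R (hR : F.IsEssential p R),
      Nat.card Q ≤ Nat.card R → ∀ r : R, inclusion hR.1.1 r ∈ K S 1) → ∀ f, IsMap F Q f →
      ∃ γ ∈ F.autGroup S, ∀ x ∈ Q, f x = afn γ x := fun Q s hs hs' H f hf => by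
    refine alperin_induction hS hF (M := fun f => ∃ γ ∈ F.autGroup S, ∀ x ∈ Q, f x = afn γ x)
      (fun f h => ⟨1, one_mem _, fun x hx => by rw [h x hx, afn_one]⟩)
      (fun f g h R hf ⟨γ, hγ, m⟩ hR hg hi hm e => ?_) hf
    rcases hR with hR | hR
    · rw [hR] at hg hi
      obtain ⟨α, hα, e'⟩ := hg.exists_aut hi
      exact ⟨α * γ, mul_mem hα hγ, fun x hx => by
        rw [e x hx, afn_mul _ _ (hf.le hx), e' _ (afn_mem _ (hf.le hx)), m x hx]⟩
    have : Finite R := finite_of_le hR.1.1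
    have := inv_K γ⁻¹ (H R hR (hf.card_le_of_mem le_rfl hm) ⟨f s, hm s hs⟩)
    rw [show inclusion hR.1.1 ⟨f s, hm s hs⟩ = γ s from Subtype.ext ((m s hs).trans (afn_coe γ s)),
      MulAut.inv_apply_self] at this
    exact (hs' this).elim
  -- the common part for pearls
  have pearl : ∀ E (hE : F.IsEssential p E), (frattini E).index = p ^ 2 →
      (∀ R (hR : F.IsEssential p R), Nat.card E < Nat.card R → ∀ r : R,
        inclusion hR.1.1 r ∈ K S 1) → Nat.card E ≤ p ^ 3 → (Nat.card E = p ^ 3 → Nat.card (center E) = p) →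
      ∃ x y : E, (∀ t ∈ autInducedBy S E, x⁻¹ * t x ∈ frattini E) ∧
      (∀ t ∈ autInducedBy S E, y⁻¹ * t y ∈ frattini E → t ∈ Inn E) ∧
      (∀ g, ∃ a b : ℤ, (x ^ a * y ^ b)⁻¹ * g ∈ frattini E) ∧
      (inclusion hE.1.1 x ∉ K S 1 ∨ inclusion hE.1.1 y ∉ K S 1) ∧
      ∀ a d : ℤ, (p : ℤ) ∣ a * d - 1 → ∃ β : MulAut E, (x ^ a)⁻¹ * β x ∈ frattini E ∧
        (y ^ d)⁻¹ * β y ∈ frattini E ∧ ∀ u : E, inclusion hE.1.1 u ∈ center S →
          (inclusion hE.1.1 x ∉ K S 1 → β u = u ^ (a ^ 5)) ∧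
          (inclusion hE.1.1 y ∉ K S 1 → β u = u ^ (d ^ 5)) := fun E hE h1 H h2 h2' => by
    have hES := hE.1.1
    have : Finite E := finite_of_le hES
    have : Finite (MulAut E) := finite_mulAut hES
    have hG := isPGroup_of_le hS hES
    obtain ⟨x, y, t1, t2, t3, -, t4⟩ := (ess_of_essential hS hF hE).tor hG (inv_of_char _ _) le_rfl
      (by simp) h1 (sat_fullyAutomized hS hF hE.2.1).2 (autInducedBy_le_autGroup F hES)
    have hΦ : frattini E ≤ (K S 1).comap (inclusion hES) :=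
      (Grp.PFrattini.frattini_le_iff hG).2 ⟨commutator_le.2 fun a _ b _ => gam_one_le_K 1 (by
        rw [map_commutatorElement]; exact commutator_mem_commutator trivial trivial), fun g =>
          gam_one_le_K 1 (by rw [map_pow]; exact hM.pow_mem_one _)⟩
    have hxy : inclusion hES x ∉ K S 1 ∨ inclusion hES y ∉ K S 1 := by
      by_contra h
      push Not at h
      have hEK : ∀ g : E, inclusion hES g ∈ K S 1 := fun g => by
        obtain ⟨a, b, e⟩ := t3 g
        exact mem_of_inv_mul_mem (U := (K S 1).comap (inclusion hES))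
          (mul_mem (zpow_mem h.1 a) (zpow_mem h.2 b)) (hΦ e)
      have c0 : ∀ g ∈ K S 1, ∀ u ∈ gam S 2, g * u = u * g := fun g hg u hu =>
        commutatorElement_eq_one_iff_mul_comm.1 (mem_bot.1 (h4.le (h12 hg u hu)))
      have c1 : gam S 2 ≤ (center E).map (inclusion hES) := fun u hu =>
        ⟨⟨u, isCentric_self hE.1 ⟨u.2, fun g hg => congrArg Subtype.val (c0 _ (hEK ⟨g, hg⟩) u hu)⟩⟩,
          Subgroup.mem_center_iff.2 fun g => Subtype.ext
            (congrArg Subtype.val (c0 _ (hEK g) u hu) :), rfl⟩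
      have c2 := card_le_of_le c1
      rw [card_map_of_injective (inclusion_injective hES), hM.card_gam (by norm_num)] at c2
      rcases h2.eq_or_lt with h | h
      · rw [h2' h] at c2
        exact absurd ((Nat.pow_le_pow_iff_right hp1).1 (c2.trans (pow_one p).ge)) (by norm_num)
      obtain ⟨k, hk⟩ := hG.exists_card_eq
      have c3 : (⊤ : Subgroup E).map (inclusion hES) = gam S 2 :=
        (eq_of_le_of_card_ge (c1.trans (map_mono le_top)) (by
          rw [card_map_of_injective (inclusion_injective hES), hM.card_gam (by norm_num), card_top,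
            hk, Nat.pow_le_pow_iff_right hp1]
          rw [hk, Nat.pow_lt_pow_iff_right hp1] at h; omega)).symm
      have c4 : K S 1 ≤ gam S 2 := fun g hg => c3.le ⟨⟨g, isCentric_self hE.1 ⟨g.2, fun u hu =>
        congrArg Subtype.val (c0 g hg _ (c3.le ⟨⟨u, hu⟩, trivial, rfl⟩)).symm⟩⟩, trivial, rfl⟩
      exact hx₀' (gam_anti (by norm_num) (c4 hx₀))
    refine ⟨x, y, t1, t2, t3, hxy, fun a d had => ?_⟩
    obtain ⟨β, hβ, b1, b2, b3, -⟩ := t4 a d had
    obtain ⟨α, hα, e⟩ := ext_norm hS hF hE.1 hβ b1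
    obtain ⟨s, hs⟩ : ∃ s : E, inclusion hES s ∉ K S 1 := hxy.elim (fun h => ⟨_, h⟩) fun h => ⟨_, h⟩
    obtain ⟨γ, hγ, e'⟩ := ext _ _ (le_normalizerIn hES s.2) hs (fun R hR h => H R hR
      ((card_lt_of_lt_of_le (lt_normalizerIn hS (essential_lt hS hF hE))
        (normalizerIn_le S E)).trans_le h)) _ (isMap_afn (normalizerIn_le S E) hα)
    have e'' := incl_ext hES fun x hx => (e' x (le_normalizerIn hES hx)).symm.trans (e x hx)
    have key : ∀ (s : E) (a : ℤ), (s ^ a)⁻¹ * β s ∈ frattini E → ∀ u : E, inclusion hES u ∈ center S →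
        inclusion hES s ∉ K S 1 → β u = u ^ (a ^ 5) := fun s a h u hu hs =>
      inclusion_injective hES (by
        rw [← e'', map_zpow]
        refine (mc_wt hM hna hs hx₀ hx₀' γ ?_).2.2 _ hu
        rw [e'', ← map_zpow, ← map_inv, ← map_mul]
        exact hΦ h)
    exact ⟨β, b2, b3, fun u hu => ⟨key x a b2 u hu, key y d b3 u hu⟩⟩
  obtain ⟨⟨z, hz⟩, z1⟩ := ne_bot_iff_exists_ne_one.1 (show center S ≠ ⊥ from fun h =>
    hp1.ne (by simpa [h] using hM.card_center))
  replace z1 : z ≠ 1 := fun h => z1 (Subtype.ext h)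
  have zp : z ^ p = 1 := mem_bot.1
    ((step_of_card hS (B := ⊥) (C := center S) bot_le (by simp [hM.card_center])).2 z hz)
  have zE : ∀ E, F.IsEssential p E → (z : Ω) ∈ E := fun E hE => isCentric_self hE.1
    ⟨z.2, fun g hg => congrArg Subtype.val (Subgroup.mem_center_iff.1 hz ⟨g, hE.1.1 hg⟩)⟩
  have noP3 : ∀ E, F.IsEssential p E → Nat.card E = p ^ 3 → False := fun E hE h1 => by
    have : Finite E := finite_of_le hE.1.1
    have hne : ∀ {k}, k ≠ 3 → Nat.card E ≠ p ^ k := fun hk h =>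
      hk (Nat.pow_right_injective hp.out.two_le (h.symm.trans h1))
    rcases types hF hcard hp2 hNA hE with ⟨h, -⟩ | ⟨-, h⟩ | ⟨-, h⟩ | ⟨h, -⟩
    · exact hne (by norm_num) h
    · exact not_a3 hF hcard hp2 hNA hfoc hE h1 h
    swap
    · exact hne (by norm_num) h
    have hna' := hnc hE h1 h
    have hZ := (index_center_of_cube h1 hna').2
    have hΦ := Grp.PChain.le_center_of_card_eq_prime (IsPGroup.of_card h1) _ h
    obtain ⟨x, y, -, -, t3, t4, t5⟩ := pearl E hE (Nat.eq_of_mul_eq_mul_left hp.out.pos (by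
      rw [← pow_succ', ← h1, ← (frattini E).card_mul_index, h])) (fun R hR hlt => by
        rw [h1] at hlt
        rcases types hF hcard hp2 hNA hR with ⟨h, -⟩ | ⟨h, -⟩ | ⟨h, -⟩ | ⟨h, -, h'⟩
        iterate 3 rw [h, Nat.pow_lt_pow_iff_right hp1] at hlt; omega
        exact big R hR h h') h1.le fun _ => hZ
    obtain ⟨β, b1, b2, b3⟩ := t5 (-1) (-1) (by simp)
    have hcc : ∀ a b : E, ⁅a, b⁆ ∈ center E := fun a b => hΦ (Grp.PFrattini.commutator_le_frattini
      (IsPGroup.of_card h1) (commutator_mem_commutator trivial trivial))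
    have hc' : ∀ u ∈ center E, ∀ g : E, ⁅g, u⁆ ∈ (⊥ : Subgroup E) := fun u hu g =>
      commutatorElement_eq_one_iff_mul_comm.2 (Subgroup.mem_center_iff.1 hu g)
    have w := comm_wt (U := ⊥) (X := ⊤) (Y := ⊤) (fun a _ b _ g => hc' _ (hcc a b) g) (mem_top x)
      (mem_top (β x)) (mem_top y) (mem_top (β y)) (fun g _ => comm_symm (hc' _ (hΦ b1) g))
      fun g _ => hc' _ (hΦ b2) g
    rw [← map_commutatorElement, mem_bot, inv_mul_eq_one, eq_comm] at w
    have hxy : ⁅x, y⁆ ≠ 1 := fun e => by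
      obtain ⟨a, b, hab⟩ := hna'
      have : ∀ g, g ∈ center E ⊔ zpowers x ⊔ zpowers y := fun g => by
        obtain ⟨i, j, e⟩ := t3 g
        exact mem_of_inv_mul_mem (mul_mem (mem_sup_left (mem_sup_right (zpow_mem (mem_zpowers x) i)))
          (mem_sup_right (zpow_mem (mem_zpowers y) j))) (mem_sup_left (mem_sup_left (hΦ e)))
      exact hab (comm_sup₂ (B := ⊥) (comm_sup₂ (fun g _ u hu => hc' u hu g)
        fun g hg => comm_symm (hc' g hg x)) (comm_sup (fun g hg => comm_symm (hc' g hg y)) e) a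
        (this a) b (this b))
    have w' := apply_zpow_of_mem w ((eq_zpowers_of_card hZ (hcc x y) hxy).le
      (show (⟨z, zE E hE⟩ : E) ∈ center E from Subgroup.mem_center_iff.2 fun g => Subtype.ext
        (congrArg Subtype.val (Subgroup.mem_center_iff.1 hz ⟨g, hE.1.1 g.2⟩) :)))
    have w'' := t4.elim (b3 ⟨z, zE E hE⟩ hz).1 (b3 ⟨z, zE E hE⟩ hz).2
    have := dvd_sub_of_wt (B := ⊥) (y := (⟨z, zE E hE⟩ : E)) (fun h => z1 (Subtype.ext
      (congrArg Subtype.val (mem_bot.1 h) :))) (mem_bot.2 (Subtype.ext (congrArg Subtype.val zp :)))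
      (mem_bot.2 (inv_mul_eq_one.2 w'.symm)) (mem_bot.2 (inv_mul_eq_one.2 w''.symm))
    exact hp2 ((Nat.prime_dvd_prime_iff_eq hp.out Nat.prime_two).1
      (by norm_num at this; exact_mod_cast this))
  have h1 := hE'.resolve_right fun h => noP3 E hE h.1
  have : Finite E := finite_of_le hE.1.1
  have hΦ : frattini E = ⊥ := by
    rcases types hF hcard hp2 hNA hE with ⟨-, h⟩ | ⟨h, -⟩ | ⟨h, -⟩ | ⟨h, -⟩
    · exact h
    all_goals exact absurd (Nat.pow_right_injective hp.out.two_le (h.symm.trans h1)) (by norm_num)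
  obtain ⟨x, y, t1, t2, t3, t4, t5⟩ := pearl E hE (by rw [hΦ, index_bot, h1]) (fun R hR hlt => by
    rcases types hF hcard hp2 hNA hR with ⟨h, -⟩ | ⟨h, -⟩ | ⟨h, -⟩ | ⟨h, -, h'⟩
    · rw [h, h1] at hlt; omega
    iterate 2 exact (noP3 R hR h).elim
    exact big R hR h h') (h1 ▸ Nat.pow_le_pow_right hp.out.pos (by norm_num))
    fun h => (noP3 E hE h).elim
  rw [hΦ] at t1 t2 t3 t5
  have he : ∀ g : E, g ^ p = 1 := fun g =>
    mem_bot.1 (hΦ.le (Grp.PFrattini.pow_mem_frattini (IsPGroup.of_card h1) g))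
  set u : E := ⟨z, zE E hE⟩ with hu
  have u1 : u ≠ 1 := fun h => z1 (Subtype.ext (congrArg Subtype.val h :))
  have hux : u ∈ zpowers x := by
    obtain ⟨i, j, e⟩ := t3 u
    rw [← inv_mul_eq_one.1 (mem_bot.1 e)]
    refine mul_mem (zpow_mem (mem_zpowers x) i) (zpow_mem_of_dvd (he y ▸ one_mem _) ?_)
    obtain ⟨t, ht, ht'⟩ := SetLike.not_le_iff_exists.1
      (essential_cond hE (sat_fullyAutomized hS hF hE.2.1)).1
    refine dvd_of_zpow_mem (B := fix₁ t) (y := y) (fun h => ht' (t2 t ht (by simp [mem_fix₁.1 h])))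
      (by simp [he]) ((mul_mem_cancel_left (zpow_mem
        (show x ∈ fix₁ t from (inv_mul_eq_one.1 (t1 t ht)).symm) i)).1 ?_)
    obtain ⟨g, hg, rfl⟩ := exists_conjAut_eq ht
    rw [inv_mul_eq_one.1 (mem_bot.1 e)]
    exact Subtype.ext (by simp [hu, show g * z = z * g from
      congrArg Subtype.val (Subgroup.mem_center_iff.1 hz ⟨g, hg.1⟩)])
  have hy := t4.resolve_left (not_not.2 (by
    obtain ⟨b, hb⟩ := exists_zpow_of_mem_zpowers (he x) hux u1 (mem_zpowers x)
    rw [← hb, map_zpow]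
    exact zpow_mem (gam_one_le_K 1 (gam_anti (by norm_num) (hM.center_eq.le hz))) b))
  obtain ⟨a, ha⟩ := exists_inv_int (p := p) (b := 2) fun h => hp2
    ((Nat.prime_dvd_prime_iff_eq hp.out Nat.prime_two).1 (by exact_mod_cast h))
  obtain ⟨β, b1, -, b3⟩ := t5 a 2 ha
  have w := dvd_sub_of_wt (B := ⊥) u1 (he u) (mem_bot.2 (inv_mul_eq_one.2 (apply_zpow_of_mem
    (inv_mul_eq_one.1 (mem_bot.1 b1)).symm hux).symm))
    (mem_bot.2 (inv_mul_eq_one.2 ((b3 u hz).2 hy).symm))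
  have w' : (p : ℤ) ∣ ((3 ^ 2 * 7 : ℕ) : ℤ) := by
    rw [show ((3 ^ 2 * 7 : ℕ) : ℤ) = a * 2 - 1 - (a - 2 ^ 5) * 2 by push_cast; ring]
    exact ha.sub (w.mul_right 2)
  rcases (Nat.Prime.dvd_mul hp.out).1 (Int.natCast_dvd_natCast.1 w') with h | h
  · exact h3 ((Nat.prime_dvd_prime_iff_eq hp.out Nat.prime_three).1 (hp.out.dvd_of_dvd_pow h))
  · exact hp7 ((Nat.prime_dvd_prime_iff_eq hp.out (by norm_num)).1 h)

theorem main (hp7 : p ≠ 7) (hfoc : S ≤ F.focalSubgroup) (hcore : F.core = ⊥) : False := by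
  have hS : IsPGroup p S := IsPGroup.of_card hcard
  refine center_ne_bot hS (fun h => hp.out.one_lt.ne' ?_) (le_bot_iff.1 (hcore ▸ le_core
    (isNormal_of_essential hS hF fun R hR => ?_)))
  · rw [h, card_bot] at hcard
    exact (Nat.pow_eq_one.1 hcard.symm).resolve_right (by norm_num)
  rcases hR with hR | hR
  · rw [hR]
    exact ⟨centralizerIn_le S S, fun g hg hi => hg.center_of_type hi (centralizerIn_le S S) le_rfl⟩
  have hRS := hR.1.1
  have : Finite R := finite_of_le hRS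
  rcases types hF hcard hp2 hNA hR with ⟨h1, -⟩ | ⟨h1, h2⟩ | h1 | ⟨h1, h2, h3⟩
  · exact (not_mc hF hcard hp2 hNA hp7 hfoc hR (Or.inl h1)).elim
  · exact (not_a3 hF hcard hp2 hNA hfoc hR h1 h2).elim
  · exact (not_mc hF hcard hp2 hNA hp7 hfoc hR (Or.inr h1)).elim
  have hQ := center_le_of_centric hR.1
  refine ⟨hQ, fun g hg hi x hx => ?_⟩
  obtain ⟨α, hα, e⟩ := hg.exists_aut hi
  obtain ⟨c1, c2, -⟩ := relIndex_center h1 h2 h3
  have l1 : frattini R ≤ (centralizerIn S S).subgroupOf R := fun u hu => ⟨hRS u.2, fun s hs => by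
    have hs' := normalizerIn_eq_of_card hcard hRS h1 hs
    obtain ⟨k, hk⟩ := exists_pow_conjAut hS hs'
    have := step_of_pElt (isPGroup_of_le hS hRS) hk (U := ⊥) (V := frattini R)
      (inv_bot ⊤ _ trivial) (inv_of_char ⊤ _ _ trivial) (by simp [h2]) hu
    simpa [mul_inv_eq_iff_eq_mul] using
      congrArg Subtype.val (inv_mul_eq_one.1 (mem_bot.1 this)).symm⟩
  have l2 : (centralizerIn S S).subgroupOf R ≤ center R := fun u hu =>
    Subgroup.mem_center_iff.2 fun g => Subtype.ext (comm_of_mem_center hu (hRS g.2))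
  rw [← e x (hQ hx), afn_apply _ (hQ hx)]
  by_cases h : (⟨x, hQ hx⟩ : R) ∈ frattini R
  · exact l1 (inv_of_char ⊤ _ α trivial _ h)
  · exact sup_le l1 (zpowers_le.2 hx) ((eq_sup_of_card c1 (by rw [c2, h2, sq]) (l2 hx) h).le
      (inv_of_char ⊤ _ α trivial _ (l2 hx)))

end Cfsg.Agent.Fus.P5
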