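import Mathlib

/-!
Calculus with a regular nilpotent operator `X` (one Jordan block): the flag `ker X ^ c`, degrees
of operators with respect to it, the centraliser of `X`.
-/

set_option autoImplicit false

namespace Cfsg.Agent.Fus.UT

open Finset Module

variable {k V : Type*} [Field k] [AddCommGroup V] [Module k V] {X : End k V}

/-- `f` lowers the flag `ker X ^ c` by `δ` steps. -/
def Deg (X : End k V) (δ : ℕ) (f : End k V) : Prop :=
  ∀ c v, (X ^ (c + δ)) v = 0 → (X ^ c) (f v) = 0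

theorem pow_apply_mono {a b : ℕ} (h : a ≤ b) {v : V} (hv : (X ^ a) v = 0) : (X ^ b) v = 0 := by
  obtain ⟨d, rfl⟩ := Nat.exists_eq_add_of_le' h
  rw [pow_add, End.mul_apply, hv, map_zero]

theorem pow_pow_apply (a b : ℕ) (v : V) : (X ^ a) ((X ^ b) v) = (X ^ (a + b)) v := by
  rw [pow_add, End.mul_apply]

namespace Deg

variable {δ ε : ℕ} {f g : End k V}

theorem zero : Deg X δ 0 := fun _ _ _ => map_zero _

theorem add (h : Deg X δ f) (h' : Deg X δ g) : Deg X δ (f + g) := fun c v hv => by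
  rw [LinearMap.add_apply, map_add, h c v hv, h' c v hv, add_zero]

theorem smul (h : Deg X δ f) (a : k) : Deg X δ (a • f) := fun c v hv => by
  rw [LinearMap.smul_apply, map_smul, h c v hv, smul_zero]

theorem sub (h : Deg X δ f) (h' : Deg X δ g) : Deg X δ (f - g) := fun c v hv => by
  rw [LinearMap.sub_apply, map_sub, h c v hv, h' c v hv, sub_zero]

theorem mul (h : Deg X δ f) (h' : Deg X ε g) : Deg X (δ + ε) (f * g) := fun c v hv =>
  h c _ (h' (c + δ) v (by rwa [add_assoc]))

theorem mono (h : Deg X δ f) (h' : ε ≤ δ) : Deg X ε f := fun c v hv =>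
  h c v (pow_apply_mono (by omega) hv)

theorem one : Deg X 0 1 := fun _ _ hv => hv

theorem xpow (j : ℕ) : Deg X j (X ^ j) := fun c v hv => by rwa [pow_pow_apply]

theorem x : Deg X 1 X := by simpa using xpow (X := X) 1

theorem pow (h : Deg X δ f) (m : ℕ) : Deg X (m * δ) (f ^ m) := by
  induction m with
  | zero => simpa using one
  | succ m ih => rw [pow_succ, add_mul, one_mul]; exact ih.mul h

theorem sum {ι : Type*} {s : Finset ι} {F : ι → End k V} (h : ∀ i ∈ s, Deg X δ (F i)) :
    Deg X δ (∑ i ∈ s, F i) :=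
  Finset.sum_induction F (Deg X δ) (fun _ _ => add) zero h

theorem congr (h : Deg X δ f) (e : f = g) : Deg X δ g := e ▸ h

theorem of_sub_one (h : Deg X δ (f - 1)) : Deg X 0 f :=
  ((h.mono δ.zero_le).add one).congr (sub_add_cancel _ _)

theorem of_commute (h : Commute f X) : Deg X 0 f := fun c v hv => by
  rw [← End.mul_apply, ← (h.pow_right c).eq, End.mul_apply, ← add_zero c, hv, map_zero]

theorem apply (h : Deg X δ f) {c d : ℕ} (hc : d ≤ c + δ) {v : V} (hv : (X ^ d) v = 0) :
    (X ^ c) (f v) = 0 := h c v (pow_apply_mono hc hv)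

/-- Powers of an operator with leading term `a X ^ j`. -/
theorem pow_lead {a : k} {j : ℕ} (h : Deg X (j + 1) (f - a • X ^ j)) (m : ℕ) :
    Deg X (m * j + 1) (f ^ m - a ^ m • X ^ (m * j)) := by
  have hf : Deg X j f := ((h.mono j.le_succ).add ((xpow j).smul a)).congr (sub_add_cancel _ _)
  induction m with
  | zero => simpa using zero
  | succ m ih =>
    refine (((ih.mul hf).mono (ε := (m + 1) * j + 1) (by rw [add_mul]; omega)).add
      ((((xpow (m * j)).mul h).mono (by rw [add_mul]; omega)).smul (a ^ m))).congr ?_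
    rw [add_mul, one_mul, pow_add X, pow_succ f, pow_succ a, mul_smul, sub_mul, mul_sub, smul_sub,
      smul_mul_assoc, mul_smul_comm]
    abel

theorem twist {τ : End k V} {a : k} (h : Deg X 2 (τ * X - a • (X * τ))) (j : ℕ) :
    Deg X (j + 1) (τ * X ^ j - a ^ j • (X ^ j * τ)) := by
  induction j with
  | zero => simpa using zero
  | succ j ih =>
    refine ((ih.mul x).add (((xpow j).mul h).smul (a ^ j))).congr ?_
    rw [pow_succ, pow_succ, mul_smul, sub_mul, mul_sub, smul_sub, smul_mul_assoc, mul_smul_comm]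
    simp only [mul_assoc]
    abel

theorem binom (i : ℕ) : Deg X 2 ((X + 1) ^ i - 1 - (i : k) • X) := by
  induction i with
  | zero => simpa using zero
  | succ i ih =>
    refine (((ih.mul x).mono (by omega)).add (ih.add ((x.mul x).smul (i : k)))).congr ?_
    rw [pow_succ, Nat.cast_succ, add_smul, one_smul, mul_add, mul_one, sub_mul, sub_mul, one_mul,
      smul_mul_assoc]
    abel

theorem binom' {M : End k V} (hc : Commute M X) (h : Deg X δ M) (h2 : 2 ≤ δ) (m : ℕ) :
    Deg X (m + δ + 1) ((X + M) ^ (m + 1) - X ^ (m + 1) - ((m + 1 : ℕ) : k) • (X ^ m * M)) := by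
  induction m with
  | zero => simpa using zero
  | succ m ih =>
    refine (((ih.mul x).mono (by omega)).add (((ih.mul h).mono (by omega)).add
      (((((xpow m).mul h).mul h).mono (by omega)).smul ((m + 1 : ℕ) : k)))).congr ?_
    rw [pow_succ _ (m + 1), pow_succ _ (m + 1), Nat.cast_succ (m + 1), add_smul, one_smul, mul_add]
    simp only [sub_mul, smul_mul_assoc, mul_assoc, hc.eq]
    rw [← mul_assoc (X ^ m) X M, ← pow_succ X m]
    abel

end Deg

/-- `X` is nilpotent with a single Jordan block of size `n`, generated by `v₀`. -/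
structure Reg (X : End k V) (n : ℕ) (v₀ : V) : Prop where
  nil : X ^ n = 0
  ne : (X ^ (n - 1)) v₀ ≠ 0
  one : ∀ v w, X v = 0 → X w = 0 → w ≠ 0 → ∃ c : k, v = c • w

namespace Reg

variable {n : ℕ} {v₀ : V} (h : Reg X n v₀) {δ : ℕ} {f g τ : End k V}
include h

theorem nil' {c : ℕ} (hc : n ≤ c) (v : V) : (X ^ c) v = 0 :=
  pow_apply_mono hc (by rw [h.nil, LinearMap.zero_apply])

theorem pos : 0 < n := Nat.pos_of_ne_zero fun e => h.ne (h.nil' (by omega) _)

theorem ne' {c : ℕ} (hc : c < n) : (X ^ c) v₀ ≠ 0 := fun e => h.ne (pow_apply_mono (by omega) e)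

theorem eq_zero (hf : Deg X δ f) (hn : n ≤ δ) : f = 0 :=
  LinearMap.ext fun v => hf 0 v (h.nil' (by omega) v)

theorem step {c : ℕ} {v w : V} (hv : (X ^ (c + 1)) v = 0) (hw : (X ^ (c + 1)) w = 0)
    (hw' : (X ^ c) w ≠ 0) : ∃ a : k, (X ^ c) (v - a • w) = 0 := by
  rw [pow_succ', End.mul_apply] at hv hw
  obtain ⟨a, e⟩ := h.one _ _ hv hw hw'
  exact ⟨a, by rw [map_sub, map_smul, e, sub_self]⟩

theorem mem_of_mem {U : Submodule k V} (hU : ∀ v ∈ U, X v ∈ U) {u : V} (hu : u ∈ U) {a : ℕ}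
    (ha : (X ^ (a + 1)) u = 0) (ha' : (X ^ a) u ≠ 0) (c : ℕ) (hc : c ≤ a + 1) (v : V)
    (hv : (X ^ c) v = 0) : v ∈ U := by
  have hp : ∀ i : ℕ, (X ^ i) u ∈ U := fun i => by
    induction i with
    | zero => exact hu
    | succ i ih => rw [pow_succ', End.mul_apply]; exact hU _ ih
  induction c generalizing v with
  | zero => rw [show v = 0 from hv]; exact U.zero_mem
  | succ c ih =>
    obtain ⟨b, hb⟩ := h.step (w := (X ^ (a - c)) u) hv
      (by rw [pow_pow_apply]; exact pow_apply_mono (by omega) ha)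
      (by rwa [pow_pow_apply, show c + (a - c) = a by omega])
    simpa using U.add_mem (ih (by omega) _ hb) (U.smul_mem b (hp (a - c)))

/-- Invariant subspaces are the members of the flag. -/
theorem inv_eq {U : Submodule k V} (hU : ∀ v ∈ U, X v ∈ U) :
    ∃ a ≤ n, ∀ v, v ∈ U ↔ (X ^ a) v = 0 := by
  classical
  have hex : ∃ a, ∀ v ∈ U, (X ^ a) v = 0 := ⟨n, fun v _ => h.nil' le_rfl v⟩
  refine ⟨Nat.find hex, Nat.find_min' hex fun v _ => h.nil' le_rfl v,
    fun v => ⟨Nat.find_spec hex v, fun hv => ?_⟩⟩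
  rcases e : Nat.find hex with _ | a
  · rw [e] at hv; rw [show v = 0 from hv]; exact U.zero_mem
  · have := Nat.find_min hex (m := a) (by omega)
    push Not at this
    obtain ⟨u, hu, hu'⟩ := this
    exact h.mem_of_mem hU hu (e ▸ Nat.find_spec hex u hu) hu' _ e.le v hv

theorem cyc (hc : Commute f X) (h0 : f v₀ = 0) : f = 0 :=
  LinearMap.ext fun v => h.mem_of_mem (U := LinearMap.ker f) (a := n - 1) (fun v hv => by
    rw [LinearMap.mem_ker] at hv ⊢
    rw [← End.mul_apply, hc.eq, End.mul_apply, hv, map_zero]) h0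
    (h.nil' (by omega) _) h.ne n (by omega) v (h.nil' le_rfl v)

theorem range {j c : ℕ} (hj : j + c = n) {v : V} (hv : (X ^ c) v = 0) : ∃ w, (X ^ j) w = v := by
  rcases c with _ | c
  · exact ⟨0, by rw [map_zero, show v = 0 from hv]⟩
  refine h.mem_of_mem (U := LinearMap.range (X ^ j)) (a := c) ?_ ⟨v₀, rfl⟩ ?_ ?_ _ le_rfl v hv
  · rintro _ ⟨w, rfl⟩
    exact ⟨X w, by rw [← End.mul_apply, ← End.mul_apply, ← pow_succ, ← pow_succ']⟩
  · rw [pow_pow_apply]; exact h.nil' (by omega) _
  · rw [pow_pow_apply]; exact h.ne' (by omega)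

theorem not_deg {j : ℕ} (hj : j < n) {c : k} (hd : Deg X (j + 1) (c • X ^ j)) : c = 0 := by
  have := hd (n - 1 - j) v₀ (h.nil' (by omega) _)
  rw [LinearMap.smul_apply, map_smul, pow_pow_apply, smul_eq_zero] at this
  exact this.resolve_right (h.ne' (by omega))

theorem deg_of_mul {c : ℕ} (hc : Commute f X) (h0 : X ^ c * f = 0) (hδ : c + δ ≤ n) : Deg X δ f := by
  intro m v hv
  by_cases hm : c ≤ m
  · exact pow_apply_mono hm (by rw [← End.mul_apply, h0, LinearMap.zero_apply])
  · obtain ⟨w, rfl⟩ := h.range (j := n - (m + δ)) (by omega) hv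
    rw [← End.mul_apply f, (hc.pow_right _).eq, End.mul_apply, pow_pow_apply]
    exact pow_apply_mono (a := c) (by omega) (by rw [← End.mul_apply, h0, LinearMap.zero_apply])

theorem lead {j : ℕ} (hc : Commute f X) (hf : Deg X j f) :
    ∃ c : k, Deg X (j + 1) (f - c • X ^ j) := by
  by_cases hj : n ≤ j
  · exact ⟨0, by simpa [h.eq_zero hf hj] using Deg.zero⟩
  obtain ⟨c, e⟩ := h.step (c := n - 1 - j) (v := f v₀) (w := (X ^ j) v₀)
    (hf _ _ (h.nil' (by omega) _)) (by rw [pow_pow_apply]; exact h.nil' (by omega) _)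
    (by rw [pow_pow_apply]; exact h.ne' (by omega))
  have hc' : Commute (f - c • X ^ j) X := hc.sub_left (((Commute.refl X).pow_left j).smul_left c)
  exact ⟨c, h.deg_of_mul hc' (h.cyc (((Commute.refl X).pow_left _).mul_left hc') e) (by omega)⟩

theorem induct (P : ℕ → End k V → Prop) (h0 : ∀ j, P j 0)
    (hs : ∀ j (c : k) f, Commute f X → Deg X (j + 1) f → P (j + 1) f → P j (c • X ^ j + f))
    {j : ℕ} (hc : Commute f X) (hf : Deg X j f) : P j f := by
  induction e : n - j generalizing j f with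
  | zero => rw [h.eq_zero hf (by omega)]; exact h0 j
  | succ d ih =>
    obtain ⟨c, hd⟩ := h.lead hc hf
    have hc' : Commute (f - c • X ^ j) X := hc.sub_left (((Commute.refl X).pow_left j).smul_left c)
    simpa using hs j c _ hc' hd (ih hc' hd (by omega))

theorem commute (hf : Commute f X) (hg : Commute g X) : Commute f g :=
  h.induct (fun _ f => Commute f g) (fun _ => Commute.zero_left g)
    (fun j c _ _ _ h' => ((hg.symm.pow_left j).smul_left c).add_left h') hf (Deg.of_commute hf)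

theorem exists_lead {j : ℕ} (hc : Commute f X) (hf : Deg X j f) (h0 : f ≠ 0) :
    ∃ δ, j ≤ δ ∧ δ < n ∧ ∃ c : k, c ≠ 0 ∧ Deg X (δ + 1) (f - c • X ^ δ) := by
  refine h.induct (fun j f => f ≠ 0 → ∃ δ, j ≤ δ ∧ δ < n ∧ ∃ c : k, c ≠ 0 ∧
    Deg X (δ + 1) (f - c • X ^ δ)) (fun _ h => (h rfl).elim) (fun j c f _ hd ih h0 => ?_) hc hf h0
  by_cases hc0 : c = 0
  · rw [hc0, zero_smul, zero_add] at h0 ⊢
    obtain ⟨δ, h1, h2⟩ := ih h0
    exact ⟨δ, by omega, h2⟩
  · refine ⟨j, le_rfl, not_le.1 fun hj => h0 ?_, c, hc0, by simpa using hd⟩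
    exact h.eq_zero (((Deg.xpow j).smul c).add (hd.mono j.le_succ)) hj

theorem ker_iff {j : ℕ} {c : k} (hc : Commute f X) (h0 : c ≠ 0) (hd : Deg X (j + 1) (f - c • X ^ j))
    (v : V) : f v = 0 ↔ (X ^ j) v = 0 := by
  refine ⟨fun hv => ?_, fun hv => ?_⟩
  · obtain ⟨a, ha, e⟩ := h.inv_eq (U := LinearMap.ker f) fun v hv => by
      rw [LinearMap.mem_ker] at hv ⊢
      rw [← End.mul_apply, hc.eq, End.mul_apply, hv, map_zero]
    refine pow_apply_mono (not_lt.1 fun hj => ?_) ((e v).1 hv)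
    have h1 : f ((X ^ (n - 1 - j)) v₀) = 0 :=
      (e _).2 (by rw [pow_pow_apply]; exact h.nil' (by omega) _)
    have h2 := hd 0 ((X ^ (n - 1 - j)) v₀) (by rw [pow_pow_apply]; exact h.nil' (by omega) _)
    rw [pow_zero, End.one_apply, LinearMap.sub_apply, h1, zero_sub, neg_eq_zero,
      LinearMap.smul_apply, pow_pow_apply, smul_eq_zero] at h2
    exact h.ne' (by omega) (h2.resolve_left h0)
  · have := hd.apply (c := 0) (by omega) hv
    rwa [pow_zero, End.one_apply, LinearMap.sub_apply, LinearMap.smul_apply, hv, smul_zero,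
      sub_zero] at this

/-- The scalar induced on the top factor. -/
theorem exists_top (hτ : Deg X 0 τ) : ∃ μ : k, X ^ (n - 1) * τ = μ • X ^ (n - 1) := by
  have hn := h.pos
  obtain ⟨μ, e⟩ := h.step (c := n - 1) (v := τ v₀) (h.nil' (by omega) _) (h.nil' (by omega) _) h.ne
  refine ⟨μ, LinearMap.ext fun v => ?_⟩
  obtain ⟨a, e'⟩ := h.step (c := n - 1) (v := v) (h.nil' (by omega) _) (h.nil' (by omega) _) h.ne
  have e2 := hτ (n - 1) _ e'
  simp only [map_sub, map_smul, sub_eq_zero] at e e' e2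
  rw [End.mul_apply, e2, e, LinearMap.smul_apply, e', smul_comm]

theorem scal {a μ : k} (ht : Deg X 2 (τ * X - a • (X * τ))) (hμ : X ^ (n - 1) * τ = μ • X ^ (n - 1))
    {c j : ℕ} (hj : c + j + 1 = n) {v : V} (hv : (X ^ (c + 1)) v = 0) :
    (X ^ c) (τ v) = (a ^ j * μ) • (X ^ c) v := by
  obtain ⟨w, rfl⟩ := h.range (j := j) (by omega) hv
  have h1 := ht.twist j c w (h.nil' (by omega) _)
  have h2 := LinearMap.congr_fun hμ w
  rw [LinearMap.sub_apply, map_sub, sub_eq_zero, LinearMap.smul_apply, map_smul] at h1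
  simp only [End.mul_apply, pow_pow_apply, LinearMap.smul_apply] at h1 h2 ⊢
  rw [h1, show c + j = n - 1 by omega, h2, mul_smul]

theorem deg_sub {μ : k} (ht : Deg X 2 (τ * X - (1 : k) • (X * τ)))
    (hμ : X ^ (n - 1) * τ = μ • X ^ (n - 1)) : Deg X 1 (τ - μ • 1) := fun c v hv => by
  by_cases hc : n ≤ c
  · exact h.nil' hc _
  rw [LinearMap.sub_apply, map_sub, h.scal ht hμ (j := n - 1 - c) (by omega) hv]
  simp

/-- The basis `X ^ j v₀`. -/
theorem exists_basis : ∃ b : Basis (Fin n) k V, ∀ j, b j = (X ^ (j : ℕ)) v₀ := by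
  refine ⟨Basis.mk (v := fun j : Fin n => (X ^ (j : ℕ)) v₀) ?_ fun v _ => ?_,
    fun j => Basis.mk_apply _ _ j⟩
  · rw [Fintype.linearIndependent_iff]
    intro c hc j
    induction e : (j : ℕ) using Nat.strong_induction_on generalizing j with
    | _ m ih =>
      have := congrArg (X ^ (n - 1 - m)) hc
      rw [map_sum, map_zero, Finset.sum_eq_single j, map_smul, pow_pow_apply, smul_eq_zero] at this
      · exact this.resolve_right (h.ne' (by omega))
      · intro i _ hi
        rcases lt_or_gt_of_ne (Fin.val_ne_of_ne hi) with h' | h'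
        · rw [ih i (by omega) i rfl, zero_smul, map_zero]
        · rw [map_smul, pow_pow_apply, h.nil' (by omega), smul_zero]
      · simp
  · have hn := h.pos
    refine h.mem_of_mem (a := n - 1) (u := v₀) (fun v hv => ?_)
      (Submodule.subset_span (Set.mem_range.2 ⟨⟨0, hn⟩, rfl⟩)) (h.nil' (by omega) _) h.ne n (by omega) v
      (h.nil' le_rfl v)
    refine Submodule.mem_comap.1 ((Submodule.span_le (p := Submodule.comap X _)).2 ?_ hv)
    rintro _ ⟨j, rfl⟩
    rw [SetLike.mem_coe, Submodule.mem_comap, ← End.mul_apply, ← pow_succ']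
    by_cases hj : (j : ℕ) + 1 < n
    · exact Submodule.subset_span ⟨⟨_, hj⟩, rfl⟩
    · rw [h.nil' (by omega)]; exact Submodule.zero_mem _

theorem finite : Module.Finite k V := by
  obtain ⟨b, -⟩ := h.exists_basis
  exact Module.Finite.of_basis b

theorem finrank_eq : finrank k V = n := by
  obtain ⟨b, -⟩ := h.exists_basis
  simpa using finrank_eq_card_basis b

theorem det_eq {a μ : k} (ht : Deg X 2 (τ * X - a • (X * τ)))
    (hμ : X ^ (n - 1) * τ = μ • X ^ (n - 1)) (h0 : Deg X 0 τ) :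
    LinearMap.det τ = ∏ j : Fin n, (a ^ (j : ℕ) * μ) := by
  obtain ⟨b, hb⟩ := h.exists_basis
  have co : ∀ (i : Fin n) (j c : ℕ), j + c = n → i < j → ∀ v, (X ^ c) v = 0 → b.repr v i = 0 := by
    intro i j c e hi v hv
    obtain ⟨w, rfl⟩ := h.range e hv
    have : (b.coord i).comp (X ^ j) = 0 := b.ext fun l => by
      rw [LinearMap.comp_apply, hb, pow_pow_apply, LinearMap.zero_apply]
      by_cases hl : j + l < n
      · rw [← hb ⟨_, hl⟩, Basis.coord_apply, b.repr_self, Finsupp.single_eq_of_ne]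
        intro e; rw [e] at hi; simp at hi
      · rw [h.nil' (by omega), map_zero]
    exact LinearMap.congr_fun this w
  have hz : ∀ j : Fin n, (X ^ (n - j)) (b j) = 0 := fun j => by
    rw [hb, pow_pow_apply]; exact h.nil' (by omega) _
  rw [← LinearMap.det_toMatrix b, Matrix.det_of_isLowerTriangular]
  · refine Finset.prod_congr rfl fun j _ => ?_
    have hj := j.2
    have := co j (j + 1) (n - 1 - j) (by omega) (by omega) (τ (b j) - (a ^ (j : ℕ) * μ) • b j) (by
      rw [map_sub, map_smul, h.scal ht hμ (j := j) (by omega)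
        (pow_apply_mono (by omega) (hz j)), sub_self])
    rw [map_sub, map_smul, b.repr_self] at this
    rw [LinearMap.toMatrix_apply]
    simpa [sub_eq_zero] using this
  · intro i j hij
    rw [LinearMap.toMatrix_apply]
    exact co i j (n - j) (by omega) hij _ (h0 _ _ (hz j))

/-- If `U` conjugates `X` to `X + M` and commutes with `N`, then `deg M + deg N > n`. -/
theorem quad {U M N : End k V} {ε : ℕ} {c d : k} (hU : U * X = (X + M) * U) (hU1 : Deg X 1 (U - 1))
    (hM : Commute M X) (hc : c ≠ 0) (hδ : Deg X (δ + 1) (M - c • X ^ δ)) (h2 : 2 ≤ δ)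
    (hN : Commute N X) (hd : d ≠ 0) (hε : Deg X (ε + 1 + 1) (N - d • X ^ (ε + 1)))
    (hUN : Commute U N) (hchar : ((ε + 1 : ℕ) : k) ≠ 0) : n ≤ ε + δ := by
  have hMd : Deg X δ M := ((hδ.mono δ.le_succ).add ((Deg.xpow δ).smul c)).congr (sub_add_cancel _ _)
  have hp : ∀ m : ℕ, U * X ^ m = (X + M) ^ m * U := fun m => (SemiconjBy.pow_right hU m)
  have hU0 := hU1.of_sub_one
  have hb : ∀ m : ℕ, Deg X (m + δ) (U * X ^ (m + 1) - X ^ (m + 1) * U) := fun m => by
    refine ((((Deg.binom' hM hMd h2 m).mono (by omega)).add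
      (((Deg.xpow m).mul hMd).smul ((m + 1 : ℕ) : k))).mul hU0).congr ?_
    rw [hp, sub_add_cancel, sub_mul]
  have hA : ∀ {j : ℕ} {f : End k V}, Commute f X → Deg X j f →
      Deg X (j + δ - 1) (U * f - f * U) := by
    intro j f hc hf
    refine h.induct (fun j f => Deg X (j + δ - 1) (U * f - f * U)) (fun _ => by simpa using Deg.zero)
      (fun j c f _ _ ih => ?_) hc hf
    rcases j with _ | j
    · exact (ih.mono (by omega)).congr (by simp [mul_add, add_mul])
    · refine ((((hb j).mono (by omega)).smul c).add (ih.mono (by omega))).congr ?_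
      rw [mul_add, add_mul, mul_smul_comm, smul_mul_assoc, smul_sub]; abel
  have h1 := hA (hN.sub_left (((Commute.refl X).pow_left _).smul_left d)) hε
  have h3 := (Deg.binom' hM hMd h2 ε).mul hU0
  have h4 := ((Deg.xpow ε).mul hδ).mul hU0
  have h5 := (Deg.xpow (ε + δ)).mul hU1
  by_contra hn
  refine mul_ne_zero hd (mul_ne_zero hchar hc) (h.not_deg (j := ε + δ) (by omega) ?_)
  refine ((((Deg.zero.sub (h1.mono (by omega))).sub ((h3.mono (by omega)).smul d)).sub
    ((h4.mono (by omega)).smul (d * ((ε + 1 : ℕ) : k)))).sub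
    (h5.smul (d * (((ε + 1 : ℕ) : k) * c)))).congr ?_
  simp only [mul_sub, sub_mul, smul_sub, mul_smul_comm, smul_mul_assoc, hp, hUN.eq, mul_smul,
    ← pow_add, mul_one]
  abel

end Reg

end Cfsg.Agent.Fus.UT
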