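import Mathlib
import Cfsg.Agent.Grp.PFrattini

/-!
Relative traces: a vector fixed by a subgroup `H` is fixed by the whole group as soon as the
partial norms attached to the other cosets vanish.  Polynomial functions of bounded degree on a
filtered module, on which long products of operators `u - 1` vanish.
-/

set_option autoImplicit false

namespace Cfsg.Agent.Fus.UT

open Finset

section Trace

variable {G M k X : Type*} [Group G] [CommRing k] [AddCommGroup M] [Module k M] [MulAction G X]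
  [Finite X] {π : Representation k G M} {F : X → M}

/-- The orbit of `x` under the subgroup `A`. -/
def orb (A : Subgroup G) (x : X) : Set X := {y | ∃ a ∈ A, a • x = y}

/-- The sum of `F` over an orbit. -/
noncomputable def osum (F : X → M) (A : Subgroup G) (x : X) : M := ∑ᶠ y ∈ orb A x, F y

omit [Finite X] in
theorem osum_mem {B : Submodule k M} (hB : ∀ y, F y ∈ B) (A : Subgroup G) (x : X) :
    osum F A x ∈ B :=
  finsum_mem_induction (· ∈ B) B.zero_mem (fun _ _ => B.add_mem) fun y _ => hB y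

/-- `B = ⋃_{i < m} u ^ i A`, a disjoint union. -/
structure Step (m : ℕ) (A B : Subgroup G) (u : G) : Prop where
  le : A ≤ B
  mem : u ∈ B
  dec : ∀ b ∈ B, ∃ i < m, ∃ a ∈ A, b = u ^ i * a
  ne : ∀ i, 0 < i → i < m → u ^ i ∉ A

theorem osum_step (hF : ∀ (g : G) x, F (g • x) = π g (F x)) {A B : Subgroup G} {u : G} {m : ℕ}
    (h : Step m A B u) {x : X} (hst : ∀ b ∈ B, b • x = x → b ∈ A) :
    osum F B x = (∑ i ∈ range m, π u ^ i) (osum F A x) := by
  have e : orb B x = ⋃ i ∈ (range m : Set ℕ), (fun y => u ^ i • y) '' orb A x := by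
    ext y
    simp only [Set.mem_iUnion, Set.mem_image, coe_range, Set.mem_Iio]
    constructor
    · rintro ⟨b, hb, rfl⟩
      obtain ⟨i, hi, a, ha, rfl⟩ := h.dec b hb
      exact ⟨i, hi, a • x, ⟨a, ha, rfl⟩, (mul_smul _ _ _).symm⟩
    · rintro ⟨i, -, _, ⟨a, ha, rfl⟩, rfl⟩
      exact ⟨u ^ i * a, B.mul_mem (B.pow_mem h.mem i) (h.le ha), mul_smul _ _ _⟩
  have key : ∀ i j, i < j → j < m → ∀ a ∈ A, ∀ a' ∈ A, u ^ i • a • x ≠ u ^ j • a' • x := by
    intro i j hij hj a ha a' ha' e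
    obtain ⟨d, rfl⟩ := Nat.exists_eq_add_of_lt hij
    have h1 : (a⁻¹ * u ^ (d + 1) * a') • x = x := by
      rw [add_assoc, pow_add, mul_smul, smul_left_cancel_iff] at e
      rw [mul_smul, mul_smul, ← e, inv_smul_smul]
    have h2 := hst _ (B.mul_mem (B.mul_mem (B.inv_mem (h.le ha)) (B.pow_mem h.mem _)) (h.le ha')) h1
    exact h.ne (d + 1) (by omega) (by omega)
      ((A.mul_mem_cancel_left (A.inv_mem ha)).1 ((A.mul_mem_cancel_right ha').1 h2))
  rw [osum, e, finsum_mem_biUnion _ (range m).finite_toSet fun _ _ => Set.toFinite _,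
    finsum_mem_coe_finset, LinearMap.sum_apply]
  · refine sum_congr rfl fun i _ => ?_
    rw [finsum_mem_image (MulAction.injective (u ^ i)).injOn, ← map_pow, osum]
    simp only [hF]
    exact ((π (u ^ i)).toAddMonoidHom.map_finsum_mem F (Set.toFinite _)).symm
  · intro i hi j hj hij
    rw [Function.onFun, Set.disjoint_left]
    rintro _ ⟨_, ⟨a, ha, rfl⟩, rfl⟩ ⟨_, ⟨a', ha', rfl⟩, e⟩
    simp only [coe_range, Set.mem_Iio] at hi hj
    rcases lt_or_gt_of_ne hij with h' | h'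
    · exact key i j h' hj a ha a' ha' e.symm
    · exact key j i h' hi a' ha' a ha e

theorem sum_eq_zero {R : Subgroup G} (S : Set X) (hS : ∀ r ∈ R, ∀ y ∈ S, r • y ∈ S)
    (h0 : ∀ y ∈ S, osum F R y = 0) : ∑ᶠ y ∈ S, F y = 0 := by
  induction hn : S.ncard using Nat.strong_induction_on generalizing S with
  | _ n ih =>
    rcases S.eq_empty_or_nonempty with rfl | ⟨y, hy⟩
    · exact finsum_mem_empty
    have hle : orb R y ⊆ S := by rintro _ ⟨r, hr, rfl⟩; exact hS r hr y hy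
    have hy' : y ∈ orb R y := ⟨1, R.one_mem, one_smul _ _⟩
    rw [← Set.union_sdiff_cancel hle, finsum_mem_union Set.disjoint_sdiff_right (Set.toFinite _)
      (Set.toFinite _), ih _ _ (S \ orb R y) _ (fun z hz => h0 z hz.1) rfl, add_zero]
    · exact h0 y hy
    · rw [← hn]
      exact Set.ncard_lt_ncard ⟨Set.sdiff_subset, fun h => (h hy).2 hy'⟩
    · rintro r hr z ⟨hz, hz'⟩
      refine ⟨hS r hr z hz, fun ⟨a, ha, e⟩ => hz' ⟨r⁻¹ * a, R.mul_mem (R.inv_mem hr) ha, ?_⟩⟩
      rw [mul_smul, e, inv_smul_smul]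

theorem fixed_of_osum [Finite G] {H R : Subgroup G} (hR : R ≤ H) {w : M} (hw : ∀ h ∈ H, π h w = w)
    (h0 : ∀ F : G ⧸ H → M, (∀ x : G, F x = π x w) → (∀ (g : G) x, F (g • x) = π g (F x)) →
      ∀ x ∉ H, osum F R (x : G ⧸ H) = 0) (g : G) : π g w = w := by
  let F : G ⧸ H → M := Quotient.lift (fun x => π x w) fun a b hab => by
    have := hw _ (QuotientGroup.leftRel_apply.1 hab)
    change π a w = π b w
    rw [← this, ← Module.End.mul_apply, ← map_mul, mul_inv_cancel_left, this]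
  have hF1 : ∀ x : G, F x = π x w := fun _ => rfl
  have hF : ∀ (g : G) x, F (g • x) = π g (F x) := by
    intro g x
    induction x using QuotientGroup.induction_on with
    | H x => rw [MulAction.Quotient.smul_mk, smul_eq_mul, hF1, hF1, map_mul, Module.End.mul_apply]
  have e1 : ∑ᶠ y, F y = w := by
    rw [← finsum_mem_univ, ← Set.insert_sdiff_self_of_mem (Set.mem_univ ((1 : G) : G ⧸ H)),
      finsum_mem_insert _ (by simp) (Set.toFinite _), sum_eq_zero (R := R), add_zero, hF1, map_one,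
      Module.End.one_apply]
    · rintro r hr y ⟨-, hy⟩
      refine ⟨trivial, fun e => hy ?_⟩
      rw [Set.mem_singleton_iff] at e ⊢
      rw [← inv_smul_smul r y, e, MulAction.Quotient.smul_mk, QuotientGroup.eq]
      simpa using hR hr
    · rintro y ⟨-, hy⟩
      induction y using QuotientGroup.induction_on with
      | H y =>
        refine h0 F hF1 hF y fun h => hy ?_
        rw [Set.mem_singleton_iff, QuotientGroup.eq]
        simpa using h
  have e2 : π g (∑ᶠ y, F y) = ∑ᶠ y, F y := by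
    conv_rhs => rw [← finsum_comp_equiv (MulAction.toPerm g) (f := F)]
    simp only [MulAction.toPerm_apply, hF]
    exact (π g).toAddMonoidHom.map_finsum (Set.toFinite _)
  rwa [e1] at e2

end Trace

section Prime

variable {G M : Type*} [Group G] {p : ℕ} [hp : Fact p.Prime]

theorem geom_eq {A : Type*} [Ring A] [Algebra (ZMod p) A] (y : A) :
    ∑ i ∈ range p, y ^ i = (y - 1) ^ (p - 1) := by
  have h : ∑ i ∈ range p, (Polynomial.X : Polynomial (ZMod p)) ^ i = (Polynomial.X - 1) ^ (p - 1) := by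
    have h1 : (Polynomial.X - 1 : Polynomial (ZMod p)) ≠ 0 := Polynomial.X_sub_C_ne_zero 1
    apply mul_right_cancel₀ h1
    rw [geom_sum_mul, ← pow_succ, Nat.sub_add_cancel hp.out.one_le, sub_pow_char, one_pow]
  simpa using congrArg (Polynomial.aeval y) h

theorem step_of_normal {A B : Subgroup G} [Finite B] (hAB : A ≤ B) [(A.subgroupOf B).Normal]
    (hi : A.relIndex B = p) {u : G} (hu : u ∈ B) (hu' : u ∉ A) : Step p A B u := by
  have hc : Nat.card (B ⧸ A.subgroupOf B) = p := hi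
  have h1 : ((⟨u, hu⟩ : B) : B ⧸ A.subgroupOf B) ≠ 1 := fun e =>
    hu' ((QuotientGroup.eq_one_iff (⟨u, hu⟩ : B)).1 e)
  have ho : orderOf ((⟨u, hu⟩ : B) : B ⧸ A.subgroupOf B) = p :=
    orderOf_eq_prime (by rw [← hc]; exact pow_card_eq_one') h1
  refine ⟨hAB, hu, fun b hb => ?_, fun i h0 hi hm => ?_⟩
  · obtain ⟨i, hi⟩ := mem_powers_of_prime_card hc h1 (g' := ((⟨b, hb⟩ : B) : B ⧸ A.subgroupOf B))
    refine ⟨i % p, Nat.mod_lt _ hp.out.pos, (u ^ (i % p))⁻¹ * b, ?_, by group⟩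
    simp only at hi
    rw [← pow_mod_orderOf, ho, ← QuotientGroup.mk_pow, QuotientGroup.eq] at hi
    exact hi
  · refine pow_ne_one_of_lt_orderOf h0.ne' (ho.symm ▸ hi) ?_
    rw [← QuotientGroup.mk_pow, QuotientGroup.eq_one_iff]
    exact hm

theorem exists_step {Q R : Subgroup G} [Finite R] (hR : IsPGroup p R) (h : ¬ R ≤ Q) :
    ∃ A : Subgroup G, Q ⊓ R ≤ A ∧ ¬ R ≤ A ∧ ∀ u ∈ R, u ∉ A → Step p A R u := by
  obtain ⟨M, hM, hle⟩ := (eq_top_or_exists_le_coatom (Q.subgroupOf R)).resolve_left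
    fun e => h (Subgroup.subgroupOf_eq_top.1 e)
  have hn := Grp.PFrattini.normal_of_isCoatom hR hM
  have hi := Grp.PFrattini.index_of_isCoatom hR hM
  have e : (M.map R.subtype).subgroupOf R = M := Subgroup.comap_map_eq_self_of_injective
    R.subtype_injective M
  refine ⟨M.map R.subtype, fun x hx => ⟨⟨x, hx.2⟩, hle hx.1, rfl⟩,
    fun hle' => hM.1 (e ▸ Subgroup.subgroupOf_eq_top.2 hle'), fun u hu hu' => ?_⟩
  have : ((M.map R.subtype).subgroupOf R).Normal := e.symm ▸ hn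
  exact step_of_normal (Subgroup.map_subtype_le M) (by rw [Subgroup.relIndex, e, hi]) hu hu'

variable [Finite G] [AddCommGroup M] [Module (ZMod p) M] {π : Representation (ZMod p) G M}

omit [Finite G] in
theorem stab_mem {H : Subgroup G} {b x : G} (h : b • (x : G ⧸ H) = x) : x⁻¹ * b * x ∈ H := by
  rw [MulAction.Quotient.smul_mk, smul_eq_mul, eq_comm, QuotientGroup.eq] at h
  rwa [mul_assoc]

/-- One-step version. -/
theorem fixed_one {H R : Subgroup G} (hR : R ≤ H) {B : Submodule (ZMod p) M}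
    (hB : ∀ g, ∀ m ∈ B, π g m ∈ B) {w : M} (hwB : w ∈ B) (hw : ∀ h ∈ H, π h w = w)
    (h : ∀ x ∉ H, ∃ A u, Step p A R u ∧ (∀ b ∈ R, x⁻¹ * b * x ∈ H → b ∈ A) ∧
      ∀ m ∈ B, ((π u - 1) ^ (p - 1)) m = 0) (g : G) : π g w = w := by
  refine fixed_of_osum hR hw (fun F hF1 hF x hx => ?_) g
  obtain ⟨A, u, hs, hst, h0⟩ := h x hx
  rw [osum_step hF hs fun b hb e => hst b hb (stab_mem e), geom_eq]
  refine h0 _ (osum_mem (fun y => ?_) _ _)
  induction y using QuotientGroup.induction_on with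
  | H y => rw [hF1]; exact hB _ _ hwB

/-- Two-step version. -/
theorem fixed_two {H R R' : Subgroup G} (hR : R ≤ H) {s : G} (hs : Step p R' R s)
    {B : Submodule (ZMod p) M}
    (hB : ∀ g, ∀ m ∈ B, π g m ∈ B) {w : M} (hwB : w ∈ B) (hw : ∀ h ∈ H, π h w = w)
    (h : ∀ x ∉ H, ∃ A u, Step p A R' u ∧ (∀ b ∈ R, x⁻¹ * b * x ∈ H → b ∈ A) ∧
      ∀ m ∈ B, ((π s - 1) ^ (p - 1)) (((π u - 1) ^ (p - 1)) m) = 0) (g : G) : π g w = w := by
  refine fixed_of_osum hR hw (fun F hF1 hF x hx => ?_) g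
  obtain ⟨A, u, hs', hst, h0⟩ := h x hx
  rw [osum_step hF hs fun b hb e => hs'.le (hst b hb (stab_mem e)),
    osum_step hF hs' fun b hb e => hst b (hs.le hb) (stab_mem e), geom_eq, geom_eq]
  refine h0 _ (osum_mem (fun y => ?_) _ _)
  induction y using QuotientGroup.induction_on with
  | H y => rw [hF1]; exact hB _ _ hwB

end Prime

section Pol

variable {k G Ω : Type*} [Field k] [Group G] [AddCommGroup Ω] [Module k Ω]

/-- Precomposition with a map, as an algebra endomorphism of the functions. -/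
def pre (f : Ω → Ω) : (Ω → k) →ₐ[k] (Ω → k) := 
  AlgHom.pi fun ω => Pi.evalAlgHom k _ (f ω)

omit [AddCommGroup Ω] [Module k Ω] in
theorem pre_apply (f : Ω → Ω) (w : Ω → k) (ω : Ω) : pre f w ω = w (f ω) := rfl

/-- The representation on functions. -/
def fn (σ : Representation k G Ω) : Representation k G (Ω → k) where
  toFun g := (pre (σ g⁻¹)).toLinearMap
  map_one' := by ext w ω; simp [pre_apply]
  map_mul' g h := by ext w ω; simp [pre_apply]

theorem fn_apply (σ : Representation k G Ω) (g : G) (w : Ω → k) (ω : Ω) :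
    fn σ g w ω = w (σ g⁻¹ ω) := rfl

/-- Linear functionals vanishing on `U`. -/
def lin (U : Submodule k Ω) : Submodule k (Ω → k) :=
  U.dualAnnihilator.map (LinearMap.ltoFun k Ω k k)

theorem mem_lin {U : Submodule k Ω} {w : Ω → k} :
    w ∈ lin U ↔ ∃ f : Module.Dual k Ω, (∀ x ∈ U, f x = 0) ∧ ⇑f = w := by
  simp only [lin, Submodule.mem_map, Submodule.mem_dualAnnihilator]
  rfl

/-- Polynomial functions of degree `r`. -/
def pol (k Ω : Type*) [Field k] [AddCommGroup Ω] [Module k Ω] (r : ℕ) : Submodule k (Ω → k) :=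
  lin ⊥ ^ r

theorem coe_mem_pol (f : Module.Dual k Ω) : ⇑f ∈ pol k Ω 1 := by
  rw [pol, pow_one]
  exact mem_lin.2 ⟨f, fun x hx => by rw [(Submodule.mem_bot k).1 hx, map_zero], rfl⟩

theorem mul_mem_pol {r r' : ℕ} {w w' : Ω → k} (h : w ∈ pol k Ω r) (h' : w' ∈ pol k Ω r') :
    w * w' ∈ pol k Ω (r + r') := by
  rw [pol, pow_add]; exact Submodule.mul_mem_mul h h'

theorem pow_mem_pol {r : ℕ} {w : Ω → k} (h : w ∈ pol k Ω r) (m : ℕ) : w ^ m ∈ pol k Ω (r * m) := by
  rw [pol, pow_mul]; exact Submodule.pow_mem_pow _ h m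

theorem pre_mem_pol (f : Ω →ₗ[k] Ω) {r : ℕ} {w : Ω → k} (h : w ∈ pol k Ω r) :
    pre f w ∈ pol k Ω r := by
  have : (pol k Ω r).map (pre (k := k) f).toLinearMap ≤ pol k Ω r := by
    rw [pol, Submodule.map_pow]
    refine pow_le_pow_left' ?_ r
    rintro _ ⟨w, hw, rfl⟩
    obtain ⟨g, -, rfl⟩ := mem_lin.1 hw
    exact mem_lin.2 ⟨g.comp f, fun x hx => by rw [(Submodule.mem_bot k).1 hx, map_zero], rfl⟩
  exact this ⟨w, h, rfl⟩

/-- Products of `r` functionals of total depth at least `t`. -/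
def dep (C : ℕ → Submodule k Ω) : ℕ → ℕ → Submodule k (Ω → k)
  | 0, t => if t = 0 then 1 else ⊥
  | r + 1, t => ⨆ (a : ℕ × ℕ) (_ : t ≤ a.1 + a.2), lin (C a.1) * dep C r a.2

variable {C : ℕ → Submodule k Ω}

theorem mul_mem_dep {r t j t' : ℕ} (h : t ≤ j + t') {a b : Ω → k} (ha : a ∈ lin (C j))
    (hb : b ∈ dep C r t') : a * b ∈ dep C (r + 1) t :=
  (le_iSup₂_of_le (f := fun (a : ℕ × ℕ) (_ : t ≤ a.1 + a.2) => lin (C a.1) * dep C r a.2) (j, t') h
    le_rfl) (Submodule.mul_mem_mul ha hb)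

theorem dep_succ_le {r t : ℕ} {W : Submodule k (Ω → k)}
    (h : ∀ j t', t ≤ j + t' → ∀ a ∈ lin (C j), ∀ b ∈ dep C r t', a * b ∈ W) :
    dep C (r + 1) t ≤ W :=
  iSup₂_le fun a ha => Submodule.mul_le.2 (h a.1 a.2 ha)

theorem pol_le_dep (h0 : C 0 = ⊥) (r : ℕ) : pol k Ω r ≤ dep C r 0 := by
  induction r with
  | zero => exact le_rfl
  | succ r ih =>
    rw [pol, pow_succ']
    exact Submodule.mul_le.2 fun a ha b hb => mul_mem_dep (j := 0) (t' := 0) le_rfl (h0 ▸ ha) (ih hb)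

theorem dep_eq_bot {n : ℕ} (hn : ∀ j, n < j → C j = ⊤) (r t : ℕ) (h : r * n < t) :
    dep C r t = ⊥ := by
  induction r generalizing t with
  | zero => rw [dep, if_neg (by omega)]
  | succ r ih =>
    refine le_bot_iff.1 (dep_succ_le fun j t' ht a ha b hb => ?_)
    by_cases hj : n < j
    · obtain ⟨f, hf, rfl⟩ := mem_lin.1 ha
      have : f = 0 := LinearMap.ext fun x => hf x (hn j hj ▸ trivial)
      rw [this, (LinearMap.coe_zero_iff _).2 rfl, zero_mul]; exact zero_mem _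
    · rw [ih t' (by rw [add_mul] at h; omega)] at hb
      simp [(Submodule.mem_bot k).1 hb]

theorem pre_mem_dep {f : Ω →ₗ[k] Ω} {δ : ℕ} (h0 : ∀ j, ∀ x ∈ C j, f x ∈ C j)
    (h : ∀ j, ∀ x ∈ C (j + δ), f x - x ∈ C j) (r t : ℕ) {w : Ω → k} (hw : w ∈ dep C r t) :
    pre f w ∈ dep C r t ∧ pre f w - w ∈ dep C r (t + δ) := by
  induction r generalizing t w with
  | zero =>
    rw [dep] at hw
    split_ifs at hw with ht
    · obtain ⟨c, rfl⟩ := Submodule.mem_one.1 hw
      rw [AlgHom.commutes, sub_self, dep, if_pos ht]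
      exact ⟨hw, zero_mem _⟩
    · rw [(Submodule.mem_bot k).1 hw, map_zero, sub_self]
      exact ⟨zero_mem _, zero_mem _⟩
  | succ r ih =>
    have : dep C (r + 1) t ≤ (dep C (r + 1) t).comap (pre (k := k) f).toLinearMap ⊓
        (dep C (r + 1) (t + δ)).comap ((pre (k := k) f).toLinearMap - 1) := by
      refine dep_succ_le fun j t' ht a ha b hb => ?_
      obtain ⟨g, hg, rfl⟩ := mem_lin.1 ha
      obtain ⟨i1, i2⟩ := ih t' hb
      have a1 : pre f ⇑g ∈ lin (C j) := mem_lin.2 ⟨g.comp f, fun x hx => hg _ (h0 j x hx), rfl⟩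
      have a2 : pre f ⇑g - ⇑g ∈ lin (C (j + δ)) := mem_lin.2 ⟨g.comp f - g, fun x hx => by
        rw [LinearMap.sub_apply, LinearMap.comp_apply, ← map_sub]; exact hg _ (h j x hx), rfl⟩
      refine ⟨?_, ?_⟩
      · change pre f (⇑g * b) ∈ dep C (r + 1) t
        rw [map_mul]
        exact mul_mem_dep ht a1 i1
      · change pre f (⇑g * b) - ⇑g * b ∈ dep C (r + 1) (t + δ)
        have e : pre f (⇑g * b) - ⇑g * b = (pre f ⇑g - ⇑g) * pre f b + ⇑g * (pre f b - b) := by
          rw [map_mul]; ring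
        rw [e]
        exact add_mem (mul_mem_dep (by omega) a2 i1) (mul_mem_dep (by omega) ha i2)
    exact this hw

theorem fn_pow_mem_dep {σ : Representation k G Ω} {u : G} {δ : ℕ}
    (h0 : ∀ j, ∀ x ∈ C j, σ u⁻¹ x ∈ C j) (h : ∀ j, ∀ x ∈ C (j + δ), σ u⁻¹ x - x ∈ C j) {r t : ℕ}
    {w : Ω → k} (hw : w ∈ dep C r t) (m : ℕ) : ((fn σ u - 1) ^ m) w ∈ dep C r (t + m * δ) := by
  induction m with
  | zero => simpa using hw
  | succ m ih =>
    rw [pow_succ', Module.End.mul_apply, add_mul, one_mul, ← add_assoc]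
    exact (pre_mem_dep h0 h r _ ih).2

theorem fn_mem_pol (σ : Representation k G Ω) (g : G) {r : ℕ} {w : Ω → k} (h : w ∈ pol k Ω r) :
    fn σ g w ∈ pol k Ω r := pre_mem_pol _ h

/-- Quadratic operators. -/
theorem fn_pow_quad {σ : Representation k G Ω} {u : G} (h : ∀ x, σ u (σ u x - x) = σ u x - x)
    {r m : ℕ} (hr : r < m) {w : Ω → k} (hw : w ∈ pol k Ω r) : ((fn σ u - 1) ^ m) w = 0 := by
  let C : ℕ → Submodule k Ω := fun j => LinearMap.ker ((σ u - 1) ^ j)
  have hi : ∀ x, σ u (σ u⁻¹ x) = x := fun x => by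
    rw [← Module.End.mul_apply, ← map_mul, mul_inv_cancel, map_one, Module.End.one_apply]
  have hc : Commute (σ u - 1) (σ u⁻¹) :=
    ((Commute.refl u).inv_right.map σ).sub_left (Commute.one_left _)
  have h0 : ∀ j, ∀ x ∈ C j, σ u⁻¹ x ∈ C j := fun j x hx => by
    rw [LinearMap.mem_ker] at hx ⊢
    rw [← Module.End.mul_apply, (hc.pow_left j).eq, Module.End.mul_apply, hx, map_zero]
  have := fn_pow_mem_dep (C := C) (σ := σ) (u := u) (δ := 1) h0 (fun j x hx => ?_)
    (pol_le_dep (by simp [C, Module.End.one_eq_id]) r hw) m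
  · rwa [dep_eq_bot (n := 1) (fun j hj => ?_) _ _ (by omega)] at this
    obtain ⟨j, rfl⟩ := Nat.exists_eq_add_of_lt hj
    refine eq_top_iff.2 fun x _ => ?_
    rw [LinearMap.mem_ker, add_comm 1 j, add_assoc, pow_add, Module.End.mul_apply, pow_two,
      Module.End.mul_apply, LinearMap.sub_apply, LinearMap.sub_apply, Module.End.one_apply,
      Module.End.one_apply, h, sub_self, map_zero]
  · have h1 := h0 _ x hx
    rw [LinearMap.mem_ker] at h1 ⊢
    rw [pow_succ, Module.End.mul_apply, LinearMap.sub_apply, hi, Module.End.one_apply] at h1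
    rw [← neg_sub x, map_neg, h1, neg_zero]

end Pol

end Cfsg.Agent.Fus.UT
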