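import Mathlib
import Cfsg.Agent.Fus.UniTr
import Cfsg.Agent.Fus.UniLin
import Cfsg.Agent.Fus.SylIn

/-!
Groups whose Sylow `p`-subgroup `P = P₁⟨s⟩` acts on a small module with `s` regular unipotent and
`P₁` of degree at least two: the data, restriction to subgroups and sections, invariant functions.
-/

set_option autoImplicit false

namespace Cfsg.Agent.Fus.UT

open Finset Module Subgroup

universe u v

section Lin

variable {k V : Type*} [Field k] [AddCommGroup V] [Module k V] {X f : End k V}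

theorem Deg.ker {j n : ℕ} {c : k} (h0 : c ≠ 0) (hd : Deg X (j + 1) (f - c • X ^ j))
    (hn : X ^ n = 0) {v : V} (hv : f v = 0) : (X ^ j) v = 0 := by
  suffices ∀ m, (X ^ (m + j)) v = 0 → (X ^ j) v = 0 from
    this n (pow_apply_mono (Nat.le_add_right n j) (by rw [hn, LinearMap.zero_apply]))
  intro m
  induction m with
  | zero => simp
  | succ m ih =>
    intro h
    have := hd m v (by rwa [show m + (j + 1) = m + 1 + j by omega])
    rw [LinearMap.sub_apply, hv, zero_sub, map_neg, neg_eq_zero, LinearMap.smul_apply, map_smul,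
      pow_pow_apply, smul_eq_zero] at this
    exact ih (this.resolve_left h0)

end Lin

variable {p : ℕ} [hp : Fact p.Prime] {G : Type u} [Group G] [Finite G]

theorem inv_closed {S : G → Prop} (h1 : S 1) (hm : ∀ a b, S a → S b → S (a * b)) {g : G}
    (h : S g) : S g⁻¹ := by
  obtain ⟨m, hm'⟩ := mem_powers_iff_mem_zpowers.2 (inv_mem (mem_zpowers g))
  rw [← hm']
  clear hm'
  induction m with
  | zero => simpa using h1
  | succ m ih => simpa only [pow_succ] using hm _ _ ih h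

theorem mem_norm' {H : Subgroup G} {g : G} (h : ∀ x ∈ H, g * x * g⁻¹ ∈ H) :
    g ∈ normalizer (H : Set G) := mem_normalizer_fintype h

omit [Finite G] in
theorem conj_mem' {H : Subgroup G} {g x : G} (h : g ∈ normalizer (H : Set G)) (hx : x ∈ H) :
    g * x * g⁻¹ ∈ H := (mem_normalizer_iff.1 h x).1 hx

/-- The group theoretic data. -/
structure GD (P P₁ : Subgroup G) (φ : G → ZMod p) (s : G) : Prop where
  syl : SylIn p P ⊤
  mul : ∀ x ∈ P, ∀ y ∈ P, φ (x * y) = φ x + φ y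
  mem1 : ∀ y, y ∈ P₁ ↔ y ∈ P ∧ φ y = 0
  mem : s ∈ P
  one : φ s = 1

namespace GD

variable {P P₁ : Subgroup G} {φ : G → ZMod p} {s : G} (h : GD P P₁ φ s)
include h

omit [Finite G] in
theorem pg : IsPGroup p P := h.syl.isPGroup le_top

omit [Finite G] in
theorem le : P₁ ≤ P := fun y hy => ((h.mem1 y).1 hy).1

omit [Finite G] in
theorem map_pow {x : G} (hx : x ∈ P) (i : ℕ) : φ (x ^ i) = i * φ x := by
  induction i with
  | zero => simpa using ((h.mem1 1).1 P₁.one_mem).2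
  | succ i ih => rw [pow_succ, h.mul _ (P.pow_mem hx i) _ hx, ih]; push_cast; ring

omit [Finite G] in
theorem map_inv {x : G} (hx : x ∈ P) : φ x⁻¹ = - φ x := by
  have := h.mul _ (P.inv_mem hx) _ hx
  rw [inv_mul_cancel, ((h.mem1 1).1 P₁.one_mem).2] at this
  exact eq_neg_of_add_eq_zero_left this.symm

omit [Finite G] in
theorem dec {b y : G} (hb : b ∈ P) (h0 : φ b ≠ 0) (hy : y ∈ P) :
    ∃ u ∈ P₁, y = b ^ (φ y / φ b).val * u := by
  refine ⟨(b ^ (φ y / φ b).val)⁻¹ * y, (h.mem1 _).2 ⟨P.mul_mem (P.inv_mem (P.pow_mem hb _)) hy, ?_⟩,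
    by group⟩
  rw [h.mul _ (P.inv_mem (P.pow_mem hb _)) _ hy, h.map_inv (P.pow_mem hb _), h.map_pow hb,
    ZMod.natCast_zmod_val, div_mul_cancel₀ _ h0, neg_add_cancel]

omit [Finite G] in
theorem dec' {y : G} (hy : y ∈ P) : ∃ u ∈ P₁, y = s ^ (φ y).val * u := by
  simpa [h.one] using h.dec h.mem (by rw [h.one]; exact one_ne_zero) hy

omit [Finite G] in
theorem step : Step p P₁ P s :=
  ⟨h.le, h.mem, fun b hb => ⟨_, ZMod.val_lt (φ b), h.dec' hb⟩, fun i h0 hi hm => by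
    have := ((h.mem1 _).1 hm).2
    rw [h.map_pow h.mem, h.one, mul_one, ZMod.natCast_eq_zero_iff] at this
    exact absurd (Nat.le_of_dvd h0 this) (by omega)⟩

omit [Finite G] in
theorem conj1 {y u : G} (hy : y ∈ P) (hu : u ∈ P₁) : y * u * y⁻¹ ∈ P₁ := by
  have hu' := h.le hu
  refine (h.mem1 _).2 ⟨P.mul_mem (P.mul_mem hy hu') (P.inv_mem hy), ?_⟩
  rw [h.mul _ (P.mul_mem hy hu') _ (P.inv_mem hy), h.mul _ hy _ hu', h.map_inv hy,
    ((h.mem1 _).1 hu).2]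
  ring

omit [Finite G] in
theorem map_conj {g y : G} (hg : g ∈ normalizer (P : Set G)) (hg1 : g ∈ normalizer (P₁ : Set G))
    (hy : y ∈ P) : φ (g * y * g⁻¹) = φ y * φ (g * s * g⁻¹) := by
  obtain ⟨u, hu, e⟩ := h.dec' hy
  have : g * y * g⁻¹ = (g * s * g⁻¹) ^ (φ y).val * (g * u * g⁻¹) := by
    rw [conj_pow]; nth_rewrite 1 [e]; group
  rw [this, h.mul _ (P.pow_mem (conj_mem' hg h.mem) _) _ (conj_mem' hg (h.le hu)),
    h.map_pow (conj_mem' hg h.mem), ((h.mem1 _).1 (conj_mem' hg1 hu)).2, ZMod.natCast_zmod_val,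
    add_zero]

omit [Finite G] in
theorem mem_of_pow {y : G} (hy : y ∈ normalizer (P : Set G)) {m : ℕ} (hm : y ^ p ^ m = 1) :
    y ∈ P := by
  have h1 : IsPGroup p (zpowers y) := fun ⟨x, i, hx⟩ => ⟨m, Subtype.ext (by
    change x ^ p ^ m = 1
    rw [← hx, ← zpow_natCast, ← zpow_mul, mul_comm, zpow_mul, zpow_natCast, hm, one_zpow])⟩
  have := h.syl.eq_of_le le_top (h1.to_sup_of_normal_right' h.pg (zpowers_le.2 hy)) le_sup_right
    le_top
  exact this ▸ mem_sup_left (mem_zpowers y)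

omit [Finite G] in
theorem pow_eq {y : G} (hy : y ∈ P) : ∃ m, y ^ p ^ m = 1 :=
  (h.pg ⟨y, hy⟩).imp fun _ e => congrArg Subtype.val e

omit [Finite G] in
theorem restrict {Y : Subgroup G} (hY : P ≤ Y) :
    GD (P.subgroupOf Y) (P₁.subgroupOf Y) (fun y => φ y) ⟨s, hY h.mem⟩ :=
  ⟨by
    have := (sylIn_subgroupOf_iff hY le_rfl).2 (h.syl.of_le hY le_top)
    rwa [subgroupOf_self] at this, fun x hx y hy => h.mul x hx y hy, fun y => h.mem1 y, h.mem, h.one⟩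

omit [Finite G] in
/-- A generator of `N(P)` modulo `P`. -/
theorem exists_tau (hN : normalizer (P : Set G) ≤ normalizer (P₁ : Set G))
    (hT : ∀ g ∈ normalizer (P : Set G), φ (g * s * g⁻¹) = 1 → g ∈ P) :
    ∃ τ ∈ normalizer (P : Set G), ∃ e, IsPrimitiveRoot (φ (τ * s * τ⁻¹)) e ∧ e ∣ p - 1 ∧ 0 < e ∧
      τ ^ e ∈ P ∧ (∀ i, φ (τ ^ i * s * (τ ^ i)⁻¹) = φ (τ * s * τ⁻¹) ^ i) ∧
      ∀ g ∈ normalizer (P : Set G), ∃ i, ∃ y ∈ P, g = τ ^ i * y := by
  let α : normalizer (P : Set G) →* ZMod p :=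
    { toFun := fun g => φ (g * s * (g : G)⁻¹)
      map_one' := by simp [h.one]
      map_mul' := fun a b => by
        have := h.map_conj a.2 (hN a.2) (conj_mem' b.2 h.mem)
        rw [mul_comm, ← this]
        simp [mul_assoc] }
  obtain ⟨⟨_, τ, rfl⟩, hτ⟩ := IsCyclic.exists_monoid_generator (α := α.toHomUnits.range)
  have hpow : ∀ i, φ ((τ : G) ^ i * s * ((τ : G) ^ i)⁻¹) = φ (τ * s * (τ : G)⁻¹) ^ i :=
    fun i => α.map_pow τ i
  have hd : orderOf (α τ) ∣ p - 1 := ZMod.orderOf_dvd_card_sub_one (α.toHomUnits τ).ne_zero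
  refine ⟨τ, τ.2, orderOf (α τ), IsPrimitiveRoot.orderOf _, hd,
    Nat.pos_of_dvd_of_pos hd (by have := hp.out.two_le; omega),
    hT _ (pow_mem τ.2 _) ((hpow _).trans (pow_orderOf_eq_one _)), hpow, fun g hg => ?_⟩
  obtain ⟨i, hi⟩ := hτ ⟨_, ⟨g, hg⟩, rfl⟩
  refine ⟨i, ((τ : G) ^ i)⁻¹ * g, hT _ (mul_mem (inv_mem (pow_mem τ.2 _)) hg) ?_, by group⟩
  have h1 : α.toHomUnits (τ ^ i) = α.toHomUnits ⟨g, hg⟩ := by
    rw [_root_.map_pow]; exact congrArg Subtype.val hi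
  have : α.toHomUnits ((τ ^ i)⁻¹ * ⟨g, hg⟩) = 1 := by
    rw [map_mul, _root_.map_inv, h1, inv_mul_cancel]
  exact congrArg Units.val this

end GD

variable {V : Type v} [AddCommGroup V] [Module (ZMod p) V] {ρ : Representation (ZMod p) G V}

/-- The stabiliser of a member of the flag. -/
def stabK (ρ : Representation (ZMod p) G V) (X : End (ZMod p) V) (c : ℕ) : Subgroup G where
  carrier := {g | ∀ v, (X ^ c) v = 0 → (X ^ c) (ρ g v) = 0}
  one_mem' v hv := by simpa using hv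
  mul_mem' ha hb v hv := by rw [map_mul, End.mul_apply]; exact ha _ (hb v hv)
  inv_mem' := inv_closed (S := fun g => ∀ v, (X ^ c) v = 0 → (X ^ c) (ρ g v) = 0)
    (fun v hv => by simpa using hv)
    fun a b ha hb v hv => by rw [map_mul, End.mul_apply]; exact ha _ (hb v hv)

omit [Finite G] in
theorem sub_one_mul (a b : G) : ρ (a * b) - 1 = ρ a * (ρ b - 1) + (ρ a - 1) := by
  rw [map_mul, mul_sub, mul_one, sub_add_sub_cancel]

/-- The elements of degree at least `δ`. -/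
def degS (ρ : Representation (ZMod p) G V) (X : End (ZMod p) V) (δ : ℕ) : Subgroup G where
  carrier := {g | Deg X δ (ρ g - 1)}
  one_mem' := by simpa using Deg.zero
  mul_mem' {a b} ha hb := by
    rw [Set.mem_ofPred_eq, sub_one_mul]; exact ((ha.of_sub_one.mul hb).mono (by omega)).add ha
  inv_mem' := inv_closed (S := fun g => Deg X δ (ρ g - 1)) (by simpa using Deg.zero)
    fun a b ha hb => by rw [sub_one_mul]; exact ((ha.of_sub_one.mul hb).mono (by omega)).add ha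

theorem mem_degS {X : End (ZMod p) V} {δ : ℕ} {g : G} : g ∈ degS ρ X δ ↔ Deg X δ (ρ g - 1) := Iff.rfl

theorem mem_degS_zero {X : End (ZMod p) V} {g : G} : g ∈ degS ρ X 0 ↔ Deg X 0 (ρ g) :=
  ⟨Deg.of_sub_one, fun h => h.sub Deg.one⟩

theorem mem_degS_zero' {X : End (ZMod p) V} {g : G} : g ∈ degS ρ X 0 ↔ ∀ c, g ∈ stabK ρ X c :=
  mem_degS_zero

omit [Finite G] in
theorem conj_pow_sub (g y : G) (c : ℕ) :
    (ρ (g * y * g⁻¹) - 1) ^ c * ρ g = ρ g * (ρ y - 1) ^ c :=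
  (SemiconjBy.pow_right (show SemiconjBy (ρ g) (ρ y - 1) (ρ (g * y * g⁻¹) - 1) by
    rw [SemiconjBy, mul_sub, sub_mul, ← map_mul, ← map_mul, inv_mul_cancel_right, mul_one, one_mul])
    c).eq.symm

theorem conj_degS {X : End (ZMod p) V} {δ : ℕ} {g y : G} (hg : g ∈ degS ρ X 0)
    (hy : y ∈ degS ρ X δ) : g * y * g⁻¹ ∈ degS ρ X δ := by
  have := ((mem_degS_zero.1 hg).mul hy).mul (mem_degS_zero.1 (inv_mem hg))
  rw [zero_add, add_zero, ← pow_one (ρ y - 1), ← conj_pow_sub, mul_assoc, ← map_mul, mul_inv_cancel,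
    map_one, mul_one, pow_one] at this
  exact this

/-- The module data. -/
structure MD (ρ : Representation (ZMod p) G V) (P₁ : Subgroup G) (s : G) (n : ℕ) (v₀ : V) :
    Prop where
  reg : Reg (ρ s - 1) n v₀
  deg : ∀ u ∈ P₁, Deg (ρ s - 1) 2 (ρ u - 1)
  lt : n < p

/-- No proper member of the flag is invariant. -/
def Irr (ρ : Representation (ZMod p) G V) (s : G) (n : ℕ) : Prop :=
  ∀ c, 0 < c → c < n → ¬ ∀ g, g ∈ stabK ρ (ρ s - 1) c

namespace MD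

variable {P P₁ : Subgroup G} {φ : G → ZMod p} {s : G} {n : ℕ} {v₀ : V} (h : MD ρ P₁ s n v₀)
include h

omit [Finite G] in
theorem restrict {Y : Subgroup G} (hs : s ∈ Y) :
    MD (ρ.comp Y.subtype) (P₁.subgroupOf Y) ⟨s, hs⟩ n v₀ := ⟨h.reg, fun u hu => h.deg u hu, h.lt⟩

theorem sec {a b : ℕ} (hab : a < b) (hb : b ≤ n) (ia : ∀ g, g ∈ stabK ρ (ρ s - 1) a)
    (ib : ∀ g, g ∈ stabK ρ (ρ s - 1) b) :
    ∃ (W : Type v) (_ : AddCommGroup W) (_ : Module (ZMod p) W) (ρ' : Representation (ZMod p) G W)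
      (w₀ : W), MD ρ' P₁ s (b - a) w₀ ∧
      (∀ c g, a + c ≤ b → g ∈ stabK ρ' (ρ' s - 1) c → g ∈ stabK ρ (ρ s - 1) (a + c)) ∧
      ∀ g, ρ' g = 1 → ∀ v, ((ρ s - 1) ^ b) v = 0 → ((ρ s - 1) ^ a) (ρ g v - v) = 0 := by
  set X := ρ s - 1 with hX
  let U : Submodule (ZMod p) V := LinearMap.ker (X ^ b)
  let U' : Submodule (ZMod p) U := (LinearMap.ker (X ^ a)).comap U.subtype
  let ρ1 := ρ.subrepresentation U fun g v hv => ib g v hv
  let ρ' := ρ1.quotient U' fun g v hv => ia g v hv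
  have e1 : ∀ g (u : U), ρ' g (U'.mkQ u) = U'.mkQ ⟨ρ g u, ib g u u.2⟩ := fun _ _ => rfl
  have e0 : ∀ u : U, U'.mkQ u = 0 ↔ (X ^ a) u = 0 := fun u => Submodule.Quotient.mk_eq_zero U'
  have e2 : ∀ g (u : U), (ρ' g - 1) (U'.mkQ u) =
      U'.mkQ ⟨(ρ g - 1) u, U.sub_mem (ib g u u.2) u.2⟩ := fun g u => by
    rw [LinearMap.sub_apply, e1, End.one_apply, ← map_sub]; rfl
  have e3 : ∀ c (u : U), ∃ u' : U, (u' : V) = (X ^ c) u ∧ ((ρ' s - 1) ^ c) (U'.mkQ u) = U'.mkQ u' := by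
    intro c u
    induction c with
    | zero => exact ⟨u, rfl, rfl⟩
    | succ c ih =>
      obtain ⟨u', h1, h2⟩ := ih
      exact ⟨⟨X u', U.sub_mem (ib s u' u'.2) u'.2⟩, by rw [pow_succ', End.mul_apply, ← h1],
        by rw [pow_succ', End.mul_apply, h2, e2]⟩
  have e4 : ∀ c (u : U), ((ρ' s - 1) ^ c) (U'.mkQ u) = 0 ↔ (X ^ (a + c)) u = 0 := fun c u => by
    obtain ⟨u', h1, h2⟩ := e3 c u
    rw [h2, e0, h1, pow_pow_apply]
  have hw : (X ^ (n - b)) v₀ ∈ U := by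
    rw [LinearMap.mem_ker, pow_pow_apply]; exact h.reg.nil' (by omega) _
  refine ⟨U ⧸ U', inferInstance, inferInstance, ρ', U'.mkQ ⟨_, hw⟩, ⟨⟨?_, ?_, ?_⟩, ?_, ?_⟩, ?_, ?_⟩
  · refine LinearMap.ext fun w => ?_
    obtain ⟨u, rfl⟩ := U'.mkQ_surjective w
    exact (e4 _ u).2 (pow_apply_mono (by omega) u.2)
  · rw [Ne, e4, pow_pow_apply]
    exact h.reg.ne' (by omega)
  · intro v w hv hw hw'
    obtain ⟨v, rfl⟩ := U'.mkQ_surjective v
    obtain ⟨w, rfl⟩ := U'.mkQ_surjective w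
    rw [← pow_one (ρ' s - 1), e4] at hv hw
    obtain ⟨c, hc⟩ := h.reg.step hv hw (mt (e0 w).2 hw')
    exact ⟨c, by rw [← sub_eq_zero, ← map_smul, ← map_sub, e0]; exact hc⟩
  · intro u hu c w hw
    obtain ⟨w, rfl⟩ := U'.mkQ_surjective w
    rw [e4, ← add_assoc] at hw
    rw [e2, e4]
    exact h.deg u hu _ _ hw
  · have := h.lt; omega
  · intro c g hc hg v hv
    have := hg (U'.mkQ ⟨v, pow_apply_mono hc hv⟩) ((e4 _ _).2 hv)
    rwa [e1, e4] at this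
  · intro g hg v hv
    have := e2 g ⟨v, hv⟩
    rw [hg, sub_self, LinearMap.zero_apply, eq_comm, e0] at this
    exact this

theorem irr_sub (hi : Irr ρ s n) {U : Submodule (ZMod p) V} (hU : ∀ g, ∀ v ∈ U, ρ g v ∈ U) :
    U = ⊥ ∨ U = ⊤ := by
  obtain ⟨a, ha, e⟩ := h.reg.inv_eq (U := U) fun v hv => U.sub_mem (hU s v hv) hv
  rcases Nat.eq_zero_or_pos a with rfl | h0
  · exact Or.inl (eq_bot_iff.2 fun v hv => (e v).1 hv)
  rcases ha.eq_or_lt with rfl | h1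
  · exact Or.inr (eq_top_iff.2 fun v _ => (e v).2 (h.reg.nil' le_rfl v))
  · exact (hi a h0 h1 fun g v hv => (e _).1 (hU g v ((e v).2 hv))).elim

variable (hG : GD P P₁ φ s)
include hG

omit [Finite G] in
theorem deg2 {y : G} (hy : y ∈ P) : Deg (ρ s - 1) 2 (ρ y - 1 - φ y • (ρ s - 1)) := by
  obtain ⟨u, hu, e⟩ := hG.dec' hy
  have h1 := Deg.binom (X := ρ s - 1) (φ y).val
  have h0 : Deg (ρ s - 1) 0 (ρ s) := Deg.of_sub_one Deg.x
  refine ((((h0.pow (φ y).val).mul (h.deg u hu)).mono (by omega)).add h1).congr ?_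
  rw [ZMod.natCast_zmod_val, sub_add_cancel]
  nth_rewrite 4 [e]
  rw [sub_one_mul, map_pow]
  abel

theorem le_degS : P ≤ degS ρ (ρ s - 1) 1 := fun y hy =>
  (((h.deg2 hG hy).mono one_le_two).add (Deg.x.smul (φ y))).congr (sub_add_cancel _ _)

theorem ker_iff {y : G} (hy : y ∈ P) (h0 : φ y ≠ 0) (c : ℕ) (v : V) :
    ((ρ y - 1) ^ c) v = 0 ↔ ((ρ s - 1) ^ c) v = 0 := by
  have h1 := Deg.pow_lead (X := ρ s - 1) (j := 1) (a := φ y) (f := ρ y - 1)
    (by rw [pow_one]; exact h.deg2 hG hy) c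
  rw [mul_one] at h1
  exact ⟨Deg.ker (pow_ne_zero _ h0) h1 h.reg.nil, fun hv =>
    ((h.le_degS hG hy).pow c).apply (c := 0) (by omega) hv⟩

theorem flag_of_conj {y g : G} (hy : y ∈ P) (h0 : φ y ≠ 0) (hy' : g * y * g⁻¹ ∈ P)
    (h0' : φ (g * y * g⁻¹) ≠ 0) : g ∈ degS ρ (ρ s - 1) 0 := mem_degS_zero'.2 fun c v hv => by
  rw [← h.ker_iff hG hy' h0', ← End.mul_apply, conj_pow_sub, End.mul_apply,
    (h.ker_iff hG hy h0 c v).2 hv, map_zero]

theorem strong (hn : 2 ≤ n) {u g : G} (hu : u ∈ P₁) (hu' : g * u * g⁻¹ ∈ P) : g * u * g⁻¹ ∈ P₁ := by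
  refine (hG.mem1 _).2 ⟨hu', not_not.1 fun h0 => h.reg.ne ?_⟩
  rw [← h.ker_iff hG hu' h0, ← ρ.self_inv_apply g v₀, ← End.mul_apply, conj_pow_sub,
    h.reg.eq_zero ((h.deg u hu).pow (n - 1)) (by omega), mul_zero, LinearMap.zero_apply]

theorem triv (hi : Irr ρ s n) {R : Subgroup G} (hR : R ≤ P)
    (hn : ∀ g, g ∈ normalizer (R : Set G)) {r : G} (hr : r ∈ R) : ρ r = 1 := by
  let U : Submodule (ZMod p) V := ⨅ r ∈ R, LinearMap.ker (ρ r - 1)
  have hU : ∀ v, v ∈ U ↔ ∀ r ∈ R, ρ r v = v := fun v => by simp [U, sub_eq_zero]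
  have hn' := h.reg.pos
  rcases h.irr_sub hi (U := U) (fun g v hv => (hU _).2 fun r hr => by
    have := (hU v).1 hv _ (conj_mem' (hn g⁻¹) hr)
    rw [inv_inv, map_mul, map_mul, End.mul_apply, End.mul_apply, ρ.inv_apply_eq_iff] at this
    exact this) with e | e
  · refine (h.reg.ne ((Submodule.mem_bot _).1 (e ▸ (hU _).2 fun r hr => ?_))).elim
    exact sub_eq_zero.1 ((h.le_degS hG (hR hr)) 0 _
      (by rw [pow_pow_apply]; exact h.reg.nil' (by omega) _))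
  · exact LinearMap.ext fun v => (hU v).1 (e ▸ trivial) r hr

theorem tau {τ : G} (hτ : τ ∈ normalizer (P : Set G)) (h0 : φ (τ * s * τ⁻¹) ≠ 0) :
    τ ∈ degS ρ (ρ s - 1) 0 ∧
      Deg (ρ s - 1) 2 (ρ τ * (ρ s - 1) - φ (τ * s * τ⁻¹) • ((ρ s - 1) * ρ τ)) := by
  have h1 := h.flag_of_conj hG hG.mem (by rw [hG.one]; exact one_ne_zero) (conj_mem' hτ hG.mem) h0
  refine ⟨h1, ((h.deg2 hG (conj_mem' hτ hG.mem)).mul (mem_degS_zero.1 h1)).congr ?_⟩
  rw [sub_mul, smul_mul_assoc, ← pow_one (ρ (τ * s * τ⁻¹) - 1), conj_pow_sub, pow_one]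

end MD

end Cfsg.Agent.Fus.UT
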