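import Mathlib
import Cfsg.Agent.Fus.UniDat

/-!
Invariant polynomial functions and the window lemma.
-/

set_option autoImplicit false

namespace Cfsg.Agent.Fus.UT

open Finset Module Subgroup

universe u v

variable {p : ℕ} [hp : Fact p.Prime] {G : Type u} [Group G]

section Gen

variable {Ω D : Type*} [AddCommGroup Ω] [Module (ZMod p) Ω] [AddCommGroup D] [Module (ZMod p) D]
  {σ : Representation (ZMod p) G Ω} {ρ : Representation (ZMod p) G D}

/-- The stabiliser of a function. -/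
def stab (σ : Representation (ZMod p) G Ω) (w : Ω → ZMod p) : Subgroup G where
  carrier := {g | ∀ ω, w (σ g ω) = w ω}
  one_mem' ω := by simp
  mul_mem' ha hb ω := by rw [map_mul, End.mul_apply, ha, hb]
  inv_mem' {g} h ω := by rw [← h, σ.self_inv_apply]

theorem fn_fix {w : Ω → ZMod p} {g : G} : fn σ g w = w ↔ g ∈ stab σ w :=
  (funext_iff.trans Iff.rfl : _ ↔ g⁻¹ ∈ stab σ w).trans inv_mem_iff

/-- Semi-invariance. -/
def Semi (σ : Representation (ZMod p) G Ω) (g : G) (c : ZMod p) (w : Ω → ZMod p) : Prop :=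
  ∀ ω, w (σ g ω) = c * w ω

theorem Semi.mul {g : G} {c c' : ZMod p} {w w' : Ω → ZMod p} (h : Semi σ g c w)
    (h' : Semi σ g c' w') : Semi σ g (c * c') (w * w') := fun ω => by
  rw [Pi.mul_apply, Pi.mul_apply, h, h', mul_mul_mul_comm]

theorem Semi.pow {g : G} {c : ZMod p} {w : Ω → ZMod p} (h : Semi σ g c w) (m : ℕ) :
    Semi σ g (c ^ m) (w ^ m) := fun ω => by rw [Pi.pow_apply, Pi.pow_apply, h, mul_pow]

theorem Semi.mem {g : G} {c : ZMod p} {w : Ω → ZMod p} (h : Semi σ g c w) (hc : c = 1) :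
    g ∈ stab σ w := fun ω => by rw [h, hc, one_mul]

/-- Every invariant subspace is trivial. -/
def IrrS (ρ : Representation (ZMod p) G D) : Prop :=
  ∀ U : Submodule (ZMod p) D, (∀ g, ∀ v ∈ U, ρ g v ∈ U) → U = ⊥ ∨ U = ⊤

theorem IrrS.deep (hi : IrrS ρ) (ι : D →+ Ω) (hι : ∀ g v, σ g (ι v) = ι (ρ g v)) {w : Ω → ZMod p}
    (hw : ∀ g, g ∈ stab σ w) {e : D} (he : e ≠ 0) (h : ∀ ω, w (ω + ι e) = w ω) (v : D) (ω : Ω) :
    w (ω + ι v) = w ω := by
  let R : AddSubgroup D :=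
    { carrier := {v | ∀ ω, w (ω + ι v) = w ω}
      zero_mem' := fun ω => by simp
      add_mem' := fun ha hb ω => by rw [map_add, ← add_assoc, hb, ha]
      neg_mem' := fun {a} ha ω => by rw [← ha, map_neg, neg_add_cancel_right] }
  rcases hi (AddSubgroup.toZModSubmodule p R) (fun g v hv ω => by
    rw [← hι, ← σ.self_inv_apply g ω, ← map_add, hw, hv, hw g]) with e' | e'
  · have h' : e ∈ AddSubgroup.toZModSubmodule p R := h
    exact (he ((Submodule.mem_bot (ZMod p)).1 (e' ▸ h'))).elim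
  · exact (e' ▸ trivial : v ∈ AddSubgroup.toZModSubmodule p R) ω

theorem IrrS.dual [Module.Finite (ZMod p) D] (hi : IrrS ρ) : IrrS ρ.dual := fun U hU => by
  rw [← Subspace.dualCoannihilator_dualAnnihilator_eq (W := U)]
  rcases hi U.dualCoannihilator (fun g v hv => (Submodule.mem_dualCoannihilator _).2 fun f hf => by
    simpa [Dual.transpose_apply] using (Submodule.mem_dualCoannihilator _).1 hv _ (hU g⁻¹ f hf))
    with e | e <;> simp [e]

theorem prod_mem_pol {ι : Type*} (s : Finset ι) (f : ι → Dual (ZMod p) Ω) :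
    ∏ i ∈ s, ⇑(f i) ∈ pol (ZMod p) Ω s.card := by
  classical
  induction s using Finset.induction_on with
  | empty => exact Submodule.one_le.1 le_rfl
  | insert a s ha ih =>
    rw [prod_insert ha, card_insert_of_notMem ha, add_comm]
    exact mul_mem_pol (coe_mem_pol _) ih

/-- The diagonal representation on tuples. -/
def piRep (ρ : Representation (ZMod p) G D) (ι : Type) : Representation (ZMod p) G (ι → D) where
  toFun g := (ρ g).compLeft ι
  map_one' := by ext; simp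
  map_mul' _ _ := by ext; simp

theorem IrrS.det [Module.Finite (ZMod p) D] (hi : IrrS ρ) {U : Submodule (ZMod p) D} (h0 : U ≠ ⊥)
    (h1 : U ≠ ⊤) {H : Subgroup G} (hU : ∀ g ∈ H, ∀ v ∈ U, ρ g v ∈ U) {f : ℕ} (hf : 0 < f)
    (hχ : ∀ (χ : H →* ZMod p) g, χ g ^ f = 1) {u : ℕ} (hu : finrank (ZMod p) (D ⧸ U) = u)
    (hT : ∀ w ∈ pol (ZMod p) (Fin u → D) (u * f),
      H ≤ stab (piRep ρ _) w → ∀ g, g ∈ stab (piRep ρ _) w) : False := by
  classical
  have : Nontrivial (D ⧸ U) := Submodule.Quotient.nontrivial_iff.2 h1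
  let b := finBasisOfFinrankEq (ZMod p) (D ⧸ U) hu
  have hpos : 0 < u := hu ▸ finrank_pos
  let ρ' := Representation.quotient (ρ.comp H.subtype) U fun g v hv => hU g g.2 v hv
  let w : (Fin u → D) → ZMod p := fun ω => b.det (U.mkQ ∘ ω)
  have hw : w ∈ pol (ZMod p) (Fin u → D) u := by
    have e : w = ∑ π : Equiv.Perm (Fin u), ((Equiv.Perm.sign π : ℤ) : ZMod p) •
        ∏ i, ⇑((b.coord (π i)).comp (U.mkQ.comp (LinearMap.proj i))) := by
      ext ω
      simp [w, Basis.det_apply, Matrix.det_apply', Basis.toMatrix_apply]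
    rw [e]
    refine Submodule.sum_mem _ fun π _ => Submodule.smul_mem _ _ ?_
    simpa using prod_mem_pol univ fun i => (b.coord (π i)).comp (U.mkQ.comp (LinearMap.proj i))
  have hinv := hT _ (pow_mem_pol hw f) fun g hg => Semi.mem (Semi.pow (c := LinearMap.det (ρ' ⟨g, hg⟩))
    (fun ω => b.det_comp (ρ' ⟨g, hg⟩) (U.mkQ ∘ ω)) f) (hχ (LinearMap.det.comp ρ') ⟨g, hg⟩)
  obtain ⟨e, heU, he⟩ := U.exists_mem_ne_zero_of_ne_bot h0
  choose ω hω using fun i => U.mkQ_surjective (b i)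
  have := hi.deep (σ := piRep ρ (Fin u)) (LinearMap.single (ZMod p) (fun _ => D) ⟨0, hpos⟩).toAddMonoidHom
    (fun g v => funext fun i => Pi.apply_single (fun _ => ρ g) (fun _ => map_zero _) _ _ _) hinv he
    (fun ω => ?_) (-ω ⟨0, hpos⟩) ω
  · simp only [Pi.pow_apply, w] at this
    rw [show U.mkQ ∘ ω = b from funext hω, b.det_self, one_pow,
      b.det.map_coord_zero ⟨0, hpos⟩ (by simp), zero_pow hf.ne'] at this
    exact zero_ne_one this
  · simp only [Pi.pow_apply, w]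
    congr 2
    ext i
    by_cases hi : i = ⟨0, hpos⟩
    · subst hi; simpa using heU
    · simp [hi]

theorem quad_inv {d : G} (h : (ρ d - 1) ^ 2 = 0) : (ρ d⁻¹ - 1) ^ 2 = 0 := by
  have e : ρ d⁻¹ - 1 = -ρ d⁻¹ * (ρ d - 1) := by
    rw [neg_mul, mul_sub, ← map_mul, inv_mul_cancel, map_one, mul_one, neg_sub]
  have hc : Commute (-ρ d⁻¹) (ρ d - 1) :=
    (((Commute.refl d).inv_left.map ρ).sub_right (Commute.one_right _)).neg_left
  rw [e, hc.mul_pow, h, mul_zero]

theorem quad_apply {d : G} (h : (ρ d - 1) ^ 2 = 0) (x : D) : ρ d (ρ d x - x) = ρ d x - x :=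
  sub_eq_zero.1 (by simpa [pow_two] using LinearMap.congr_fun h x)

theorem quad_dual {d : G} (h : (ρ d - 1) ^ 2 = 0) (x : Dual (ZMod p) D) :
    ρ.dual d (ρ.dual d x - x) = ρ.dual d x - x := LinearMap.ext fun v => by
  have := congrArg x (quad_apply (quad_inv h) v)
  simpa [Dual.transpose_apply] using this

end Gen

variable {V : Type v} [AddCommGroup V] [Module (ZMod p) V] {ρ : Representation (ZMod p) G V}

/-- The module carrying the functions. -/
abbrev Om (p : ℕ) (V : Type v) [AddCommGroup V] [Module (ZMod p) V] : Type v :=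
  V × V × Dual (ZMod p) V

/-- The representation on `V × V × V*`. -/
noncomputable def om (ρ : Representation (ZMod p) G V) : Representation (ZMod p) G (Om p V) :=
  ρ.prod (ρ.prod ρ.dual)

theorem om_apply (g : G) (ω : Om p V) : om ρ g ω = (ρ g ω.1, ρ g ω.2.1, ω.2.2.comp (ρ g⁻¹)) := rfl

/-- The filtration of `V × V × V*`. -/
def omC (X : End (ZMod p) V) (n j : ℕ) : Submodule (ZMod p) (Om p V) :=
  (LinearMap.ker (X ^ j)).prod ((LinearMap.ker (X ^ j)).prod
    (LinearMap.ker (X ^ (n - j))).dualAnnihilator)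

theorem omC_zero {X : End (ZMod p) V} {n : ℕ} (h : X ^ n = 0) : omC X n 0 = ⊥ := by
  simp [omC, h, End.one_eq_id]

theorem omC_top {X : End (ZMod p) V} {n : ℕ} (h : X ^ n = 0) (j : ℕ) (hj : n - 1 < j) :
    omC X n j = ⊤ := by
  simp [omC, pow_eq_zero_of_le (show n ≤ j by omega) h, show n - j = 0 by omega, End.one_eq_id]

theorem om_deg [Finite G] {X : End (ZMod p) V} {δ : ℕ} {u : G} (hu : u ∈ degS ρ X δ) (n j : ℕ) :
    ∀ x ∈ omC X n (j + δ), om ρ u⁻¹ x - x ∈ omC X n j := by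
  rintro x ⟨h1, h2, h3⟩
  refine ⟨inv_mem hu j _ h1, inv_mem hu j _ h2, (Submodule.mem_dualAnnihilator _).2 fun v hv => ?_⟩
  have := (Submodule.mem_dualAnnihilator _).1 h3 _ (Deg.apply hu (c := n - (j + δ)) (by omega) hv)
  simpa [om_apply] using this

theorem fn_om_dep [Finite G] {X : End (ZMod p) V} {δ : ℕ} {u : G} (hu : u ∈ degS ρ X δ) {n r t : ℕ}
    {w : Om p V → ZMod p} (hw : w ∈ dep (omC X n) r t) (m : ℕ) :
    ((fn (om ρ) u - 1) ^ m) w ∈ dep (omC X n) r (t + m * δ) :=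
  fn_pow_mem_dep (fun j x hx => by
    simpa using add_mem (om_deg (δ := 0) (Deg.mono hu δ.zero_le) n j x hx) hx) (om_deg hu n) hw m

theorem IrrS.deep1 (hi : IrrS ρ) {w : Om p V → ZMod p} (hw : ∀ g, g ∈ stab (om ρ) w) {e : V}
    (he : e ≠ 0) (h : ∀ ω : Om p V, w (ω.1 + e, ω.2) = w ω) (h0 : ∀ ω, w (0, ω) = 0) (ω : Om p V) :
    w ω = 0 := by
  have := hi.deep (σ := om ρ) (AddMonoidHom.inl _ _) (fun g v => by simp [om_apply]) hw he
    (fun ω => by rw [← h ω]; congr 1; ext <;> simp) ω.1 (0, ω.2)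
  simpa [h0] using this

/-- `λ (Y v)`. -/
def fA (Y : End (ZMod p) V) (ω : Om p V) : ZMod p := ω.2.2 (Y ω.1)

/-- `λ (Y v')`. -/
def fB (Y : End (ZMod p) V) (ω : Om p V) : ZMod p := ω.2.2 (Y ω.2.1)

/-- `f v`. -/
def fF (f : Dual (ZMod p) V) (ω : Om p V) : ZMod p := f ω.1

/-- `f v'`. -/
def fG (f : Dual (ZMod p) V) (ω : Om p V) : ZMod p := f ω.2.1

/-- `λ e`. -/
def fE (e : V) (ω : Om p V) : ZMod p := ω.2.2 e

theorem fF_mem (f : Dual (ZMod p) V) : fF f ∈ pol (ZMod p) (Om p V) 1 :=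
  coe_mem_pol (Ω := Om p V) (f.comp (LinearMap.fst _ _ _))

theorem fG_mem (f : Dual (ZMod p) V) : fG f ∈ pol (ZMod p) (Om p V) 1 :=
  coe_mem_pol (Ω := Om p V) (f.comp ((LinearMap.fst _ _ _).comp (LinearMap.snd _ _ _)))

theorem fE_mem (e : V) : fE e ∈ pol (ZMod p) (Om p V) 1 :=
  coe_mem_pol (Ω := Om p V)
    ((Dual.eval _ _ e).comp ((LinearMap.snd _ _ _).comp (LinearMap.snd _ _ _)))

theorem fA_mem [Module.Finite (ZMod p) V] (Y : End (ZMod p) V) : fA Y ∈ pol (ZMod p) (Om p V) 2 := by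
  let b := finBasis (ZMod p) V
  have e : fA Y = ∑ i, fF ((b.coord i).comp Y) * fE (b i) := by
    ext ω
    rw [fA, ← b.sum_repr (Y ω.1), map_sum]
    simp [fF, fE]
  rw [e]
  exact Submodule.sum_mem _ fun i _ => mul_mem_pol (fF_mem _) (fE_mem _)

theorem fB_mem [Module.Finite (ZMod p) V] (Y : End (ZMod p) V) : fB Y ∈ pol (ZMod p) (Om p V) 2 := by
  let b := finBasis (ZMod p) V
  have e : fB Y = ∑ i, fG ((b.coord i).comp Y) * fE (b i) := by
    ext ω
    rw [fB, ← b.sum_repr (Y ω.2.1), map_sum]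
    simp [fG, fE]
  rw [e]
  exact Submodule.sum_mem _ fun i _ => mul_mem_pol (fG_mem _) (fE_mem _)

theorem semi_E {g : G} {c : ZMod p} {e : V} (h : ρ g e = c • e) : Semi (om ρ) g⁻¹ c (fE e) :=
  fun ω => by simp [fE, om_apply, h]

theorem semi_A {g : G} {c : ZMod p} {Y : End (ZMod p) V} (h : ρ g * Y = c • (Y * ρ g)) :
    Semi (om ρ) g⁻¹ c (fA Y) ∧ Semi (om ρ) g⁻¹ c (fB Y) := by
  have : ∀ v, ρ g (Y (ρ g⁻¹ v)) = c • Y v := fun v => by
    simpa using LinearMap.congr_fun h (ρ g⁻¹ v)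
  exact ⟨fun ω => by simp [fA, om_apply, this], fun ω => by simp [fB, om_apply, this]⟩

theorem semi_F {g : G} {μ : ZMod p} {Y : End (ZMod p) V} (h : Y * ρ g = μ • Y) (h0 : μ ≠ 0)
    (f : Dual (ZMod p) V) : Semi (om ρ) g⁻¹ μ⁻¹ (fF (f.comp Y)) := fun ω => by
  have := congrArg f (LinearMap.congr_fun h (ρ g⁻¹ ω.1))
  simp only [End.mul_apply, Representation.self_inv_apply, LinearMap.smul_apply, map_smul,
    smul_eq_mul] at this
  simp [fF, om_apply, this, h0]

end Cfsg.Agent.Fus.UT
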