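import Mathlib
import Cfsg.Agent.Fus.UniW

/-!
The window lemma and its consequences for irreducible sections when `P₁` is normal.
-/

set_option autoImplicit false

namespace Cfsg.Agent.Fus.UT

open Finset Module Subgroup

universe u v

variable {p : ℕ} [hp : Fact p.Prime] {G : Type u} [Group G] [Finite G]
  {V : Type v} [AddCommGroup V] [Module (ZMod p) V] {ρ : Representation (ZMod p) G V}
  {P P₁ : Subgroup G} {φ : G → ZMod p} {s τ : G} {n e : ℕ} {v₀ : V}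

/-- `τ` generates `N(P)` modulo `P`. -/
structure Tau (P : Subgroup G) (φ : G → ZMod p) (s τ : G) (e : ℕ) : Prop where
  mem : τ ∈ normalizer (P : Set G)
  prim : IsPrimitiveRoot (φ (τ * s * τ⁻¹)) e
  dvd : e ∣ p - 1
  pos : 0 < e
  pow : τ ^ e ∈ P
  map : ∀ i, φ (τ ^ i * s * (τ ^ i)⁻¹) = φ (τ * s * τ⁻¹) ^ i
  dec : ∀ g ∈ normalizer (P : Set G), ∃ i, ∃ y ∈ P, g = τ ^ i * y

/-- Elements normalising `P` and centralising `P / P₁` lie in `P`. -/
def HT (P : Subgroup G) (φ : G → ZMod p) (s : G) : Prop :=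
  ∀ g ∈ normalizer (P : Set G), φ (g * s * g⁻¹) = 1 → g ∈ P

omit [Finite G] in
theorem GD.tau (h : GD P P₁ φ s) (hN : normalizer (P : Set G) ≤ normalizer (P₁ : Set G))
    (hT : HT P φ s) : ∃ τ e, Tau P φ s τ e := by
  obtain ⟨τ, h1, e, h2, h3, h4, h5, h6, h7⟩ := h.exists_tau hN hT
  exact ⟨τ, e, h1, h2, h3, h4, h5, h6, h7⟩

theorem HT.restrict (h : HT P φ s) {Y : Subgroup G} (hY : P ≤ Y) (hs : s ∈ Y) :
    HT (P.subgroupOf Y) (fun y => φ y) ⟨s, hs⟩ := fun g hg e =>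
  h g (mem_norm' fun x hx => conj_mem' hg (x := ⟨x, hY hx⟩) hx) e

omit [Finite G] in
theorem Tau.ne (t : Tau P φ s τ e) : φ (τ * s * τ⁻¹) ≠ 0 := t.prim.ne_zero t.pos.ne'

omit [Finite G] in
theorem Tau.lt (t : Tau P φ s τ e) : e ≤ p - 1 :=
  Nat.le_of_dvd (by have := hp.out.two_le; omega) t.dvd

omit [Finite G] in
theorem Tau.le (t : Tau P φ s τ e) {H : Subgroup G} (h1 : P ≤ H) (h2 : τ ∈ H) :
    normalizer (P : Set G) ≤ H := fun g hg => by
  obtain ⟨i, y, hy, rfl⟩ := t.dec g hg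
  exact H.mul_mem (H.pow_mem h2 i) (h1 hy)

namespace MD

variable (h : MD ρ P₁ s n v₀)
include h

theorem top_one {g : G} (hg : g ∈ degS ρ (ρ s - 1) 1) :
    (ρ s - 1) ^ (n - 1) * ρ g = (1 : ZMod p) • (ρ s - 1) ^ (n - 1) := by
  have := h.reg.eq_zero ((Deg.xpow (n - 1)).mul hg) (by omega)
  rw [one_smul]
  rwa [mul_sub, mul_one, sub_eq_zero] at this

omit [Finite G] in
theorem bot_zero {f : End (ZMod p) V} {δ : ℕ} (hf : Deg (ρ s - 1) δ f) (hδ : 0 < δ) :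
    f (((ρ s - 1) ^ (n - 1)) v₀) = 0 :=
  hf.apply (c := 0) (d := 1) (by omega) (by rw [pow_pow_apply]; exact h.reg.nil' (by omega) _)

theorem bot_one {g : G} (hg : g ∈ degS ρ (ρ s - 1) 1) :
    ρ g (((ρ s - 1) ^ (n - 1)) v₀) = (1 : ZMod p) • ((ρ s - 1) ^ (n - 1)) v₀ := by
  rw [one_smul, ← sub_eq_zero]; exact h.bot_zero hg one_pos

theorem not_fix (hi : Irr ρ s n) (hn : 2 ≤ n)
    (hw : ∀ g, g ∈ stab (om ρ) (fE (((ρ s - 1) ^ (n - 1)) v₀))) : False := by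
  refine hi 1 one_pos hn fun g v hv => ?_
  obtain ⟨c, rfl⟩ := h.reg.one v _ hv (h.bot_zero Deg.x one_pos) h.reg.ne
  have : ρ g (((ρ s - 1) ^ (n - 1)) v₀) = ((ρ s - 1) ^ (n - 1)) v₀ := by
    rw [← sub_eq_zero, ← forall_dual_apply_eq_zero_iff (ZMod p)]
    intro f
    simpa [fE, om_apply, sub_eq_zero] using hw g⁻¹ (0, 0, f)
  rwa [map_smul, this]

variable (hG : GD P P₁ φ s)
include hG

theorem exists_mu (t : Tau P φ s τ e) :
    ∃ μ : ZMod p, (ρ s - 1) ^ (n - 1) * ρ τ = μ • (ρ s - 1) ^ (n - 1) ∧ μ ^ e = 1 ∧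
      ρ τ (((ρ s - 1) ^ (n - 1)) v₀) =
        (φ (τ * s * τ⁻¹) ^ (n - 1) * μ) • ((ρ s - 1) ^ (n - 1)) v₀ := by
  obtain ⟨h1, h2⟩ := h.tau hG t.mem t.ne
  obtain ⟨μ, hμ⟩ := h.reg.exists_top (mem_degS_zero.1 h1)
  have hn := h.reg.pos
  refine ⟨μ, hμ, ?_, h.reg.scal h2 hμ (c := 0) (by omega) (h.bot_zero (Deg.xpow 1) one_pos)⟩
  have : ∀ i, (ρ s - 1) ^ (n - 1) * ρ (τ ^ i) = μ ^ i • (ρ s - 1) ^ (n - 1) := fun i => by
    induction i with
    | zero => simp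
    | succ i ih => rw [pow_succ, map_mul, ← mul_assoc, ih, smul_mul_assoc, hμ, pow_succ, mul_smul]
  have e1 := LinearMap.congr_fun ((this e).symm.trans (h.top_one (h.le_degS hG t.pow))) v₀
  exact smul_left_injective _ h.reg.ne e1

omit [Finite G] in
theorem exists_Y (hc : ∀ y ∈ P, Commute (ρ y) (ρ s - 1)) (t : Tau P φ s τ e) :
    ∃ Y : End (ZMod p) V, Commute Y (ρ s - 1) ∧ ρ τ * Y = φ (τ * s * τ⁻¹) • (Y * ρ τ) ∧
      Deg (ρ s - 1) 2 (Y - (e : ZMod p) • (ρ s - 1)) := by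
  set a := φ (τ * s * τ⁻¹)
  have ha : a ≠ 0 := t.ne
  have hm : ∀ i, τ ^ i * s * (τ ^ i)⁻¹ ∈ P := fun i => conj_mem' (pow_mem t.mem i) hG.mem
  let F : ℕ → End (ZMod p) V := fun i => (a ^ i)⁻¹ • (ρ (τ ^ i * s * (τ ^ i)⁻¹) - 1)
  refine ⟨∑ i ∈ range e, F i, Commute.sum_left _ _ _ fun i _ =>
    ((hc _ (hm i)).sub_left (Commute.one_left _)).smul_left _, ?_, ?_⟩
  · have e1 : ∀ i, ρ τ * F i = a • (F (i + 1) * ρ τ) := fun i => by
      have := conj_pow_sub (ρ := ρ) τ (τ ^ i * s * (τ ^ i)⁻¹) 1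
      rw [pow_one, pow_one, show τ * (τ ^ i * s * (τ ^ i)⁻¹) * τ⁻¹ = τ ^ (i + 1) * s * (τ ^ (i + 1))⁻¹ by
        rw [pow_succ']; group] at this
      simp only [F, mul_smul_comm, smul_mul_assoc, this, smul_smul]
      congr 1
      field_simp
      ring
    have e2 : F e = F 0 := by
      have := conj_pow_sub (ρ := ρ) (τ ^ e) s 1
      rw [pow_one, pow_one, (hc _ t.pow).eq] at this
      have h2 := congrArg (· * ρ (τ ^ e)⁻¹) this
      simp only [mul_assoc, ← map_mul, mul_inv_cancel, map_one, mul_one] at h2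
      have h3 : a ^ e = 1 := t.prim.pow_eq_one
      simp only [F, h3, pow_zero, one_mul, inv_one, mul_one, mul_assoc, h2]
    have e3 : ∑ i ∈ range e, F (i + 1) = ∑ i ∈ range e, F i :=
      add_right_cancel ((sum_range_succ' F e).symm.trans ((sum_range_succ F e).trans (by rw [e2])))
    rw [mul_sum, sum_congr rfl fun i _ => e1 i, ← smul_sum, ← sum_mul, e3]
  · refine (Deg.sum (s := range e) fun i _ => (h.deg2 hG (hm i)).smul (a ^ i)⁻¹).congr ?_
    have h3 : ∀ i, (a ^ i)⁻¹ • (ρ (τ ^ i * s * (τ ^ i)⁻¹) - 1 - φ (τ ^ i * s * (τ ^ i)⁻¹) • (ρ s - 1)) =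
        F i - (ρ s - 1) := fun i => by
      rw [smul_sub, t.map, smul_smul, inv_mul_cancel₀ (pow_ne_zero i ha), one_smul]
    rw [sum_congr rfl fun i _ => h3 i, sum_sub_distrib, sum_const, card_range,
      Nat.cast_smul_eq_nsmul]

theorem window (hi : Irr ρ s n) (hn : 2 ≤ n) (hc : ∀ y ∈ P, Commute (ρ y) (ρ s - 1))
    (t : Tau P φ s τ e) {B : ℕ}
    (hT : ∀ r, r * (n - 1) < B → ∀ w ∈ pol (ZMod p) (Om p V) r, P ≤ stab (om ρ) w →
      τ ∈ stab (om ρ) w → ∀ g, g ∈ stab (om ρ) w) (h1 : 3 * e ≤ B) (h2 : 2 * (n - 1) < B) :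
    False := by
  have := h.reg.finite
  have his : IrrS ρ := fun U => h.irr_sub hi
  obtain ⟨μ, m1, m2, m3⟩ := h.exists_mu hG t
  obtain ⟨Y, y1, y2, y3⟩ := h.exists_Y hG hc t
  obtain ⟨f, hf⟩ := Projective.exists_dual_eq_one (ZMod p) h.reg.ne
  set a := φ (τ * s * τ⁻¹)
  set X := ρ s - 1 with hX
  have hne : (X ^ (n - 1)) v₀ ≠ 0 := h.reg.ne
  have hb0 : (X ^ (n - 1)) ((X ^ (n - 1)) v₀) = 0 := h.bot_zero (Deg.xpow _) (by omega)
  have he0 := t.pos
  have he : (e : ZMod p) ≠ 0 := by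
    rw [Ne, ZMod.natCast_eq_zero_iff]
    exact fun hd => absurd (Nat.le_of_dvd he0 hd) (by have := t.lt; have := hp.out.pos; omega)
  have yP : ∀ c, ∀ y ∈ P, ρ y * Y ^ c = (1 : ZMod p) • (Y ^ c * ρ y) := fun c y hy => by
    rw [one_smul]; exact ((h.reg.commute (hc y hy) y1).pow_right c).eq
  have yτ : ∀ c, ρ τ * Y ^ c = a ^ c • (Y ^ c * ρ τ) := fun c => by
    induction c with
    | zero => simp
    | succ c ih => rw [pow_succ, ← mul_assoc, ih, smul_mul_assoc, mul_assoc, y2, mul_smul_comm,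
        smul_smul, ← pow_succ, mul_assoc]
  have yl := fun c => Deg.pow_lead (X := X) (j := 1) (f := Y) (by rw [pow_one]; exact y3) c
  have yw : ∀ c ≤ n - 1, f ((Y ^ c) ((X ^ (n - 1 - c)) v₀)) ≠ 0 := fun c hc => by
    have := yl c 0 ((X ^ (n - 1 - c)) v₀) (by rw [pow_pow_apply]; exact h.reg.nil' (by omega) _)
    rw [pow_zero, End.one_apply, LinearMap.sub_apply, sub_eq_zero, LinearMap.smul_apply,
      pow_pow_apply, show c * 1 + (n - 1 - c) = n - 1 by omega] at this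
    rw [this, map_smul, hf, smul_eq_mul, mul_one]
    exact pow_ne_zero _ he
  have yb : ∀ c, 0 < c → (Y ^ c) ((X ^ (n - 1)) v₀) = 0 := fun c hc => by
    refine h.bot_zero (δ := c) ?_ hc
    simpa using (((y3.mono one_le_two).add (Deg.x.smul _)).congr (sub_add_cancel _ _)).pow c
  have hd : 0 < n - 1 := by omega
  have d1 := Nat.div_add_mod (e - 1) (n - 1)
  have d2 := Nat.mod_lt (e - 1) hd
  generalize (e - 1) / (n - 1) = m at d1
  generalize (e - 1) % (n - 1) = c at d1 d2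
  by_cases hB : (2 + 2 * m) * (n - 1) < B
  · have hw := hT _ hB _ (mul_mem_pol (fA_mem (Y ^ (c + 1))) (pow_mem_pol (fB_mem (Y ^ (n - 1))) m))
      (fun y hy => inv_mem_iff.1 (((semi_A (yP _ y hy)).1.mul ((semi_A (yP _ y hy)).2.pow m)).mem
        (by simp)))
      (inv_mem_iff.1 (((semi_A (yτ _)).1.mul ((semi_A (yτ _)).2.pow m)).mem
        (by rw [← pow_mul, ← pow_add, show c + 1 + (n - 1) * m = e by omega, t.prim.pow_eq_one])))
    refine mul_ne_zero (yw (c + 1) d2) (pow_ne_zero m (yw (n - 1) le_rfl))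
      (his.deep1 hw hne (fun ω => ?_) (fun ω => ?_) (_, _, f))
    · simp [fA, fB, yb]
    · simp [fA]
  have hm : m = 1 := by
    rcases m with _ | _ | m
    · omega
    · rfl
    · have : (n - 1) * (m + 1 + 1) + c + 1 = e := by omega
      exfalso
      generalize n - 1 = d at *
      nlinarith [Nat.zero_le (m * d)]
  subst hm
  have := NeZero.of_pos he0
  obtain ⟨j, hj, rfl⟩ := t.prim.eq_pow_of_pow_eq_one m2
  have ha : a ^ j ≠ 0 := pow_ne_zero _ t.ne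
  by_cases hjn : j ≤ n - 1
  · have hw := hT 3 (by omega) _ (mul_mem_pol (fF_mem (f.comp (X ^ (n - 1)))) (fB_mem (Y ^ j)))
      (fun y hy => inv_mem_iff.1 (((semi_F (h.top_one (h.le_degS hG hy)) one_ne_zero f).mul
        (semi_A (yP _ y hy)).2).mem (by simp)))
      (inv_mem_iff.1 (((semi_F m1 ha f).mul (semi_A (yτ _)).2).mem (inv_mul_cancel₀ ha)))
    refine mul_ne_zero (hf ▸ one_ne_zero : f ((X ^ (n - 1)) v₀) ≠ 0) (yw j hjn)
      (his.deep1 hw hne (fun ω => ?_) (fun ω => ?_) (_, _, f))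
    · simp [fF, fB, hb0]
    · simp [fF]
  obtain ⟨c, hc1, hc2⟩ : ∃ c ≤ n - 1, a ^ (n - 1) * a ^ j * a ^ c = 1 := by
    by_cases hle : n - 1 + j ≤ e
    · exact ⟨e - (n - 1 + j), by omega, by
        rw [← pow_add, ← pow_add, Nat.add_sub_cancel' hle, t.prim.pow_eq_one]⟩
    · exact ⟨e * 2 - (n - 1 + j), by omega, by
        rw [← pow_add, ← pow_add, Nat.add_sub_cancel' (by omega), pow_mul, t.prim.pow_eq_one,
          one_pow]⟩
  rcases Nat.eq_zero_or_pos c with rfl | hc0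
  · exact h.not_fix hi hn (hT 1 (by omega) _ (fE_mem _)
      (fun y hy => inv_mem_iff.1 ((semi_E (h.bot_one (h.le_degS hG hy))).mem rfl))
      (inv_mem_iff.1 ((semi_E m3).mem (by simpa using hc2))))
  · have hw := hT 3 (by omega) _ (mul_mem_pol (fE_mem ((X ^ (n - 1)) v₀)) (fA_mem (Y ^ c)))
      (fun y hy => inv_mem_iff.1 (((semi_E (h.bot_one (h.le_degS hG hy))).mul
        (semi_A (yP _ y hy)).1).mem (by simp)))
      (inv_mem_iff.1 (((semi_E m3).mul (semi_A (yτ _)).1).mem hc2))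
    refine mul_ne_zero (hf ▸ one_ne_zero : f ((X ^ (n - 1)) v₀) ≠ 0) (yw c hc1)
      (his.deep1 hw hne (fun ω => ?_) (fun ω => ?_) (_, 0, f))
    · simp [fE, fA, yb c hc0]
    · simp [fA]

/-- Second level trace: `N(P)` is strongly embedded modulo the normal subgroup `P₁`. -/
theorem trace_snd (hn : ∀ g, g ∈ normalizer (P₁ : Set G)) {r : ℕ} (hr : r * (n - 1) < p - 1)
    {w : Om p V → ZMod p} (hw : w ∈ pol (ZMod p) (Om p V) r)
    (hN : normalizer (P : Set G) ≤ stab (om ρ) w) (g : G) : g ∈ stab (om ρ) w := by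
  refine fn_fix.1 (fixed_one (R := P) le_normalizer (fun g _ => fn_mem_pol _ g) hw
    (fun x hx => fn_fix.2 (hN hx)) (fun x hx => ⟨P₁, s, hG.step, fun b hb hb' => ?_, fun m hm => ?_⟩) g)
  · refine (hG.mem1 b).2 ⟨hb, not_not.1 fun h0 => hx (inv_mem_iff.1 (mem_norm' fun y hy => ?_))⟩
    obtain ⟨m, hm⟩ := hG.pow_eq hb
    have h1 : x⁻¹ * b * x⁻¹⁻¹ ∈ P := hG.mem_of_pow (m := m) (by rwa [inv_inv])
      (by rw [conj_pow, hm]; group)
    obtain ⟨u, hu, e⟩ := hG.dec hb h0 hy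
    rw [e, ← conj_mul, ← conj_pow]
    exact P.mul_mem (P.pow_mem h1 _) (hG.le (conj_mem' (hn _) hu))
  · have := fn_om_dep (h.le_degS hG hG.mem) (pol_le_dep (omC_zero h.reg.nil) r hm) (p - 1)
    rwa [dep_eq_bot (omC_top h.reg.nil) _ _ (by omega)] at this

theorem two_fst (hT : HT P φ s) (hP : ∀ g, g ∈ normalizer (P₁ : Set G)) (hi : Irr ρ s n)
    (hn : 2 ≤ n) (h1 : ∀ g ∈ normalizer (P : Set G), φ (g * s * g⁻¹) = 1) : False := by
  obtain ⟨f, hf⟩ := Projective.exists_dual_eq_one (ZMod p) h.reg.ne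
  have hw := h.trace_snd hG hP (r := 1) (by have := h.lt; omega) (fF_mem (f.comp ((ρ s - 1) ^ (n - 1))))
    fun y hy => inv_mem_iff.1 ((semi_F (h.top_one (h.le_degS hG (hT y hy (h1 y hy)))) one_ne_zero
      f).mem inv_one)
  refine (hf ▸ one_ne_zero : f _ ≠ 0) (IrrS.deep1 (fun U => h.irr_sub hi) hw h.reg.ne (fun ω => ?_)
    (fun ω => ?_) (v₀, 0, f))
  · simp [fF, h.bot_zero (Deg.xpow _) (show 0 < n - 1 by omega)]
  · simp [fF]

theorem two_snd (hT : HT P φ s) (hP : ∀ g, g ∈ normalizer (P₁ : Set G)) (hi : Irr ρ s n)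
    (hn : 2 ≤ n) {κ : ℕ} (h0 : 0 < κ) (hκ : 2 * κ < p - 1)
    (h1 : ∀ g ∈ normalizer (P : Set G), φ (g * s * g⁻¹) ^ κ = 1) (h2 : 2 * (n - 1) < p - 1) :
    False := by
  obtain ⟨τ, e, t⟩ := hG.tau (fun g _ => hP g) hT
  refine h.window hG hi hn (fun y hy => ?_) t
    (fun r hr w hw a b => h.trace_snd hG hP hr hw (t.le a b)) ?_ h2
  · obtain ⟨u, hu, e⟩ := hG.dec' hy
    rw [e, map_mul, h.triv hG hi hG.le hP hu, mul_one, map_pow]
    exact ((Commute.refl _).sub_right (Commute.one_right _)).pow_left _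
  · have := Nat.le_of_dvd h0 (t.prim.dvd_of_pow_eq_one _ (h1 τ t.mem))
    obtain ⟨q, hq⟩ := t.dvd
    rcases q with _ | _ | _ | q
    · omega
    · omega
    · omega
    · nlinarith

end MD

end Cfsg.Agent.Fus.UT
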