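import Mathlib
import Cfsg.Agent.Fus.UniWin

/-!
A minimal configuration (irreducible module on which `P₁` acts nontrivially, `N(P₁)` the unique
maximal overgroup of `P`): trace lemmas and the subgroup generated by the conjugates of `P`.
-/

set_option autoImplicit false

namespace Cfsg.Agent.Fus.UT

open Finset Module Subgroup

universe u v

variable {p : ℕ} [hp : Fact p.Prime] {G : Type u} [Group G] [Finite G]
  {V : Type v} [AddCommGroup V] [Module (ZMod p) V] {ρ : Representation (ZMod p) G V}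
  {P P₁ : Subgroup G} {φ : G → ZMod p} {s τ : G} {n e : ℕ} {v₀ : V}

theorem pow_char_eq {A : Type*} [Ring A] [Algebra (ZMod p) A] (y : A) : (y - 1) ^ p = y ^ p - 1 := by
  rw [← geom_sum_mul, geom_eq, ← pow_succ, Nat.sub_add_cancel hp.out.one_le]

theorem comm_degS {X : End (ZMod p) V} {δ ε : ℕ} {a b : G} (ha : a ∈ degS ρ X δ)
    (hb : b ∈ degS ρ X ε) : a * b * a⁻¹ * b⁻¹ ∈ degS ρ X (δ + ε) := by
  have h1 := (Deg.mul ha hb).sub ((Deg.mul hb ha).mono (add_comm δ ε).le)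
  refine ((h1.mul (Deg.of_sub_one (inv_mem ha))).mul (Deg.of_sub_one (inv_mem hb))).congr ?_
  rw [show (ρ a - 1) * (ρ b - 1) - (ρ b - 1) * (ρ a - 1) = ρ a * ρ b - ρ b * ρ a by noncomm_ring]
  simp only [sub_mul, ← map_mul]
  simp

theorem exists_prev (I : ℕ → Prop) (h0 : I 0) {b : ℕ} (hb : 0 < b) :
    ∃ a < b, I a ∧ ∀ c, a < c → c < b → ¬ I c := by
  classical
  exact ⟨Nat.findGreatest I (b - 1), lt_of_le_of_lt (Nat.findGreatest_le _) (by omega),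
    Nat.findGreatest_spec (Nat.zero_le _) h0, fun c h1 h2 => Nat.findGreatest_is_greatest h1 (by omega)⟩

theorem exists_next (I : ℕ → Prop) {n a : ℕ} (hn : I n) (ha : a < n) :
    ∃ b, a < b ∧ b ≤ n ∧ I b ∧ ∀ c, a < c → c < b → ¬ I c := by
  classical
  have hex : ∃ b, a < b ∧ I b := ⟨n, ha, hn⟩
  exact ⟨Nat.find hex, (Nat.find_spec hex).1, Nat.find_min' hex ⟨ha, hn⟩, (Nat.find_spec hex).2,
    fun c h1 h2 h3 => Nat.find_min hex h2 ⟨h1, h3⟩⟩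

theorem mem_stabK_zero (X : End (ZMod p) V) (g : G) : g ∈ stabK ρ X 0 := fun v hv => by
  rw [show v = 0 from hv, map_zero, map_zero]

theorem MD.mem_stabK (h : MD ρ P₁ s n v₀) (g : G) : g ∈ stabK ρ (ρ s - 1) n :=
  fun _ _ => h.reg.nil' le_rfl _

theorem MD.pow_eq (h : MD ρ P₁ s n v₀) {g : G} (hg : g ∈ degS ρ (ρ s - 1) 1) : ρ (g ^ p) = 1 := by
  rw [map_pow, ← sub_eq_zero, ← pow_char_eq (p := p)]
  exact h.reg.eq_zero (Deg.pow hg p) (by have := h.lt; omega)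

theorem MD.exists_quad (h : MD ρ P₁ s n v₀) (hG : GD P P₁ φ s)
    (hc : ¬ ∀ y ∈ P, Commute (ρ y) (ρ s - 1)) : ∃ d ∈ P₁, ρ d ≠ 1 ∧ (ρ d - 1) ^ 2 = 0 := by
  classical
  set X := ρ s - 1 with hX
  have hs : Commute (ρ s) X := (Commute.refl _).sub_right (Commute.one_right _)
  have hsd : s ∈ degS ρ X 1 := Deg.x
  have q1 : ∃ δ, ∀ y ∈ P₁, y ∈ degS ρ X (δ + 1) → Commute (ρ y) X := ⟨n, fun y _ hy => by
    rw [sub_eq_zero.1 (h.reg.eq_zero hy n.le_succ)]; exact Commute.one_left _⟩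
  have q2 : ∃ ε, ∀ y ∈ P₁, Commute (ρ y) X → y ∈ degS ρ X (ε + 1) → ρ y = 1 :=
    ⟨n, fun y _ _ hy => sub_eq_zero.1 (h.reg.eq_zero hy n.le_succ)⟩
  have a1 := Nat.find_spec q1
  have a2 := Nat.find_spec q2
  have b1 : 2 ≤ Nat.find q1 := not_lt.1 fun hlt => hc fun y hy => by
    obtain ⟨u, hu, e⟩ := hG.dec' hy
    rw [e, map_mul, map_pow]
    exact (hs.pow_left _).mul_left (a1 u hu ((h.deg u hu).mono (by omega)))
  have := Nat.find_min q1 (m := Nat.find q1 - 1) (by omega)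
  push Not at this
  obtain ⟨y, hy, hyd, hyc⟩ := this
  rw [Nat.sub_add_cancel (by omega)] at hyd
  have hz : y * s * y⁻¹ * s⁻¹ ∈ P₁ := by
    have := P₁.mul_mem hy (hG.conj1 hG.mem (P₁.inv_mem hy))
    simpa only [mul_assoc] using this
  have hzd := comm_degS hyd hsd
  have hzc := a1 _ hz hzd
  have hU : ρ y * X = (X + (ρ (y * s * y⁻¹ * s⁻¹) - 1) * ρ s) * ρ y := by
    have := conj_pow_sub (ρ := ρ) y s 1
    rw [pow_one, pow_one] at this
    rw [← this, sub_mul _ 1 (ρ s), ← map_mul, inv_mul_cancel_right, one_mul, hX]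
    congr 1; abel
  have hz1 : ρ (y * s * y⁻¹ * s⁻¹) ≠ 1 := fun e => hyc (by
    rw [e, sub_self, zero_mul, add_zero] at hU; exact hU)
  have hM := (hzc.sub_left (Commute.one_left X)).mul_left hs
  obtain ⟨δ, d1, d2, c, hc0, d3⟩ := h.reg.exists_lead hM (Deg.mul hzd hsd.of_sub_one) fun e => hz1 (by
    have := congrArg (· * ρ s⁻¹) e
    simp only [mul_assoc _ (ρ s), ← map_mul, mul_inv_cancel, map_one, mul_one, zero_mul] at this
    exact sub_eq_zero.1 this)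
  have b2 : δ ≤ Nat.find q2 := not_lt.1 fun hlt => hz1 (a2 _ hz hzc (by
    have := (((d3.mono δ.le_succ).add ((Deg.xpow δ).smul c)).congr (sub_add_cancel _ _)).mul
      (Deg.of_sub_one (inv_mem hsd))
    rw [mul_assoc _ (ρ s), ← map_mul, mul_inv_cancel, map_one, mul_one] at this
    exact this.mono (by omega)))
  have := Nat.find_min q2 (m := Nat.find q2 - 1) (by omega)
  push Not at this
  obtain ⟨z, hz', hzc', hzd', hz1'⟩ := this
  have hN := hzc'.sub_left (Commute.one_left X)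
  obtain ⟨ε, e1, e2, d, hd0, e3⟩ := h.reg.exists_lead hN hzd' (sub_ne_zero.2 hz1')
  have hε : Deg X ε (ρ z - 1) :=
    ((e3.mono ε.le_succ).add ((Deg.xpow ε).smul d)).congr (sub_add_cancel _ _)
  have hw : y * z * y⁻¹ * z⁻¹ ∈ P₁ :=
    P₁.mul_mem (P₁.mul_mem (P₁.mul_mem hy hz') (P₁.inv_mem hy)) (P₁.inv_mem hz')
  have hwd := comm_degS hyd hzd'
  have hw1 := a2 _ hw (a1 _ hw (Deg.mono hwd (by omega))) (Deg.mono hwd (by omega))
  have hUN : Commute (ρ y) (ρ z) := by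
    have := congrArg (· * ρ (z * y)) hw1
    simp only [← map_mul, one_mul] at this
    rw [show y * z * y⁻¹ * z⁻¹ * (z * y) = y * z by group, map_mul, map_mul] at this
    exact this
  obtain ⟨ε, rfl⟩ : ∃ ε', ε = ε' + 1 := ⟨ε - 1, by omega⟩
  have := h.reg.quad hU (Deg.mono hyd (by omega)) hM hc0 d3 (by omega) hN hd0 e3
    (hUN.sub_right (Commute.one_right _)) (by
      rw [Ne, ZMod.natCast_eq_zero_iff]
      exact fun hd => absurd (Nat.le_of_dvd (by omega) hd) (by have := h.lt; omega))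
  exact ⟨z, hz', hz1', h.reg.eq_zero (hε.pow 2) (by omega)⟩

/-- The subgroup of `N(P₁)` generated by the conjugates of `P`. -/
def H0 (P P₁ : Subgroup G) : Subgroup G :=
  closure {x | ∃ g ∈ normalizer (P₁ : Set G), ∃ y ∈ P, g * y * g⁻¹ = x}

/-- A minimal configuration. -/
structure Core (ρ : Representation (ZMod p) G V) (P P₁ : Subgroup G) (φ : G → ZMod p) (s : G)
    (n : ℕ) (v₀ : V) : Prop where
  md : MD ρ P₁ s n v₀
  gd : GD P P₁ φ s
  ht : HT P φ s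
  irr : Irr ρ s n
  five : 5 ≤ p
  min : ∀ Y : Subgroup G, P ≤ Y → Y ≠ ⊤ → Y ≤ normalizer (P₁ : Set G)
  ne : ∃ t ∈ P₁, ρ t ≠ 1

namespace Core

variable (h : Core ρ P P₁ φ s n v₀)
include h

theorem three : 3 ≤ n := by
  obtain ⟨t, ht, ht'⟩ := h.ne
  exact not_lt.1 fun hn => ht' (sub_eq_zero.1 (h.md.reg.eq_zero (h.md.deg t ht) (by omega)))

theorem norm_le {R : Subgroup G} (h1 : R ≤ P) (h2 : P ≤ normalizer (R : Set G)) {r : G} (hr : r ∈ R)
    (hr' : ρ r ≠ 1) : normalizer (R : Set G) ≤ normalizer (P₁ : Set G) :=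
  h.min _ h2 fun e => hr' (h.md.triv h.gd h.irr h1 (fun _ => e ▸ trivial) hr)

theorem N_le : normalizer (P : Set G) ≤ normalizer (P₁ : Set G) := by
  obtain ⟨t, ht, ht'⟩ := h.ne
  exact h.norm_le le_rfl le_normalizer (h.gd.le ht) ht'

theorem P_le : P ≤ normalizer (P₁ : Set G) := le_normalizer.trans h.N_le

theorem ne_top : normalizer (P₁ : Set G) ≠ ⊤ := fun e => by
  obtain ⟨t, ht, ht'⟩ := h.ne
  exact ht' (h.md.triv h.gd h.irr h.gd.le (fun _ => e ▸ trivial) ht)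

theorem flag_le : degS ρ (ρ s - 1) 0 ≤ normalizer (P₁ : Set G) :=
  h.min _ (fun _ hy => Deg.mono (h.md.le_degS h.gd hy) zero_le_one) fun e =>
    h.irr 1 one_pos (by have := h.three; omega) fun g => mem_degS_zero'.1 (e ▸ trivial) 1

theorem weak {D : Set G} (hD : D ⊆ P) (hc : ∀ d ∈ D, ∀ g, g * d * g⁻¹ ∈ P → g * d * g⁻¹ ∈ D)
    {d : G} (hd : d ∈ D) (hd' : ρ d ≠ 1) {x : G} (hx : x ∉ normalizer (P₁ : Set G)) :
    ¬ closure D ≤ (normalizer (P₁ : Set G)).comap (MulAut.conj x⁻¹).toMonoidHom := fun hle => by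
  have h1 : closure D ≤ P := (closure_le _).2 hD
  have h2 : ∀ g, (∀ d ∈ D, g * d * g⁻¹ ∈ P) → g ∈ normalizer (closure D : Set G) := fun g hg =>
    mem_norm' fun y hy => (closure_le ((closure D).comap (MulAut.conj g).toMonoidHom)).2
      (fun d hd => subset_closure (hc d hd g (hg d hd))) hy
  obtain ⟨g, hg, e⟩ := (h.gd.syl.of_le h.P_le le_top).exists_conj
    ((h.gd.pg.to_le h1).map (MulAut.conj x⁻¹).toMonoidHom) (map_le_iff_le_comap.2 hle)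
  have h3 := h.norm_le h1 (fun y hy => h2 y fun d hd =>
    P.mul_mem (P.mul_mem hy (hD hd)) (P.inv_mem hy)) (subset_closure hd) hd'
    (h2 (g * x⁻¹) fun d hd => by
      simpa [mul_assoc] using e _ (mem_map_of_mem _ (subset_closure hd)))
  exact hx (inv_mem_iff.1 ((mul_mem_cancel_left hg).1 h3))

theorem cond {x b : G} (hx : x ∉ normalizer (P₁ : Set G)) (hb : b ∈ P)
    (hb' : x⁻¹ * b * x ∈ normalizer (P₁ : Set G)) : b ∈ P₁ := by
  refine (h.gd.mem1 b).2 ⟨hb, not_not.1 fun h0 => hx ?_⟩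
  obtain ⟨g, hg, e⟩ := (h.gd.syl.of_le h.P_le le_top).exists_conj
    ((h.gd.pg.to_le (zpowers_le.2 hb)).map (MulAut.conj x⁻¹).toMonoidHom)
    (by rw [MonoidHom.map_zpowers, zpowers_le]; simpa using hb')
  have h1 : g * x⁻¹ * b * (g * x⁻¹)⁻¹ ∈ P := by
    simpa [mul_assoc] using e _ (mem_map_of_mem _ (mem_zpowers b))
  refine inv_mem_iff.1 ((mul_mem_cancel_left hg).1 (h.flag_le (h.md.flag_of_conj h.gd hb h0 h1
    fun e' => h0 ?_)))
  have := h.md.strong h.gd (by have := h.three; omega) (g := (g * x⁻¹)⁻¹)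
    ((h.gd.mem1 _).2 ⟨h1, e'⟩) (by simpa [mul_assoc] using hb)
  exact ((h.gd.mem1 b).1 (by simpa [mul_assoc] using this)).2

theorem traceD {r : ℕ} (hr : r * (n - 1) < 3 * (p - 1)) {w : Om p V → ZMod p}
    (hw : w ∈ pol (ZMod p) (Om p V) r) (hN : normalizer (P₁ : Set G) ≤ stab (om ρ) w) (g : G) :
    g ∈ stab (om ρ) w := by
  refine fn_fix.1 (fixed_two h.P_le h.gd.step (fun g _ => fn_mem_pol _ g) hw
    (fun x hx => fn_fix.2 (hN hx)) (fun x hx => ?_) g)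
  obtain ⟨t, ht, ht'⟩ := h.ne
  have := h.weak (D := P₁) h.gd.le
    (fun d hd g => h.md.strong h.gd (by have := h.three; omega) hd) ht ht' hx
  rw [closure_eq] at this
  obtain ⟨A, h1, h2, h3⟩ := exists_step (h.gd.pg.to_le h.gd.le) this
  obtain ⟨u, hu, hu'⟩ := SetLike.not_le_iff_exists.1 h2
  refine ⟨A, u, h3 u hu hu', fun b hb hb' => h1 ⟨by simpa using hb', h.cond hx hb hb'⟩,
    fun m hm => ?_⟩
  have := fn_om_dep (h.md.le_degS h.gd h.gd.mem) (fn_om_dep (δ := 2) (h.md.deg u hu)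
    (pol_le_dep (omC_zero h.md.reg.nil) r hm) (p - 1)) (p - 1)
  rwa [dep_eq_bot (omC_top h.md.reg.nil) _ _ (by omega)] at this

theorem traceQ (hq : ∃ d ∈ P₁, ρ d ≠ 1 ∧ (ρ d - 1) ^ 2 = 0) {Ω : Type*} [AddCommGroup Ω]
    [Module (ZMod p) Ω] {σ : Representation (ZMod p) G Ω}
    (hσ : ∀ d, (ρ d - 1) ^ 2 = 0 → ∀ x, σ d (σ d x - x) = σ d x - x) {r : ℕ} (hr : r < p - 1)
    {w : Ω → ZMod p} (hw : w ∈ pol (ZMod p) Ω r) (hN : normalizer (P₁ : Set G) ≤ stab σ w) (g : G) :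
    g ∈ stab σ w := by
  let D : Set G := {d | d ∈ P₁ ∧ ρ d ≠ 1 ∧ (ρ d - 1) ^ 2 = 0}
  have hD : closure D ≤ P := (closure_le _).2 fun d hd => h.gd.le hd.1
  refine fn_fix.1 (fixed_one (hD.trans h.P_le) (fun g _ => fn_mem_pol _ g) hw
    (fun x hx => fn_fix.2 (hN hx)) (fun x hx => ?_) g)
  obtain ⟨t, ht, ht'⟩ := hq
  have e : ∀ (g d : G) (c : ℕ), (ρ (g * d * g⁻¹) - 1) ^ c = ρ g * (ρ d - 1) ^ c * ρ g⁻¹ := fun g d c => by
    rw [← conj_pow_sub, mul_assoc _ (ρ g), ← map_mul, mul_inv_cancel, map_one, mul_one]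
  obtain ⟨A, h1, h2, h3⟩ := exists_step (h.gd.pg.to_le hD) (h.weak (D := D)
    (fun d hd => h.gd.le hd.1) (fun d hd g hg =>
      ⟨h.md.strong h.gd (by have := h.three; omega) hd.1 hg, fun e' => hd.2.1 (by
        have := congrArg (fun y => ρ g⁻¹ * y * ρ g) e'
        simpa [← map_mul, mul_assoc] using this), by rw [e, hd.2.2, mul_zero, zero_mul]⟩)
    ⟨ht, ht'⟩ ht'.1 hx)
  obtain ⟨u, hu, hu'⟩ := Set.not_subset.1 (mt (closure_le A).2 h2)
  exact ⟨A, u, h3 u (subset_closure hu) hu', fun b hb hb' => h1 ⟨by simpa using hb', hb⟩,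
    fun m hm => fn_pow_quad (hσ u hu.2.2) hr hm⟩

omit h [Finite G] in
theorem le_H0 : P ≤ H0 P P₁ := fun y hy => subset_closure ⟨1, one_mem _, y, hy, by simp⟩

theorem H0_le : H0 P P₁ ≤ normalizer (P₁ : Set G) := (closure_le _).2 (by
  rintro _ ⟨g, hg, y, hy, rfl⟩
  exact mul_mem (mul_mem hg (h.P_le hy)) (inv_mem hg))

omit h in
theorem norm_H0 : normalizer (P₁ : Set G) ≤ normalizer (H0 P P₁ : Set G) := fun g hg =>
  mem_norm' fun y hy => (closure_le ((H0 P P₁).comap (MulAut.conj g).toMonoidHom)).2 (by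
    rintro _ ⟨a, ha, y, hy, rfl⟩
    exact subset_closure ⟨g * a, mul_mem hg ha, y, hy, by simp [mul_assoc]⟩) hy

theorem frat (t : Tau P φ s τ e) {g : G} (hg : g ∈ normalizer (P₁ : Set G)) :
    ∃ a ∈ H0 P P₁, ∃ i, g = a * τ ^ i := by
  obtain ⟨a, ha, h1⟩ := (h.gd.syl.of_le le_H0 le_top).frattini le_H0 (norm_H0 hg)
  obtain ⟨i, y, hy, e⟩ := t.dec _ h1
  refine ⟨a⁻¹ * (τ ^ i * y * (τ ^ i)⁻¹), mul_mem (inv_mem ha)
    (le_H0 (conj_mem' (pow_mem t.mem i) hy)), i, ?_⟩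
  rw [← e]; group

theorem le_of (t : Tau P φ s τ e) {K : Subgroup G} (h1 : H0 P P₁ ≤ K) (h2 : τ ∈ K) :
    normalizer (P₁ : Set G) ≤ K := fun g hg => by
  obtain ⟨a, ha, i, rfl⟩ := h.frat t hg
  exact K.mul_mem (h1 ha) (K.pow_mem h2 i)

theorem exists_f (t : Tau P φ s τ e) : ∃ f e', 0 < f ∧ e = f * e' ∧
    (∀ g ∈ H0 P P₁, g ∈ normalizer (P : Set G) → φ (g * s * g⁻¹) ^ e' = 1) ∧
    ∀ (χ : normalizer (P₁ : Set G) →* ZMod p) g, χ g ^ f = 1 := by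
  classical
  have hex : ∃ f, 0 < f ∧ τ ^ f ∈ H0 P P₁ := ⟨e, t.pos, le_H0 t.pow⟩
  obtain ⟨h1, h2⟩ := Nat.find_spec hex
  have h3 : ∀ i, τ ^ i ∈ H0 P P₁ → Nat.find hex ∣ i := fun i hi =>
    Nat.dvd_of_mod_eq_zero (not_not.1 fun h0 => Nat.find_min hex (Nat.mod_lt i h1)
      ⟨Nat.pos_of_ne_zero h0, by
        rwa [← Nat.div_add_mod i (Nat.find hex), pow_add, pow_mul,
          mul_mem_cancel_left (pow_mem h2 _)] at hi⟩)
  obtain ⟨e', he'⟩ := h3 e (le_H0 t.pow)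
  refine ⟨_, e', h1, he', fun g hg hg' => ?_, fun χ g => ?_⟩
  · obtain ⟨i, y, hy, rfl⟩ := t.dec g hg'
    obtain ⟨q, rfl⟩ := h3 i ((mul_mem_cancel_right (le_H0 hy)).1 hg)
    have hm := P.mul_mem hy h.gd.mem
    have := h.gd.map_conj (pow_mem t.mem (Nat.find hex * q)) (h.N_le (pow_mem t.mem _))
      (P.mul_mem hm (P.inv_mem hy))
    rw [h.gd.mul _ hm _ (P.inv_mem hy), h.gd.mul _ hy _ h.gd.mem, h.gd.map_inv hy, h.gd.one,
      add_neg_cancel_comm, one_mul, t.map] at this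
    rw [mul_inv_rev, mul_assoc, mul_assoc, ← mul_assoc s, ← mul_assoc y, ← mul_assoc y, ← mul_assoc,
      this, ← pow_mul, mul_right_comm, ← he', pow_mul, t.prim.pow_eq_one, one_pow]
  · have h4 : ∀ a (ha : a ∈ H0 P P₁), χ ⟨a, h.H0_le ha⟩ = 1 := fun a ha => by
      induction ha using closure_induction with
      | mem x hx =>
        obtain ⟨g, hg, y, hy, rfl⟩ := hx
        obtain ⟨m, hm⟩ := h.gd.pow_eq hy
        rw [← ZMod.pow_card_pow (n := m) (χ _), ← map_pow, ← χ.map_one]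
        exact congrArg χ (Subtype.ext (by simp [conj_pow, hm]))
      | one => exact χ.map_one
      | mul x y hx hy ix iy => exact (χ.map_mul ⟨x, h.H0_le hx⟩ ⟨y, h.H0_le hy⟩).trans (by
          rw [ix, iy, one_mul])
      | inv x hx ix =>
        have := χ.map_mul ⟨x⁻¹, h.H0_le (inv_mem hx)⟩ ⟨x, h.H0_le hx⟩
        rw [ix, mul_one] at this
        rw [← this, ← χ.map_one]
        exact congrArg χ (Subtype.ext (inv_mul_cancel x))
    obtain ⟨a, ha, i, e⟩ := h.frat t g.2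
    rw [show g = ⟨a, h.H0_le ha⟩ * ⟨τ, h.N_le t.mem⟩ ^ i from Subtype.ext e, map_mul, h4 a ha,
      one_mul, map_pow, ← pow_mul, mul_comm, pow_mul, ← map_pow,
      show χ (_ ^ _) = 1 from h4 _ h2, one_pow]

theorem sec_two {a b : ℕ} (hab : a + 2 ≤ b) (hb : b ≤ n) (ia : H0 P P₁ ≤ stabK ρ (ρ s - 1) a)
    (ib : H0 P P₁ ≤ stabK ρ (ρ s - 1) b)
    (hi : ∀ c, a < c → c < b → ¬ H0 P P₁ ≤ stabK ρ (ρ s - 1) c) {κ : ℕ}
    (h1 : ∀ g ∈ H0 P P₁, g ∈ normalizer (P : Set G) → φ (g * s * g⁻¹) ^ κ = 1) :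
    κ ≠ 1 ∧ (0 < κ → 2 * κ < p - 1 → ¬ 2 * (b - a - 1) < p - 1) := by
  obtain ⟨W, _, _, ρ', w₀, m, m1, -⟩ := (h.md.restrict (le_H0 (P₁ := P₁) h.gd.mem)).sec
    (a := a) (b := b) (by omega) hb (fun g => ia g.2) fun g => ib g.2
  have i1 : Irr ρ' ⟨s, le_H0 h.gd.mem⟩ (b - a) := fun c h0 hc hg =>
    hi (a + c) (by omega) (by omega) fun g hg' => m1 c ⟨g, hg'⟩ (by omega) (hg _)
  have i2 : ∀ g : H0 P P₁, g ∈ normalizer (P₁.subgroupOf (H0 P P₁) : Set (H0 P P₁)) := fun g =>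
    mem_norm' fun x hx => conj_mem' (H := P₁) (h.H0_le g.2) hx
  have i3 : ∀ g ∈ normalizer (P.subgroupOf (H0 P P₁) : Set (H0 P P₁)), φ (g * s * g⁻¹) ^ κ = 1 :=
    fun g hg => h1 g g.2 (mem_norm' fun x hx => conj_mem' hg (x := ⟨x, le_H0 hx⟩) hx)
  exact ⟨fun e => m.two_fst (h.gd.restrict le_H0) (h.ht.restrict le_H0 _) i2 i1 (by omega)
      fun g hg => by simpa [e] using i3 g hg,
    fun h0 hκ h2 => m.two_snd (h.gd.restrict le_H0) (h.ht.restrict le_H0 _) i2 i1 (by omega) h0 hκ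
      i3 h2⟩

theorem exists_sec (hc : ¬ H0 P P₁ ≤ degS ρ (ρ s - 1) 0) : ∃ a b, a + 2 ≤ b ∧ b ≤ n ∧
    H0 P P₁ ≤ stabK ρ (ρ s - 1) a ∧ H0 P P₁ ≤ stabK ρ (ρ s - 1) b ∧
    ∀ c, a < c → c < b → ¬ H0 P P₁ ≤ stabK ρ (ρ s - 1) c := by
  obtain ⟨c, hc⟩ : ∃ c, ¬ H0 P P₁ ≤ stabK ρ (ρ s - 1) c :=
    not_forall.1 fun h' => hc fun g hg => mem_degS_zero'.2 fun c => h' c hg
  have h1 : 0 < c := Nat.pos_of_ne_zero fun e => hc fun g _ => e ▸ mem_stabK_zero _ g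
  have h2 : c < n := not_le.1 fun e => hc fun g _ v _ => h.md.reg.nil' e _
  obtain ⟨a, a1, a2, a3⟩ := exists_prev (fun c => H0 P P₁ ≤ stabK ρ (ρ s - 1) c)
    (fun g _ => mem_stabK_zero _ g) h1
  obtain ⟨b, b1, b2, b3, b4⟩ := exists_next (fun c => H0 P P₁ ≤ stabK ρ (ρ s - 1) c)
    (fun g _ => h.md.mem_stabK g) (a1.trans h2)
  refine ⟨a, b, not_lt.1 fun hlt => ?_, b2, a2, b3, b4⟩
  rcases (show b = c ∨ b < c by omega) with rfl | h3
  · exact hc b3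
  · exact a3 b b1 h3 b3

theorem H0_degS (t : Tau P φ s τ e) (hc : H0 P P₁ ≤ degS ρ (ρ s - 1) 0) :
    H0 P P₁ ≤ degS ρ (ρ s - 1) 1 := (closure_le _).2 (by
  rintro _ ⟨g, hg, y, hy, rfl⟩
  exact conj_degS (h.le_of t hc (h.md.tau h.gd t.mem t.ne).1 hg) (h.md.le_degS h.gd hy))

end Core

end Cfsg.Agent.Fus.UT
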