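import Mathlib
import Cfsg.Agent.Fus.UniCore

/-!
Let `p ≥ 5`, let `G` act on an `𝔽_p`-space of dimension `< p` with `p`-group kernel, and let the
Sylow `p`-subgroup be `P = P₁⟨s⟩` with `s` regular unipotent and `P₁` of degree `≥ 2` for the flag
of `s`.  If no nontrivial scalar of `N(P)` centralises `P`, then `P₁` is normal in `G`.
-/

set_option autoImplicit false

namespace Cfsg.Agent.Fus.UT

open Finset Module Subgroup

universe u v

variable {p : ℕ} [hp : Fact p.Prime] {G : Type u} [Group G] [Finite G]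
  {V : Type v} [AddCommGroup V] [Module (ZMod p) V] {ρ : Representation (ZMod p) G V}
  {P P₁ : Subgroup G} {φ : G → ZMod p} {s τ : G} {n e : ℕ} {v₀ : V}

theorem Reg.finrank_ker {k : Type*} [Field k] [Module k V] {X : End k V} (h : Reg X n v₀) {c : ℕ}
    (h0 : 0 < c) (hc : c ≤ n) : finrank k (LinearMap.ker (X ^ c)) = c := by
  have hm : ∀ v ∈ LinearMap.ker (X ^ c), X v ∈ LinearMap.ker (X ^ c) :=
    fun v hv => Deg.x.apply c.le_succ hv
  have e : ∀ j v, (((X.restrict hm ^ j) v : LinearMap.ker (X ^ c)) : V) = (X ^ j) v := fun j v => by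
    rw [Module.End.pow_restrict]; rfl
  refine Reg.finrank_eq (X := X.restrict hm) (v₀ := ⟨(X ^ (n - c)) v₀, by
    rw [LinearMap.mem_ker, pow_pow_apply]; exact h.nil' (by omega) _⟩)
    ⟨LinearMap.ext fun v => Subtype.ext ((e c v).trans v.2), fun e' => ?_, fun v w hv hw hw' => ?_⟩
  · have := (e _ _).symm.trans (congrArg Subtype.val e')
    rw [pow_pow_apply] at this
    exact h.ne' (by omega) this
  · obtain ⟨a, ha⟩ := h.one v w (congrArg Subtype.val hv) (congrArg Subtype.val hw)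
      fun e => hw' (Subtype.ext e)
    exact ⟨a, Subtype.ext ha⟩

omit [Finite G] in
theorem GD.alpha_ne (h : GD P P₁ φ s) (hN : normalizer (P : Set G) ≤ normalizer (P₁ : Set G))
    {g : G} (hg : g ∈ normalizer (P : Set G)) : φ (g * s * g⁻¹) ≠ 0 := fun e => by
  have := h.map_conj (inv_mem hg) (hN (inv_mem hg)) (conj_mem' hg h.mem)
  rw [e, zero_mul, show g⁻¹ * (g * s * g⁻¹) * g⁻¹⁻¹ = s by group, h.one] at this
  exact one_ne_zero this

omit [Finite G] in
theorem MD.semi_D (h : MD ρ P₁ s n v₀) (hn : 2 ≤ n) {g : G} {μ μ' : ZMod p}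
    (h1 : (ρ s - 1) ^ (n - 1) * ρ g = μ • (ρ s - 1) ^ (n - 1))
    (h2 : ∀ v, ((ρ s - 1) ^ (n - 2 + 1)) v = 0 →
      ((ρ s - 1) ^ (n - 2)) (ρ g v) = μ' • ((ρ s - 1) ^ (n - 2)) v) (f : Dual (ZMod p) V) :
    Semi (om ρ) g μ (fF (f.comp ((ρ s - 1) ^ (n - 1)))) ∧ Semi (om ρ) g (μ * μ')
      (fF (f.comp ((ρ s - 1) ^ (n - 1))) * fG (f.comp ((ρ s - 1) ^ (n - 2))) -
        fF (f.comp ((ρ s - 1) ^ (n - 2))) * fG (f.comp ((ρ s - 1) ^ (n - 1)))) := by
  set X := ρ s - 1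
  have e1 : ∀ v, f ((X ^ (n - 1)) (ρ g v)) = μ * f ((X ^ (n - 1)) v) := fun v => by
    simpa using congrArg f (LinearMap.congr_fun h1 v)
  have e2 : ∀ v, ∃ c, f ((X ^ (n - 1)) v) = c * f ((X ^ (n - 1)) v₀) ∧
      f ((X ^ (n - 2)) (ρ g v)) = c * f ((X ^ (n - 2)) (ρ g v₀)) +
        μ' * (f ((X ^ (n - 2)) v) - c * f ((X ^ (n - 2)) v₀)) := fun v => by
    obtain ⟨c, hc⟩ := h.reg.step (c := n - 1) (v := v) (h.reg.nil' (by omega) _)
      (h.reg.nil' (by omega) _) h.reg.ne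
    have := congrArg f (h2 _ (by rwa [show n - 2 + 1 = n - 1 by omega]))
    refine ⟨c, by simpa [sub_eq_zero] using congrArg f hc, ?_⟩
    simp only [map_sub, map_smul, smul_eq_mul] at this
    linear_combination this
  refine ⟨fun ω => e1 _, fun ω => ?_⟩
  obtain ⟨c, a1, a2⟩ := e2 ω.1
  obtain ⟨d, b1, b2⟩ := e2 ω.2.1
  simp only [fF, fG, om_apply, Pi.sub_apply, Pi.mul_apply, LinearMap.comp_apply, e1, a1, a2, b1, b2]
  ring

namespace Core

variable (h : Core ρ P P₁ φ s n v₀)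
include h

theorem caseAa (hc : ∀ y ∈ P, Commute (ρ y) (ρ s - 1)) (h0 : H0 P P₁ ≤ degS ρ (ρ s - 1) 0) :
    False := by
  obtain ⟨τ, e, t⟩ := h.gd.tau h.N_le h.ht
  have h1 : (H0 P P₁).map ρ.asGroupHom = P.map ρ.asGroupHom :=
    ((h.gd.syl.of_le le_H0 le_top).map le_H0 ρ.asGroupHom).eq_of_le (map_mono le_H0) (by
      rintro ⟨_, a, ha, rfl⟩
      refine ⟨1, Subtype.ext (Units.ext ?_)⟩
      simpa [ρ.asGroupHom_apply] using h.md.pow_eq (h.H0_degS t h0 ha)) (map_mono le_H0) le_rfl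
  refine h.md.window h.gd h.irr (by have := h.three; omega) hc t (B := 3 * (p - 1))
    (fun r hr w hw a b => h.traceD hr hw (h.le_of t (fun g hg ω => ?_) b))
    (by have := t.lt; omega) (by have := h.md.lt; have := h.three; omega)
  obtain ⟨y, hy, e⟩ := h1.le (mem_map_of_mem _ hg)
  have e1 : ρ y = ρ g := congrArg Units.val e
  have e2 : ρ y⁻¹ = ρ g⁻¹ := congrArg Units.val
    (show ρ.asGroupHom y⁻¹ = ρ.asGroupHom g⁻¹ by rw [map_inv, map_inv, e])
  rw [om_apply, ← e1, ← e2]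
  exact a hy ω

theorem caseAb (hc : ∀ y ∈ P, Commute (ρ y) (ρ s - 1))
    (hq : ¬ ∃ d ∈ P₁, ρ d ≠ 1 ∧ (ρ d - 1) ^ 2 = 0) (h0 : ¬ H0 P P₁ ≤ degS ρ (ρ s - 1) 0) :
    False := by
  obtain ⟨t, ht, ht'⟩ := h.ne
  have hT := (hc t (h.gd.le ht)).sub_left (Commute.one_left _)
  obtain ⟨κ, k1, k2, c, hc0, k3⟩ := h.md.reg.exists_lead hT (h.md.deg t ht) (sub_ne_zero.2 ht')
  have k4 : 2 * κ < n := not_le.1 fun hle => hq ⟨t, ht, ht', h.md.reg.eq_zero
    ((((k3.mono κ.le_succ).add ((Deg.xpow κ).smul c)).congr (sub_add_cancel _ _)).pow 2) hle⟩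
  have h1 : ∀ g ∈ H0 P P₁, Commute (ρ g) (ρ t - 1) := fun g hg => by
    induction hg using closure_induction with
    | mem x hx =>
      obtain ⟨g, hg, y, hy, rfl⟩ := hx
      have := h.md.reg.commute (hc y hy) (hc _ (h.gd.le (conj_mem' (inv_mem hg) ht)))
      refine Commute.sub_right ?_ (Commute.one_right _)
      have := congrArg (fun x => ρ g * x * ρ g⁻¹) this.eq
      simp only [← map_mul] at this
      rw [Commute, SemiconjBy, ← map_mul, ← map_mul]
      convert this using 2 <;> group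
    | one => rw [map_one]; exact Commute.one_left _
    | mul x y _ _ ix iy => rw [map_mul]; exact ix.mul_left iy
    | inv x _ ix =>
      exact inv_closed (S := fun g => Commute (ρ g) (ρ t - 1)) (by simp)
        (fun a b ha hb => by rw [map_mul]; exact ha.mul_left hb) ix
  obtain ⟨a, b, hab, hb, ia, ib, hi⟩ := h.exists_sec h0
  have h2 : H0 P P₁ ≤ stabK ρ (ρ s - 1) (a + κ) := fun g hg v hv => by
    have e := h.md.reg.ker_iff (((Commute.refl _).pow_left a).mul_left hT) hc0 (j := a + κ)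
      (((Deg.xpow a).mul k3).congr (by rw [mul_sub, mul_smul_comm, ← pow_add]))
    rw [← e] at hv ⊢
    rw [End.mul_apply, ← End.mul_apply (ρ t - 1), ← (h1 g hg).eq]
    exact ia hg _ hv
  have h3 : b ≤ a + κ := not_lt.1 fun hlt => hi _ (by omega) hlt h2
  have := h.md.lt
  refine (h.sec_two hab hb ia ib hi (κ := κ) fun g hg hg' => ?_).2 (by omega) (by omega) (by omega)
  obtain ⟨d1, d2⟩ := h.md.tau h.gd hg' (h.gd.alpha_ne h.N_le hg')
  have d0 := mem_degS_zero.1 d1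
  have := ((((d2.twist κ).smul c).add ((d0.mul k3).mono (by omega))).sub (k3.mul d0)).mul
    (mem_degS_zero.1 (inv_mem d1))
  have := h.md.reg.not_deg k2 (c := c * (1 - φ (g * s * g⁻¹) ^ κ)) (this.congr (by
    simp only [mul_sub, sub_mul, smul_sub, sub_smul, add_mul, mul_smul_comm, smul_mul_assoc,
      (h1 g hg).eq, mul_smul, mul_assoc, ← map_mul, mul_inv_cancel, map_one, mul_one]
    abel))
  exact (sub_eq_zero.1 ((mul_eq_zero.1 this).resolve_left hc0)).symm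

theorem caseQa (hq : ∃ d ∈ P₁, ρ d ≠ 1 ∧ (ρ d - 1) ^ 2 = 0) (h0 : H0 P P₁ ≤ degS ρ (ρ s - 1) 0) :
    False := by
  obtain ⟨τ, e, t⟩ := h.gd.tau h.N_le h.ht
  have h1 := h.H0_degS t h0
  have his : IrrS ρ := fun U => h.md.irr_sub h.irr
  obtain ⟨μ, m1, m2, m3⟩ := h.md.exists_mu h.gd t
  obtain ⟨f, hf⟩ := Projective.exists_dual_eq_one (ZMod p) h.md.reg.ne
  have h3 := h.three
  have h5 := h.five
  have hn := h.md.lt
  have hQ : ∀ r < p - 1, ∀ w ∈ pol (ZMod p) (Om p V) r, H0 P P₁ ≤ stab (om ρ) w →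
      τ ∈ stab (om ρ) w → ∀ g, g ∈ stab (om ρ) w := fun r hr w hw a b =>
    h.traceQ hq (fun d hd x => Prod.ext (quad_apply hd _) (Prod.ext (quad_apply hd _)
      (quad_dual hd _))) hr hw (h.le_of t a b)
  have hμ : μ ≠ 0 := by rintro rfl; simp [t.pos.ne'] at m2
  have hF : ∀ g ∈ H0 P P₁, _ := fun g hg => semi_F (h.md.top_one (h1 hg)) one_ne_zero f
  have hFτ := semi_F m1 hμ f
  set a := φ (τ * s * τ⁻¹)
  set X := ρ s - 1 with hX
  have hne : (X ^ (n - 1)) v₀ ≠ 0 := h.md.reg.ne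
  have hb : ∀ c, 0 < c → (X ^ c) ((X ^ (n - 1)) v₀) = 0 := fun c hc => h.md.bot_zero (Deg.xpow _) hc
  have hb1 := hb (n - 1) (by omega)
  have hb2 := hb (n - 2) (by omega)
  have fin : ∀ m, 0 < m → ¬ ∀ g, g ∈ stab (om ρ) (fF (f.comp (X ^ (n - 1))) ^ m) := fun m hm hw => by
    have := his.deep1 hw hne (fun ω => by simp [fF, hb1]) (fun ω => by simp [fF, hm.ne']) (v₀, 0, 0)
    simp [fF, hf] at this
  have hd : orderOf μ ∣ p - 1 := ZMod.orderOf_dvd_card_sub_one hμ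
  have ho : 0 < orderOf μ := Nat.pos_of_dvd_of_pos hd (by omega)
  rcases (Nat.le_of_dvd (by omega) hd).lt_or_eq with hlt | heq
  · exact fin _ ho (hQ _ (by omega) _ (pow_mem_pol (fF_mem _) _)
      (fun g hg => inv_mem_iff.1 (((hF g hg).pow _).mem (by simp)))
      (inv_mem_iff.1 ((hFτ.pow _).mem (by rw [inv_pow, pow_orderOf_eq_one, inv_one]))))
  have hμp : IsPrimitiveRoot μ (p - 1) := heq ▸ IsPrimitiveRoot.orderOf μ
  have he : e = p - 1 := le_antisymm t.lt (Nat.le_of_dvd t.pos (hμp.dvd_of_pow_eq_one _ m2))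
  have : NeZero (p - 1) := ⟨by omega⟩
  obtain ⟨j, hj, ej⟩ := hμp.eq_pow_of_pow_eq_one (he ▸ t.prim.pow_eq_one : a ^ (p - 1) = 1)
  have hj0 : j ≠ 0 := by
    rintro rfl
    have := Nat.le_of_dvd one_pos (t.prim.dvd_of_pow_eq_one 1 (by simpa using ej.symm))
    omega
  by_cases hj' : j + 3 ≤ p
  · have s1 : ∀ g ∈ H0 P P₁, _ := fun g hg => h.md.semi_D (by omega) (h.md.top_one (h1 hg)) (μ' := 1)
      (fun v hv => by rw [one_smul, ← sub_eq_zero, ← map_sub]; exact h1 hg _ v hv) f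
    have s2 := h.md.semi_D (by omega) m1 (fun v hv => h.md.reg.scal (h.md.tau h.gd t.mem t.ne).2 m1
      (j := 1) (by omega) hv) f
    have hw := hQ _ (by omega) _ (mul_mem_pol (pow_mem_pol (fF_mem _) (p - 3 - j))
      (sub_mem (mul_mem_pol (fF_mem _) (fG_mem _)) (mul_mem_pol (fF_mem _) (fG_mem _))))
      (fun g hg => (((s1 g hg).1.pow _).mul (s1 g hg).2).mem (by simp))
      (((s2.1.pow _).mul s2.2).mem (by
        rw [pow_one, show φ (τ * s * τ⁻¹) = μ ^ j from ej.symm, ← pow_succ, ← pow_succ', ← pow_add,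
          show p - 3 - j + (j + 1 + 1) = p - 1 by omega, hμp.pow_eq_one]))
    have := his.deep1 hw hne (fun ω => by simp [fF, fG, ← hX, hb1, hb2])
      (fun ω => by simp [fF, fG]) (v₀, (X ^ 1) v₀, 0)
    simp only [Pi.mul_apply, Pi.pow_apply, Pi.sub_apply, fF, fG, LinearMap.comp_apply, ← hX,
      pow_pow_apply, show n - 2 + 1 = n - 1 by omega, hf,

      show (X ^ (n - 1 + 1)) v₀ = 0 from h.md.reg.nil' (by omega) _] at this
    simp at this
  by_cases hn3 : n = 3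
  · exact fin (p - 1) (by omega) (h.traceD (by rw [hn3]; omega) (pow_mem_pol (fF_mem _) _) (h.le_of t
      (fun g hg => inv_mem_iff.1 (((hF g hg).pow _).mem (by simp)))
      (inv_mem_iff.1 ((hFτ.pow _).mem (by rw [inv_pow, hμp.pow_eq_one, inv_one])))))
  have hw := hQ _ (by omega) _ (mul_mem_pol (pow_mem_pol (fF_mem _) (p - n + 1)) (fE_mem _))
    (fun g hg => inv_mem_iff.1 ((((hF g hg).pow _).mul (semi_E (h.md.bot_one (h1 hg)))).mem (by simp)))
    (inv_mem_iff.1 (((hFτ.pow _).mul (semi_E m3)).mem (by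
      have e1 : a = μ⁻¹ := eq_inv_of_mul_eq_one_left (by
        rw [← ej, ← pow_succ, show j + 1 = p - 1 by omega, hμp.pow_eq_one])
      rw [e1, ← mul_assoc, ← pow_add, show p - n + 1 + (n - 1) = p - 1 + 1 by omega, pow_succ,
        inv_pow, hμp.pow_eq_one, inv_one, one_mul, inv_mul_cancel₀ hμ])))
  have := his.deep1 hw hne (fun ω => by simp [fF, fE, hb1]) (fun ω => by simp [fF]) (v₀, 0, f)
  simp [fF, fE, ← hX, hf] at this

theorem det_ne (t : Tau P φ s τ e) (hn : n = p - 1) (he : e = p - 1) : False := by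
  obtain ⟨μ, m1, m2, -⟩ := h.md.exists_mu h.gd t
  obtain ⟨d1, d2⟩ := h.md.tau h.gd t.mem t.ne
  have h1 := h.md.reg.det_eq d2 m1 (mem_degS_zero.1 d1)
  have h2 : P ≤ (LinearMap.det.comp ρ).ker := fun y hy => by
    obtain ⟨m, hm⟩ := h.gd.pow_eq hy
    rw [MonoidHom.mem_ker, ← ZMod.pow_card_pow (n := m) (LinearMap.det.comp ρ y), ← map_pow, hm,
      map_one]
  have h3 : (LinearMap.det.comp ρ).ker = ⊤ := not_not.1 fun hne => h.ne_top (eq_top_iff.2 fun g _ => by
    obtain ⟨a, ha, h1⟩ := (h.gd.syl.of_le h2 le_top).frattini h2 (g := g)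
      (by rw [normalizer_eq_top]; trivial)
    exact (mul_mem_cancel_left (h.min _ h2 hne ha)).1 (h.N_le h1))
  have h4 : LinearMap.det (ρ τ) = 1 := (h3 ▸ trivial : τ ∈ (LinearMap.det.comp ρ).ker)
  rw [h4, prod_mul_distrib, prod_const, card_univ, Fintype.card_fin, hn, ← he, m2, mul_one,
    prod_pow_eq_pow_sum, Fin.sum_univ_eq_sum_range (fun i => i)] at h1
  obtain ⟨q, hq⟩ := t.prim.dvd_of_pow_eq_one _ h1.symm
  have h5 := Finset.sum_range_id_mul_two e
  rw [hq, mul_assoc] at h5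
  have h6 := Nat.eq_of_mul_eq_mul_left t.pos h5
  have := h.five
  obtain ⟨r, hr⟩ := hp.out.odd_of_ne_two (by omega)
  omega

theorem caseQb (hq : ∃ d ∈ P₁, ρ d ≠ 1 ∧ (ρ d - 1) ^ 2 = 0)
    (h0 : ¬ H0 P P₁ ≤ degS ρ (ρ s - 1) 0) : False := by
  obtain ⟨τ, e, t⟩ := h.gd.tau h.N_le h.ht
  have his : IrrS ρ := fun U => h.md.irr_sub h.irr
  have := h.md.reg.finite
  obtain ⟨f, e', f0, he, f1, f2⟩ := h.exists_f t
  obtain ⟨a, b, hab, hb, ia, ib, hi⟩ := h.exists_sec h0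
  have e1 := (h.sec_two hab hb ia ib hi f1).1
  have e2 := t.lt
  have e3 := t.pos
  have h5 := h.five
  have hn := h.md.lt
  have e0 : 2 ≤ e' := by
    rcases e' with _ | _ | e'
    · omega
    · omega
    · omega
  have hτ := mem_degS_zero'.1 (h.md.tau h.gd t.mem t.ne).1
  have key : ∀ a b, a < b → b ≤ n → H0 P P₁ ≤ stabK ρ (ρ s - 1) a → H0 P P₁ ≤ stabK ρ (ρ s - 1) b →
      (∀ c, a < c → c < b → ¬ H0 P P₁ ≤ stabK ρ (ρ s - 1) c) → 2 * (b - a) ≤ p - 1 →
      (b - a) * f < p - 1 ∨ (2 * (b - a) = p - 1 ∧ e = p - 1) := fun a b hab hb ia ib hi h2 => by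
    by_cases h1 : b - a = 1
    · left; rw [h1]; nlinarith
    have h3 := (h.sec_two (by omega) hb ia ib hi f1).2 (by omega)
    have h4 : p - 1 ≤ 2 * e' := not_lt.1 fun hlt => h3 hlt (by omega)
    rcases f with _ | _ | _ | f
    · omega
    · omega
    · omega
    · nlinarith
  have h3 := h.three
  obtain ⟨u, u1, u2, u3, u4⟩ := exists_next (fun c => H0 P P₁ ≤ stabK ρ (ρ s - 1) c)
    (fun g _ => h.md.mem_stabK g) (show 0 < n by omega)
  obtain ⟨a', a1, a2, a3⟩ := exists_prev (fun c => H0 P P₁ ≤ stabK ρ (ρ s - 1) c)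
    (fun g _ => mem_stabK_zero _ g) (show 0 < n by omega)
  have un : u < n := lt_of_le_of_ne u2 fun e => by
    obtain ⟨d, hd, hd', -⟩ := hq
    let U : Submodule (ZMod p) V := ⨅ r ∈ P₁, LinearMap.ker (ρ r - 1)
    have hU : ∀ v, v ∈ U ↔ ∀ r ∈ P₁, ρ r v = v := fun v => by simp [U, sub_eq_zero]
    have hU' : ∀ g ∈ normalizer (P₁ : Set G), ∀ v ∈ U, ρ g v ∈ U := fun g hg v hv =>
      (hU _).2 fun r hr => by
        have := (hU v).1 hv _ (conj_mem' (inv_mem hg) hr)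
        rwa [inv_inv, map_mul, map_mul, End.mul_apply, End.mul_apply, ρ.inv_apply_eq_iff] at this
    obtain ⟨c, hc, ec⟩ := h.md.reg.inv_eq (U := U) fun v hv =>
      U.sub_mem (hU' s (h.P_le h.gd.mem) v hv) hv
    refine u4 c (Nat.pos_of_ne_zero fun e' => h.md.reg.ne ?_) (lt_of_le_of_ne (e ▸ hc) fun e' => hd' ?_)
      fun g hg v hv => (ec _).1 (hU' g (h.H0_le hg) v ((ec v).2 hv))
    · have := (ec _).1 ((hU _).2 fun r hr => sub_eq_zero.1 (h.md.bot_zero (h.md.deg r hr) two_pos))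
      rwa [e'] at this
    · exact LinearMap.ext fun v => (hU v).1 ((ec v).2 (h.md.reg.nil' (by omega) v)) d hd
  have ua : u ≤ a' := not_lt.1 fun hlt => a3 u hlt un u3
  have k1 := h.md.reg.finrank_ker u1 u2
  have k2 := h.md.reg.finrank_ker (c := a') (by omega) a1.le
  have k3 := h.md.reg.finrank_eq
  have c1 : ¬ u * f < p - 1 := fun hlt => by
    have k4 := Subspace.finrank_add_finrank_dualAnnihilator_eq (LinearMap.ker ((ρ s - 1) ^ u))
    have k5 := (LinearMap.ker ((ρ s - 1) ^ u)).dualAnnihilator.finrank_quotient_add_finrank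
    rw [Subspace.dual_finrank_eq] at k5
    refine his.dual.det (U := (LinearMap.ker ((ρ s - 1) ^ u)).dualAnnihilator) (fun e => ?_)
      (fun e => ?_) (fun g hg l hl => (Submodule.mem_dualAnnihilator _).2 fun v hv =>
        (Submodule.mem_dualAnnihilator _).1 hl _ (h.le_of t u3 (hτ u) (inv_mem hg) v hv)) f0 f2
      (u := u) (by omega) fun w hw => h.traceQ hq (fun d hd x => funext fun i => quad_dual hd _) hlt hw
    · rw [e, finrank_bot] at k4; omega
    · rw [e, finrank_top, Subspace.dual_finrank_eq] at k4; omega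
  have c2 : ¬ (n - a') * f < p - 1 := fun hlt => by
    have k5 := (LinearMap.ker ((ρ s - 1) ^ a')).finrank_quotient_add_finrank
    refine his.det (U := LinearMap.ker ((ρ s - 1) ^ a')) (fun e => ?_) (fun e => ?_)
      (fun g hg => h.le_of t a2 (hτ a') hg) f0 f2 (u := n - a') (by omega)
      fun w hw => h.traceQ hq (fun d hd x => funext fun i => quad_apply hd _) hlt hw
    · rw [e, finrank_bot] at k2; omega
    · rw [e, finrank_top] at k2; omega
  have j1 := key 0 u u1 u2 (fun g _ => mem_stabK_zero _ g) u3 u4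
  have j2 := key a' n a1 le_rfl a2 (fun g _ => h.md.mem_stabK g) a3
  rw [Nat.sub_zero] at j1
  exact h.det_ne t (by omega) (by omega)

theorem false : False := by
  by_cases hq : ∃ d ∈ P₁, ρ d ≠ 1 ∧ (ρ d - 1) ^ 2 = 0
  · exact h.caseQb hq (h.caseQa hq)
  · have hc := not_not.1 (mt (h.md.exists_quad h.gd) hq)
    exact h.caseAb hc hq (h.caseAa hc)

end Core

/-- The condition on `N(P)` follows from the absence of scalars centralising `P`. -/
theorem MD.ht (h : MD ρ P₁ s n v₀) (hG : GD P P₁ φ s) (hker : ∀ g, ρ g = 1 → ∃ m, g ^ p ^ m = 1)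
    (hS : ∀ g ∈ normalizer (P : Set G), ∀ μ : ZMod p, ρ g = μ • 1 → μ = 1) : HT P φ s := by
  intro g hg h1
  obtain ⟨d1, d2⟩ := h.tau hG hg (by rw [h1]; exact one_ne_zero)
  obtain ⟨μ, hμ⟩ := h.reg.exists_top (mem_degS_zero.1 d1)
  rw [h1] at d2
  have h2 := h.reg.eq_zero ((h.reg.deg_sub d2 hμ).pow p) (by have := h.lt; omega)
  have h0 : μ ≠ 0 := by
    rintro rfl
    have := LinearMap.congr_fun hμ (ρ g⁻¹ v₀)
    rw [End.mul_apply, ρ.self_inv_apply, zero_smul] at this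
    exact h.reg.ne this
  have h3 : ρ (g ^ p) = μ • 1 := by
    have := pow_char_eq (p := p) (μ⁻¹ • ρ g)
    rw [show μ⁻¹ • ρ g - 1 = μ⁻¹ • (ρ g - μ • 1) by rw [smul_sub, inv_smul_smul₀ h0], smul_pow, h2,
      smul_zero, smul_pow, ZMod.pow_card, eq_comm, sub_eq_zero, inv_smul_eq_iff₀ h0] at this
    rw [map_pow, this]
  rw [hS _ (pow_mem hg p) μ h3, one_smul] at h3
  obtain ⟨m, hm⟩ := hker _ h3
  exact hG.mem_of_pow hg (m := m + 1) (by rwa [pow_succ', pow_mul])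

theorem main (h5 : 5 ≤ p) (m : ℕ) : ∀ {G : Type u} [Group G] [Finite G]
    {ρ : Representation (ZMod p) G V} {P P₁ : Subgroup G} {φ : G → ZMod p} {s : G},
    Nat.card G = m → MD ρ P₁ s n v₀ → GD P P₁ φ s → HT P φ s →
    (∀ g, ρ g = 1 → ∃ m, g ^ p ^ m = 1) → 2 ≤ n → ∀ g, g ∈ normalizer (P₁ : Set G) := by
  induction m using Nat.strong_induction_on with
  | _ m ih =>
  intro G _ _ ρ P P₁ φ s hm h hG hT hker hn
  have hmin : ∀ Y : Subgroup G, P ≤ Y → Y ≠ ⊤ → Y ≤ normalizer (P₁ : Set G) := fun Y hY hne g hg =>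
    mem_norm' fun x hx => conj_mem' (ih _ (hm ▸ (card_le_card_group Y).lt_of_ne
      (mt (card_eq_iff_eq_top Y).1 hne)) rfl (h.restrict (hY hG.mem)) (hG.restrict hY)
      (hT.restrict hY _) (fun g hg => (hker g hg).imp fun _ e => Subtype.ext e) hn ⟨g, hg⟩)
      (x := ⟨x, hY (hG.le hx)⟩) hx
  have key : ∀ b ≤ n, (∀ g, g ∈ stabK ρ (ρ s - 1) b) → ∀ g ∈ normalClosure (P₁ : Set G), ∀ v,
      ((ρ s - 1) ^ b) v = 0 → ((ρ g - 1) ^ b) v = 0 := by
    intro b
    induction b using Nat.strong_induction_on with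
    | _ b ih =>
    intro hb ib g hg v hv
    rcases Nat.eq_zero_or_pos b with rfl | h0
    · exact hv
    obtain ⟨a, a1, a2, a3⟩ := exists_prev (fun c => ∀ g, g ∈ stabK ρ (ρ s - 1) c)
      (mem_stabK_zero (ρ s - 1)) h0
    obtain ⟨W, _, _, ρ', w₀, m, m1, m2⟩ := h.sec a1 hb a2 ib
    have h1 : P₁ ≤ ρ'.ker := fun t ht => not_not.1 fun ht' => Core.false ⟨m, hG, hT,
      fun c h0 hc hg => a3 (a + c) (by omega) (by omega) fun g => m1 c g (by omega) (hg g), h5, hmin,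
      t, ht, ht'⟩
    have := ih a a1 (by omega) a2 g hg _ (m2 g (normalClosure_le_normal h1 hg) v hv)
    exact pow_apply_mono (a := a + 1) a1 (by rwa [pow_succ, End.mul_apply])
  have h1 : IsPGroup p (normalClosure (P₁ : Set G)) := fun ⟨g, hg⟩ => by
    obtain ⟨m, hm⟩ := hker (g ^ p) (by
      rw [map_pow, ← sub_eq_zero, ← pow_char_eq (p := p)]
      exact LinearMap.ext fun v => pow_apply_mono h.lt.le
        (key n le_rfl h.mem_stabK g hg v (h.reg.nil' le_rfl v)))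
    exact ⟨m + 1, Subtype.ext (by rwa [← pow_mul, ← pow_succ'] at hm)⟩
  have h2 : normalClosure (P₁ : Set G) ≤ P := le_sup_left.trans
    (hG.syl.eq_of_le le_top (h1.to_sup_of_normal_left hG.pg) le_sup_right le_top).le
  exact fun g => mem_norm' fun x hx => h.strong hG hn hx
    (h2 (normalClosure_normal.conj_mem _ (subset_normalClosure hx) g))

end Cfsg.Agent.Fus.UT
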