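import Cfsg.Agent.Fus.MCNA
import Cfsg.Agent.Fus.UniMain
import Cfsg.Agent.Fus.EssSmall
import Cfsg.Agent.Fus.P5Main

/-! Normal essential subgroups of `p`-groups of maximal class, `p ≥ 5`. -/

set_option autoImplicit false

namespace Cfsg.Agent.Fus.MCN

open Subgroup FGS.LcsLie Engel MC UT
open scoped commutatorElement

universe u

variable {p n : ℕ} [hp : Fact p.Prime]

theorem exists_frep {H : Type u} [Group H] [Finite H] (hH : IsPGroup p H)
    (𝒜 : Subgroup (MulAut H)) :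
    ∃ (V : Type u) (_ : AddCommGroup V) (_ : Module (ZMod p) V) (ρ : Representation (ZMod p) 𝒜 V)
      (π : H → V), Function.Surjective π ∧ (∀ x y, π (x * y⁻¹) = π x - π y) ∧
      (∀ x (k : ℕ), π (x ^ k) = (k : ZMod p) • π x) ∧
      (∀ x, π x = 0 ↔ x ∈ frattini H) ∧ ∀ a x, ρ a (π x) = π ((a : MulAut H) x) := by
  obtain ⟨φ, hφ⟩ := AC.exists_quotHom (AC.inv_of_char 𝒜 (frattini H))
  let _ : CommGroup (H ⧸ frattini H) := { (inferInstance : Group (H ⧸ frattini H)) with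
    mul_comm := (Subgroup.Normal.quotient_commutative_iff_commutator_le.2
      (Grp.PFrattini.commutator_le_frattini hH)).is_comm.comm }
  obtain ⟨_⟩ : Nonempty (Module (ZMod p) (Additive (H ⧸ frattini H))) :=
    ⟨AddCommGroup.zmodModule fun x => by
      obtain ⟨y, rfl⟩ := QuotientGroup.mk_surjective (s := frattini H) x.toMul
      exact (QuotientGroup.eq_one_iff (y ^ p)).2 (Grp.PFrattini.pow_mem_frattini hH y)⟩
  let ψ : 𝒜 → (Additive (H ⧸ frattini H) →+ Additive (H ⧸ frattini H)) := fun g =>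
    { toFun := fun x => Additive.ofMul (φ g x.toMul)
      map_zero' := map_one (φ g)
      map_add' := fun x y => map_mul (φ g) x.toMul y.toMul }
  let ρ : Representation (ZMod p) 𝒜 (Additive (H ⧸ frattini H)) :=
    { toFun := fun g => (ψ g).toZModLinearMap p
      map_one' := LinearMap.ext fun x => by
        change Additive.ofMul (φ 1 x.toMul) = x
        rw [map_one]; rfl
      map_mul' := fun a b => LinearMap.ext fun x => by
        change Additive.ofMul (φ (a * b) x.toMul) = Additive.ofMul (φ a (φ b x.toMul))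
        rw [map_mul]; rfl }
  refine ⟨_, _, inferInstance, ρ, fun x => Additive.ofMul (x : H ⧸ frattini H),
    QuotientGroup.mk_surjective, fun x y => ?_, fun x k => ?_, fun x => QuotientGroup.eq_one_iff x,
    fun a x => congrArg Additive.ofMul (hφ a x)⟩
  · rw [sub_eq_add_neg]; rfl
  · rw [Nat.cast_smul_eq_nsmul]; rfl

variable {G : Type u} [Group G] [Finite G]

/-- The data carried by a normal essential subgroup. -/
structure NE (p : ℕ) (E : Subgroup G) (𝒜 : Subgroup (MulAut E)) (c : G →* 𝒜) : Prop where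
  app : ∀ g (x : E), ((c g : MulAut E) x : G) = g * x * g⁻¹
  ess : AC.Ess p 𝒜
  syl : SylIn p c.range ⊤
  cen : ∀ g, (∀ x ∈ E, ⁅g, x⁆ = 1) → g ∈ E
  ext : ∀ β ∈ normalizer (c.range : Set 𝒜), ∃ γ : G →* G, ∀ x : E, γ x = (β : MulAut E) x
  spe : ∃ L : Subgroup 𝒜, L ≠ ⊤ ∧ ∀ α, ∀ g ∉ E, α * c g * α⁻¹ ∈ c.range → α ∈ L

variable {E : Subgroup G} {𝒜 : Subgroup (MulAut E)} {c : G →* 𝒜}

omit [Finite G] hp in
theorem NE.inn (e : NE p E 𝒜 c) {g : G} (hg : (c g : MulAut E) ∈ Inn E) : g ∈ E := by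
  obtain ⟨y, hy⟩ := hg
  have := e.cen ((y : G)⁻¹ * g) fun x hx => by
    have := e.app g ⟨x, hx⟩
    rw [← hy] at this
    simp only [MulAut.conj_apply, coe_mul, coe_inv] at this
    rw [commutatorElement_def, show (y : G)⁻¹ * g * x * ((y : G)⁻¹ * g)⁻¹ =
      (y : G)⁻¹ * (g * x * g⁻¹) * y by group, ← this]
    group
  simpa using mul_mem y.2 this

theorem NE.exc (e : NE p E 𝒜 c) (h : IsMC p n G) (hn : 6 ≤ n) {i : ℕ} (hi : 2 * i + 2 = n)
    (hE : E = gam G i) (hab : ∀ x y : E, x * y = y * x) : False := by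
  obtain ⟨L, hL, hL'⟩ := e.spe
  obtain ⟨α, hα⟩ : ∃ α, α ∉ L := by
    by_contra! hc
    exact hL (eq_top_iff.2 fun x _ => hc x)
  obtain ⟨z, hz, hz'⟩ := h.exists_not_mem (k := n - 2) (by omega)
  have hzE : z ∈ E := hE.ge (gam_anti (by omega) hz)
  have hZ : ∀ w ∈ center G, ∃ k : ℤ, z ^ k = w := fun w hw => by
    rw [h.center_eq, h.le_sup (by omega) hz hz', h.gam_eq_bot_iff.2 (by omega), bot_sup_eq] at hw
    exact hw
  -- transvections with centre `z`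
  have tv : ∀ w : E, ∃ g, g ∉ E ∧ (c g : MulAut E) w = w ∧
      ∀ x : E, ∃ k : ℤ, (c g : MulAut E) x = (⟨z, hzE⟩ : E) ^ k * x := fun w => by
    obtain ⟨g, h1, h2, h3⟩ := exists_transv h hn hi (hE.le w.2)
    refine ⟨g, hE ▸ h1, Subtype.ext ?_, fun x => ?_⟩
    · rw [e.app, ← mul_inv_eq_one]; exact h2
    · obtain ⟨k, hk⟩ := hZ _ (h3 x (hE.le x.2))
      refine ⟨k, Subtype.ext ?_⟩
      rw [e.app]
      simp [hk, commutatorElement_def]
  obtain ⟨a, ha, a1, a2⟩ := tv ((α : MulAut E) ⟨z, hzE⟩)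
  obtain ⟨b, hb, b1, b2⟩ := tv (((α⁻¹ : 𝒜) : MulAut E) ⟨z, hzE⟩)
  have hB : α * c b * α⁻¹ ∈ L := by
    refine hL' _ a ha ⟨a, ?_⟩
    rw [eq_mul_inv_iff_mul_eq]
    refine Subtype.ext (MulEquiv.ext fun x => ?_)
    obtain ⟨k, hk⟩ := a2 x
    obtain ⟨l, hl⟩ := b2 (((α⁻¹ : 𝒜) : MulAut E) x)
    have hx : (α : MulAut E) (((α⁻¹ : 𝒜) : MulAut E) x) = x := by simp
    have hz : (α : MulAut E) (((α⁻¹ : 𝒜) : MulAut E) ⟨z, hzE⟩) = ⟨z, hzE⟩ := by simp
    simp only [coe_mul, MulAut.mul_apply, hk, hl, map_mul, map_zpow, hx, hz, a1, b1]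
    rw [← mul_assoc, ← mul_assoc, hab (_ ^ l)]
  have hPL : c.range ≤ L := by
    rintro _ ⟨g, rfl⟩
    exact hL' _ a ha ⟨g * a * g⁻¹, by simp⟩
  have hpg : IsPGroup p (zpowers (α * c b * α⁻¹)) := by
    obtain ⟨m, hm⟩ := h.isPGroup b
    exact AC.isPGroup_zpowers (k := m) (by rw [conj_pow, ← map_pow, hm]; simp)
  obtain ⟨k, hk, hk'⟩ := (e.syl.of_le hPL le_top).exists_conj hpg (zpowers_le.2 hB)
  have := hL' (k * α) b hb (by simpa [mul_assoc] using hk' _ (mem_zpowers _))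
  exact hα (by simpa using mul_mem (inv_mem hk) this)

theorem NE.lin (e : NE p E 𝒜 c) (h : IsMC p n G) (h5 : 5 ≤ p) (hn : 4 ≤ n) {i j : ℕ} (hi : 1 ≤ i)
    (hE : E = gam G i) (hj : j + 1 ≤ n) (hij : i + 2 ≤ j)
    (hΦ : ∀ x : E, x ∈ frattini E ↔ (x : G) ∈ gam G j)
    (hK : ∀ m, 1 ≤ m → m + 2 ≤ j → K G 1 ≤ K G m) : False := by
  have hG : IsPGroup p E := h.isPGroup.to_subgroup _
  have : Finite (MulAut E) := Finite.of_injective _ MulEquiv.toEquiv_injective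
  obtain ⟨s, hs⟩ := h.exists_U
  obtain ⟨V, _, _, ρ, π, π1, π2, π3, π4, π5⟩ := exists_frep hG 𝒜
  have hE1 : E ≤ gam G 1 := hE.le.trans (gam_anti hi)
  have hN : E.Normal := hE ▸ inferInstance
  have hc : ∀ g (x : E), (ρ (c g) - 1) (π x) = π ⟨⁅g, (x : G)⁆, comm_mem_normal x.2 g⟩ := fun g x => by
    rw [LinearMap.sub_apply, π5, Module.End.one_apply, ← π2]
    exact congrArg π (Subtype.ext (by simp [e.app, commutatorElement_def]))
  have hX : ∀ k (x : E), ∃ y : E, (y : G) = ad s k x ∧ ((ρ (c s) - 1) ^ k) (π x) = π y := by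
    intro k x
    induction k with
    | zero => exact ⟨x, rfl, rfl⟩
    | succ k ih =>
      obtain ⟨y, h1, h2⟩ := ih
      exact ⟨⟨⁅s, (y : G)⁆, comm_mem_normal y.2 s⟩, by rw [ad_succ, ← h1],
        by rw [pow_succ', Module.End.mul_apply, h2, hc]⟩
  have hk : ∀ k (x : E), ((ρ (c s) - 1) ^ k) (π x) = 0 ↔ (x : G) ∈ gam G (j - k) := fun k x => by
    obtain ⟨y, h1, h2⟩ := hX k x
    rw [h2, π4, hΦ, h1]
    refine ⟨fun hh => ?_, fun hh => gam_anti (by omega) (ad_mem hh s k)⟩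
    rcases le_or_gt k j with hkj | hkj
    · exact mem_of_ad h hs (hE1 x.2) k (by omega) (by rwa [Nat.sub_add_cancel hkj])
    · rw [show j - k = 0 by omega]; exact mem_top _
  obtain ⟨x₀, hx, hx'⟩ := h.exists_not_mem (k := i) (by omega)
  have hne : ((ρ (c s) - 1) ^ (j - i - 1)) (π ⟨x₀, hE.ge hx⟩) ≠ 0 := fun hh =>
    hx' (by simpa only [show j - (j - i - 1) = i + 1 by omega] using (hk _ _).1 hh)
  have md : MD ρ ((K G 1).map c) (c s) (j - i) (π ⟨x₀, hE.ge hx⟩) := by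
    refine ⟨⟨LinearMap.ext fun v => ?_, hne, fun v w hv hw h0 => ?_⟩, ?_, ?_⟩
    · obtain ⟨x, rfl⟩ := π1 v
      exact (hk _ x).2 (gam_anti (by omega) (hE.le x.2))
    · obtain ⟨x, rfl⟩ := π1 v
      obtain ⟨y, rfl⟩ := π1 w
      have h1 := (hk 1 x).1 (by rwa [pow_one])
      have h2 := (hk 1 y).1 (by rwa [pow_one])
      obtain ⟨j, rfl⟩ : ∃ k, j = k + 1 := ⟨j - 1, by omega⟩
      rw [Nat.add_sub_cancel] at h1 h2
      obtain ⟨k, hk⟩ := h.gen (by omega) h2 (fun hh => h0 ((π4 y).2 ((hΦ y).2 hh))) h1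
      refine ⟨k, ?_⟩
      rw [← π3, ← sub_eq_zero, ← π2, π4, hΦ, coe_mul, coe_inv, coe_pow,
        ← cls_eq_zero_iff (mul_mem h1 (inv_mem (pow_mem h2 k))), cls_mul h1 (inv_mem (pow_mem h2 k)),
        cls_inv (pow_mem h2 k), cls_pow h2, hk, add_neg_cancel]
    · rintro _ ⟨g, hg, rfl⟩ k v hv
      obtain ⟨x, rfl⟩ := π1 v
      rw [hc, hk]
      rw [hk] at hv
      have hm : (x : G) ∈ gam G (max i (j - (k + 2))) := by
        rcases max_choice i (j - (k + 2)) with e | e <;> rw [e]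
        exacts [hE.le x.2, hv]
      exact gam_anti (by omega) (hK _ (by omega) (by omega) hg _ hm)
    · by_contra hlt
      refine h.pow_not_mem hi hx hx' (by omega) (gam_anti (j := j) (by omega) ?_)
      exact (hΦ (⟨x₀, hE.ge hx⟩ ^ p)).1 (Grp.PFrattini.pow_mem_frattini hG _)
  have hker : ∀ a, ρ a = 1 → (a : MulAut E) ∈ Inn E := fun a ha =>
    e.ess.toRad.mem_inn_of_frattini hG a.2 fun y => by
      have := π2 ((a : MulAut E) y) y
      rw [← π5, ha, Module.End.one_apply, sub_self, π4] at this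
      simpa [mul_assoc] using (inferInstance : (frattini E).Normal).conj_mem _ this y⁻¹
  have hs1 : s ∉ K G 1 := hs 1 (by omega)
  obtain ⟨ψ, ψ1, ψ2, ψ3⟩ : ∃ ψ : G → ZMod p, (∀ x y, ψ (x * y) = ψ x + ψ y) ∧
      (∀ x, ψ x = 0 ↔ x ∈ K G 1) ∧ ψ s = 1 := by
    let θ : G ⧸ K G 1 ≃* Multiplicative (ZMod p) :=
      mulEquivOfPrimeCardEq (h.index_K le_rfl (by omega)) (by simp)
    have h0 : ∀ x : G, (θ x).toAdd = 0 ↔ x ∈ K G 1 := fun x => by
      rw [toAdd_eq_zero, EmbeddingLike.map_eq_one_iff, QuotientGroup.eq_one_iff]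
    have h1 := mt (h0 s).1 hs1
    refine ⟨fun x => (θ x).toAdd / (θ s).toAdd, fun x y => ?_, fun x => ?_, div_self h1⟩
    · simp only [QuotientGroup.mk_mul, map_mul, toAdd_mul, add_div]
    · rw [div_eq_zero_iff, h0, or_iff_left h1]
  have hφ : ∀ g, ψ (Function.invFun c (c g)) = ψ g := fun g => by
    have h1 : c (Function.invFun c (c g) * g⁻¹) = 1 := by
      rw [map_mul, Function.invFun_eq (f := c) ⟨g, rfl⟩, map_inv, mul_inv_cancel]
    have h2 := ψ1 (Function.invFun c (c g) * g⁻¹) g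
    rwa [(ψ2 (_ * g⁻¹)).2 (gam_one_le_K 1 (hE1 (e.inn (by rw [h1]; exact one_mem _)))), zero_add,
      inv_mul_cancel_right] at h2
  have gd : GD c.range ((K G 1).map c) (fun a => ψ (Function.invFun c a)) (c s) := by
    refine ⟨e.syl, ?_, fun y => ⟨?_, ?_⟩, ⟨s, rfl⟩, (hφ s).trans ψ3⟩
    · rintro _ ⟨x, rfl⟩ _ ⟨y, rfl⟩
      simp only [← map_mul, hφ, ψ1]
    · rintro ⟨x, hx, rfl⟩
      exact ⟨⟨x, rfl⟩, (hφ x).trans ((ψ2 x).2 hx)⟩
    · rintro ⟨⟨x, rfl⟩, hx⟩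
      exact ⟨x, (ψ2 x).1 ((hφ x).symm.trans hx), rfl⟩
  have hker' : ∀ a, ρ a = 1 → ∃ m, a ^ p ^ m = 1 := fun a ha => by
    obtain ⟨y, hy⟩ := hker a ha
    obtain ⟨m, hm⟩ := hG y
    exact ⟨m, Subtype.ext (by rw [coe_pow, ← hy, ← map_pow, hm, map_one, coe_one])⟩
  have ht := md.ht gd hker' fun β hβ μ hμ => by
    obtain ⟨γ, hγ⟩ := e.ext β hβ
    have h1 : ∀ x, c (γ x) * β = β * c x := fun x => Subtype.ext (MulEquiv.ext fun y =>
      Subtype.ext (by
        simp only [coe_mul, MulAut.mul_apply, e.app, ← hγ, map_mul, map_inv]))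
    have h2 : ∀ x, γ x * x⁻¹ ∈ gam G 1 := fun x => hE1 (e.inn (hker _ (by
      have h3 : ρ (c (γ x)) * ρ β = ρ (c x) * ρ β := by
        rw [← map_mul, h1, map_mul, hμ]; simp
      have h4 : ρ (c (γ x)) = ρ (c x) := by
        simpa [← map_mul, mul_assoc] using congrArg (· * ρ β⁻¹) h3
      rw [map_mul, map_mul, h4, ← map_mul, ← map_mul, mul_inv_cancel, map_one, map_one])))
    have h3 : γ x₀ * x₀⁻¹ ∈ gam G (i + 1) := by
      rw [← cls_eq_zero_iff (mul_mem (map_mem γ hx) (inv_mem hx)),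
        cls_mul (map_mem γ hx) (inv_mem hx), cls_inv hx, cls_map γ h2 i x₀ hx, add_neg_cancel]
    have h4 := (hk (j - i - 1) ((β : MulAut E) ⟨x₀, hE.ge hx⟩ * ⟨x₀, hE.ge hx⟩⁻¹)).2 (by
      rwa [coe_mul, ← hγ, show j - (j - i - 1) = i + 1 by omega])
    rw [π2, ← π5, hμ, LinearMap.smul_apply, Module.End.one_apply, map_sub, map_smul] at h4
    rw [← sub_eq_zero]
    exact (smul_eq_zero.1 (by rw [sub_smul, one_smul, h4])).resolve_right hne
  have key := UT.main h5 _ rfl md gd ht hker' (by omega)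
  have hle := e.ess.toRad.le_inn (((K G 1).map c).map 𝒜.subtype)
    (((h.isPGroup.to_subgroup _).map _).map _) (map_subtype_le _) (by
      rintro α hα _ ⟨κ, hκ, rfl⟩
      exact ⟨_, conj_mem' (key ⟨α, hα⟩) hκ, rfl⟩)
  obtain ⟨y, hy, hy', -⟩ := h.exists_gen_K hn (hs.mono (by omega))
  exact hy' (comm_mem_succ (hE1 (e.inn (hle ⟨_, ⟨y, hy, rfl⟩, rfl⟩))) s)

theorem NE.not_le (e : NE p E 𝒜 c) (h : IsMC p n G) (h5 : 5 ≤ p) (hn : 4 ≤ n) [E.Normal] :
    ¬ E ≤ gam G 1 := fun hle => by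
  obtain ⟨i, hi, hi', hE⟩ := eq_gam h hle
  obtain ⟨j, hj, hj', hΦ⟩ := eq_gam h (N := (frattini E).map E.subtype)
    ((map_subtype_le _).trans hle)
  have hΦ' : ∀ x : E, x ∈ frattini E ↔ (x : G) ∈ gam G j := fun x => by
    rw [← hΦ]; exact (mem_map_iff_mem E.subtype_injective).symm
  obtain ⟨k, k1, k2, -⟩ := e.ess.card_frattini (n := n - 1 - i) (by rw [hE, h.card_gam hi])
  rw [← card_map_of_injective E.subtype_injective, hΦ, h.card_gam hj] at k2
  have k3 := Nat.pow_right_injective hp.out.two_le k2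
  by_cases hK : j + 2 ≤ n ∨ K G 1 ≤ K G (n - 3)
  · refine e.lin h h5 hn hi hE hj' (by omega) hΦ' fun m h1 h2 => ?_
    rcases (show m + 4 ≤ n ∨ (m = n - 3 ∧ ¬ j + 2 ≤ n) by omega) with h3 | ⟨rfl, h3⟩
    exacts [h.K_one_le_K h1 h3, hK.resolve_left h3]
  push Not at hK
  have hab : ∀ x y : E, x * y = y * x := fun x y => commutatorElement_eq_one_iff_mul_comm.1
    (Subtype.ext (mem_bot.1 ((h.gam_eq_bot_iff.2 (by omega)).le ((hΦ' _).1
      (Grp.PFrattini.commutator_le_frattini (h.isPGroup.to_subgroup _)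
        (commutator_mem_commutator (mem_top x) (mem_top y)))))))
  refine e.exc h (h.exc hn hK.2).2.1 (exc_idx h hn hK.2 hi hi' (fun x hx y hy => ?_) ?_) hE hab
  · exact commutatorElement_eq_one_iff_mul_comm.2
      (congrArg Subtype.val (hab ⟨x, hE.ge hx⟩ ⟨y, hE.ge hy⟩))
  · rw [← hE]; exact e.cen

theorem NE.main (e : NE p E 𝒜 c) (h : IsMC p n G) (h5 : 5 ≤ p) (hn : 4 ≤ n) [E.Normal]
    (hne : E ≠ ⊤) : E.index = p ∧ (E = K G 1 ∨ E = K G (n - 3) ∨ (n = 4 ∧ Nat.card E = p ^ 3 ∧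
      IsExtraspecial p E ∧ Monoid.exponent E = p)) := by
  have h1 := e.not_le h h5 hn
  have h2 := gam_one_le h h1
  obtain ⟨s, hs, hs'⟩ := SetLike.not_le_iff_exists.1 h1
  have hG : IsPGroup p E := h.isPGroup.to_subgroup _
  have hc : Nat.card E = p ^ (n - 1) := by
    have e1 := h.card_le_of_ne_top hne
    have e2 := Grp.MaxClass.mul_card_le_of_lt h.isPGroup (lt_of_le_not_ge h2 h1)
    rw [le_antisymm e1 e2, h.card_gam le_rfl, ← pow_succ']
    congr 1; omega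
  have hi : E.index = p := by
    have := E.card_mul_index
    rw [hc, h.card, show n = n - 1 + 1 by omega, pow_succ, Nat.add_sub_cancel] at this
    exact Nat.eq_of_mul_eq_mul_left (pow_pos hp.out.pos _) this
  have hK : ∀ j, 1 ≤ j → j + 3 ≤ n → s ∈ K G j → E = K G j := fun j hj hj' hh => by
    rw [h.eq_sup hne h2 hs hs', h.eq_sup (h.K_ne_top hj') (gam_one_le_K j) hh hs']
  refine ⟨hi, ?_⟩
  by_cases k1 : s ∈ K G 1
  · exact Or.inl (hK 1 le_rfl hn k1)
  by_cases k2 : s ∈ K G (n - 3)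
  · exact Or.inr (Or.inl (hK _ (by omega) (by omega) k2))
  have hU : U (n - 2) s := fun j hj => by
    rcases (show j = 0 ∨ j = n - 3 ∨ (1 ≤ j ∧ j + 4 ≤ n) by omega) with rfl | rfl | ⟨a, b⟩
    · rwa [h.K_zero]
    · exact k2
    · exact h.not_mem_of_K_le le_rfl (h.K_ne_top (by omega)) (h.K_one_le_K a b) k1
  have hM := isMC_of_U h hn hU h2 hs hc
  rcases hn.eq_or_lt with rfl | hn'
  · refine Or.inr (Or.inr ⟨rfl, hc, ?_⟩)
    rcases e.ess.cube hc with ⟨c1, -⟩ | ⟨-, c1, c2⟩ | ⟨c1, -⟩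
    · refine (k1 fun x hx => ?_).elim
      rw [commutatorElement_eq_one_iff_mul_comm.2 (congrArg Subtype.val (c1 ⟨s, hs⟩ ⟨x, h2 hx⟩))]
      exact one_mem _
    · have : Nontrivial E := Finite.one_lt_card_iff_nontrivial.1
        (hc ▸ Nat.one_lt_pow (by norm_num) hp.out.one_lt)
      exact ⟨c1, (Monoid.exponent_eq_prime_iff hp.out).2 fun g hg => orderOf_eq_prime (c2 g) hg⟩
    · omega
  have i1 := hM.index_K le_rfl (by omega)
  refine (e.ess.not_flag_two hG (M := K E 1) (fun a _ x hx y hy => ?_) i1.dvd ?_).elim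
  · have := map_mem (a : E →* E) (hx _ (map_mem (a⁻¹ : MulAut E) hy))
    simpa [map_commutatorElement] using this
  · refine (relIndex_dvd_of_le_left _ (Grp.PFrattini.commutator_le_frattini hG)).trans ?_
    have e1 := relIndex_mul_index (gam_one_le_K (G := E) 1)
    have e2 := (gam E 1).card_mul_index
    rw [hM.card_eq_sq_mul, mul_comm (p ^ 2)] at e2
    rw [i1, Nat.eq_of_mul_eq_mul_left Nat.card_pos e2, sq] at e1
    exact (Nat.eq_of_mul_eq_mul_right hp.out.pos e1).dvd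

theorem exists_NE (hG : IsPGroup p G) {F : FusionSystem (⊤ : Subgroup G)} (hF : F.IsSaturated p)
    {E : Subgroup G} [E.Normal] (hE : F.IsEssential p E) :
    ∃ c : G →* F.autGroup E, NE p E (F.autGroup E) c := by
  have hS : IsPGroup p (⊤ : Subgroup G) := hG.to_subgroup _
  have hA := autInducedBy_le_autGroup F (P := E) le_top
  have hT : ∀ α : MulAut E, α ∈ autInducedBy ⊤ E ↔ ∃ g, MulAut.conjNormal g = α := fun α => by
    rw [mem_autInducedBy_iff]
    exact ⟨fun ⟨g, _, e⟩ => ⟨g, MulEquiv.ext fun x => Subtype.ext (e x).symm⟩,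
      fun ⟨g, e⟩ => ⟨g, trivial, fun x => e ▸ rfl⟩⟩
  let c : G →* F.autGroup E := MulAut.conjNormal.codRestrict _ fun g => hA ((hT _).2 ⟨g, rfl⟩)
  have hc : ∀ α : F.autGroup E, α ∈ c.range ↔ (α : MulAut E) ∈ autInducedBy ⊤ E := fun α => by
    rw [hT]
    exact ⟨fun ⟨g, e⟩ => ⟨g, congrArg Subtype.val e⟩, fun ⟨g, e⟩ => ⟨g, Subtype.ext e⟩⟩
  have hN : ∀ g, g ∈ FusionSystem.normalizerIn ⊤ E := fun g => ⟨trivial, le_normalizer_of_normal (mem_top g)⟩
  refine ⟨c, fun _ _ => rfl, ess_of_essential hS hF hE, ?_, fun g hg => isCentric_self hE.1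
    ⟨trivial, fun x hx => (commutatorElement_eq_one_iff_mul_comm.1 (hg x hx)).symm⟩,
    fun β hβ => ?_, (extAut F E).subgroupOf _,
    fun e => essential_not_le_extAut hS hF hE (subgroupOf_eq_top.1 e), fun α g hg hα => ?_⟩
  · obtain ⟨R, hR⟩ := (sat_fullyAutomized hS hF hE.2.1).2
    exact sylIn_top_iff.2 ⟨R, hR.trans (Subgroup.ext fun α => (hc α).symm)⟩
  · obtain ⟨α, -, e⟩ := P5.ext_norm hS hF hE.1 β.2 fun t ht =>
      (hc _).1 (conj_mem' hβ ((hc ⟨t, hA ht⟩).2 ht))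
    exact ⟨MonoidHom.mk' (afn α) fun x y => afn_map_mul α (hN x) (hN y),
      fun x => (e x x.2).trans (afn_coe _ x)⟩
  · exact mem_extAut α.2 fun hle => hg (hle (mem_Nf_afn (hN g) ((hc _).1 hα)))

end Cfsg.Agent.Fus.MCN
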