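import Cfsg.Agent.Fus.MCa3G
import Cfsg.Agent.FT.Metacyclic

/-! Essential subgroups of `p`-groups of maximal class are not elementary abelian of order
`p ^ 3` (for `p ≥ 5`, order at least `p ^ 5`). -/

set_option autoImplicit false
set_option linter.unusedSectionVars false

namespace Cfsg.Agent.Fus.MCA

open Subgroup FGS.LcsLie MC P5 Cfsg.FusionSystem AC
open scoped commutatorElement

universe u

theorem t3 {Ω : Type*} [Group Ω] {S : Subgroup Ω} {F : FusionSystem S} {E : Subgroup Ω}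
    {p : ℕ} [hp : Fact p.Prime] [Finite S] (hS : IsPGroup p S) (hF : F.IsSaturated p) (hp2 : p ≠ 2)
    (hE : F.IsEssential p E) (hc : Nat.card E = p ^ 3) (hΦ : frattini E = ⊥)
    (hbig : p ^ 5 ≤ Nat.card S) {N R : Subgroup Ω} (eN : N = normalizerIn S E)
    (eR : R = normalizerIn S N) (hcard : Nat.card R = p ^ 5)
    (hNA : ∀ A : Subgroup R, A.index = p → ¬ ∀ a ∈ A, ∀ b ∈ A, a * b = b * a)
    (hext : ∀ α ∈ F.autGroup N, ∃ γ ∈ F.autGroup R, ∀ x ∈ N, afn γ x = afn α x) : p = 3 := by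
  subst eN
  obtain ⟨hN, s, hs, hs', i2, hW, t, z, D, hT, t1, hz, d1, d2, d3, d4⟩ :=
    a3_setup hS hF hE hc hΦ hbig
  rw [← eR] at hs
  have hES := hE.1.1
  have hEN := le_normalizerIn hES
  have hNR : normalizerIn S E ≤ R := eR ▸ le_normalizerIn (normalizerIn_le S E)
  have hER := hEN.trans hNR
  have : Finite R := eR ▸ inferInstance
  have : Finite E := finite_of_le hES
  have : Finite (MulAut E) := finite_mulAut hES
  have hiN := relIndex_of_card hcard hNR hN
  set N := normalizerIn S E with hNdef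
  have hpres : ∀ {γ : MulAut R} {α : MulAut N}, (∀ x ∈ N, afn γ x = afn α x) →
      ∀ g ∈ N.subgroupOf R, γ g ∈ N.subgroupOf R := fun {γ α} e g hg => by
    rw [mem_subgroupOf, ← afn_coe, e g hg]; exact afn_mem α hg
  have hG := isPGroup_of_le hS hES
  have ha := sat_fullyAutomized hS hF hE.2.1
  obtain ⟨x, y, -, y1, -, -, y2⟩ := (ess_of_essential hS hF hE).tor hG d1 (hΦ ▸ bot_le)
    (by rw [hΦ, relIndex_bot_left, d2]) (Nat.eq_of_mul_eq_mul_left hp.out.pos (by
      rw [← pow_succ', ← hc, ← D.card_mul_index, d2])) ha.2 (autInducedBy_le_autGroup F hES)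
  have hcen : ∀ u : E, inclusion hER u ∈ centralizer (N.subgroupOf R : Set R) ↔ t u = u :=
    fun u => (mem_cen hNR).trans ⟨fun h => by
      obtain ⟨g, hg, e⟩ := exists_conjAut_eq (hT.ge (mem_zpowers t))
      exact e ▸ Subtype.ext (by simpa [mul_inv_eq_iff_eq_mul] using h g hg), fun h g hg => by
      have := congrArg Subtype.val (mem_fix.1 ((fix_zpowers t).ge h) _
        (hT.le (conjAut_mem_autInducedBy hg)))
      simpa [mul_inv_eq_iff_eq_mul] using this⟩
  have hCE : ∀ u : R, u ∈ centralizer (N.subgroupOf R : Set R) → (u : Ω) ∈ E := fun u hu =>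
    isCentric_self hE.1 ⟨(eR.le u.2).1, fun x hx => (mem_cen hNR).1 hu x (hEN hx)⟩
  refine (a3_core' hcard hp2 hiN (by
      have l : E.comap (MulAut.conj s).toMonoidHom ⊓ E ≤ R := inf_le_right.trans hER
      have c := Grp.card_inf_mul_relIndex' (E.comap (MulAut.conj s).toMonoidHom) E
      rw [i2, hc, pow_succ, ← Nat.card_congr (subgroupOfEquivOfLe l).toEquiv] at c
      rw [← Nat.eq_of_mul_eq_mul_right hp.out.pos c]
      exact card_le_of_le fun u hu => ⟨hEN hu.2, (mem_cen hNR).2 (hW u hu.2 hu.1)⟩)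
      hNA (s := ⟨s, hs⟩) hs' (w := inclusion hER y) (hEN y.2)
      (fun h => (essential_cond hE ha).1 fun τ hτ => y1 τ hτ ?_) fun b hb => ?_).1
  · obtain ⟨g, hg, rfl⟩ := exists_conjAut_eq hτ
    have := hW y y.2 (by simpa [commutatorElement_def] using mul_mem (hCE _ h) y.2) g hg
    rw [show conjAut E g hg.2 y = y from Subtype.ext (by simp [this])]
    simp
  obtain ⟨a, ha⟩ := exists_inv_int hb
  obtain ⟨β, hβ, b1, -, b2, b3⟩ := y2 a b ha
  obtain ⟨α, hα, e⟩ := ext_norm hS hF hE.1 hβ b1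
  obtain ⟨γ, hγ, e'⟩ := hext α hα
  have e'' : ∀ x ∈ E, afn γ x = afn β x := fun x hx => (e' x (hEN hx)).trans (e x hx)
  refine ⟨γ, hpres e', ?_, fun u hu hu' => ?_⟩
  · rw [incl_ext hER e'', ← map_zpow, ← map_inv, ← map_mul, hcen]; exact d3 b2
  have hzL : inclusion hER z ∈ ⁅N.subgroupOf R, N.subgroupOf R⁆ := by
    obtain ⟨v, hv⟩ : ∃ v, v⁻¹ * t v ≠ 1 := by
      by_contra! h
      exact t1 (MulEquiv.ext fun v => (inv_mul_eq_one.1 (h v)).symm)
    obtain ⟨j, hj⟩ := exists_zpow_of_mem_zpowers hz.pow (hz.mem v) hv (mem_zpowers z)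
    obtain ⟨g, hg, e⟩ := exists_conjAut_eq (hT.ge (mem_zpowers t))
    rw [← hj, map_zpow]
    refine zpow_mem ?_ j
    convert commutator_mem_commutator (H₁ := N.subgroupOf R) (H₂ := N.subgroupOf R)
      (g₁ := inclusion hER v⁻¹) (g₂ := ⟨g, hNR hg⟩) (hEN v⁻¹.2) hg using 1
    exact Subtype.ext (by simp [e, commutatorElement_def, mul_assoc])
  obtain ⟨d, hd, v, hv, e1⟩ := d4 ⟨u, hCE u hu'⟩ ((hcen _).1 hu')
  have e2 : u = inclusion hER d * inclusion hER v := by rw [← map_mul, ← e1]; rfl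
  have hv' : inclusion hER v ∈ ⁅N.subgroupOf R, N.subgroupOf R⁆ := by
    obtain ⟨i, rfl⟩ := hv
    simpa using zpow_mem hzL i
  have hI : AC.Inv (zpowers γ) (N.subgroupOf R) := inv_zpowers (hpres e')
  have e3 := (inv_mul_eq_one.1 (mem_bot.1 (hΦ.le (b3 d hd)))).symm
  rw [e2, map_mul, incl_ext hER e'', e3, mul_inv_rev, mul_assoc, inv_mul_cancel_left]
  exact mul_mem (inv_mem hv') (hI.commutator hI γ (mem_zpowers γ) _ hv')

variable {G : Type u} [Group G] [Finite G] {p n : ℕ} [hp : Fact p.Prime]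
  {F : FusionSystem (⊤ : Subgroup G)} {E P Q Y : Subgroup G} {f : G → G}

theorem nI (P : Subgroup G) : normalizerIn ⊤ P = normalizer (P : Set G) := top_inf_eq _

theorem cen_img (hE : F.IsCentric E) (hf : IsMap F E f) (g : G)
    (hg : ∀ x ∈ img E f, ⁅x, g⁆ = 1) : g ∈ img E f := hE.2 _ hf.isConj
  ⟨trivial, fun x hx => commutatorElement_eq_one_iff_mul_comm.1 (hg x hx)⟩

theorem norm_img (hf : IsMap F Q f) (hP : normalizer (P : Set G) ≤ Q) :
    img (normalizer (P : Set G)) f ≤ normalizer (img P f : Set G) := img_le_iff.2 fun _ hx =>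
  (hf.mem_normalizerIn_img (le_normalizer.trans hP) (hP hx) ⟨trivial, hx⟩).2

theorem Gd.img (hE : F.IsEssential p E) (g : Gd p E) (hf : IsMap F Q f)
    (hQ : normalizer (E : Set G) ≤ Q) : Gd p (img E f) := by
  have hf' := hf.mono (le_normalizer.trans hQ)
  refine ⟨hf'.card_img.trans g.card, fun y => ⟨cen_img hE.1 hf' y, fun hy x hx => ?_⟩,
    fun x hx => ?_, le_antisymm ?_ ?_⟩
  · obtain ⟨a, ha, rfl⟩ := hf'.mem_img.1 hx
    obtain ⟨b, hb, rfl⟩ := hf'.mem_img.1 hy
    rw [← hf'.homOn.map_commutator ha hb, (g.cen b).2 hb a ha, hf.map_one]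
  · obtain ⟨a, ha, rfl⟩ := hf'.mem_img.1 hx
    rw [← hf'.map_pow ha, g.exp a ha, hf.map_one]
  · simpa only [nI, g.nor] using hE.2.1.2 _ hf'.isConj
  · rw [← g.nor, ← (hf.mono hQ).card_img]
    exact card_le_of_le (norm_img hf hQ)

theorem St.inv (s : St E P Y) (β : MulAut P) : ∀ y ∈ Y, afn β y ∈ Y := fun y hy => by
  refine ((s.eq.ge.trans (sup_le (commutator_le.2 fun a ha b hb => ?_) fun x hx => ?_) :
    Y ≤ (homOn_afn β).pre Y) hy).2
  · exact ⟨mul_mem (mul_mem (mul_mem ha hb) (inv_mem ha)) (inv_mem hb), by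
      rw [(homOn_afn β).map_commutator ha hb]
      exact s.eq.le (mem_sup_left (commutator_mem_commutator (afn_mem β ha) (afn_mem β hb)))⟩
  · refine ⟨hx.1, s.eq.le (mem_sup_right ⟨afn_mem β hx.1, fun a ha => ?_⟩)⟩
    have ha' := afn_mem β⁻¹ ha
    rw [← afn_afn_inv β ha, ← homOn_afn β _ ha' _ hx.1, ← homOn_afn β _ hx.1 _ ha', hx.2 _ ha']

theorem St.le_P (s : St E P Y) : Y ≤ P := s.eq.ge.trans
  (sup_le (commutator_le.2 fun _ ha _ hb =>
    mul_mem (mul_mem (mul_mem ha hb) (inv_mem ha)) (inv_mem hb)) inf_le_left)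

variable (h : IsMC p n G) (hn : 5 ≤ n) (hF : F.IsSaturated p) (hE : F.IsEssential p E)
  (g : Gd p E)
include h hn hE g

theorem ngF (hf : IsMap F E f) : ¬ ∀ x ∈ E, f x ∈ gam G 1 := fun hle =>
  ng h hn (hf.card_img.trans g.card) (cen_img hE.1 hf)
    (by simpa only [nI, g.nor] using hE.2.1.2 _ hf.isConj) (img_le_iff.2 hle)

theorem invF (s : St E P Y) : AC.Inv (F.autGroup P) ((gam G 1).subgroupOf P) := fun α hα w hw => by
  by_contra hu
  obtain ⟨a, ha⟩ := s.conj _ (α w).2 hu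
  have hle : Y ⊔ zpowers (α w : G) ≤ (homOn_afn α⁻¹).pre (gam G 1) :=
    sup_le (fun y hy => ⟨s.le_P hy, s.le' (s.inv _ y hy)⟩)
      (zpowers_le.2 ⟨(α w).2, by rw [afn_coe, MulAut.inv_apply_self]; exact hw⟩)
  exact ngF h hn hE g ((isMap_afn le_top (inv_mem hα)).comp' (isMap_conj F le_top (mem_top a))
    fun x hx => (hle (ha x hx)).1) fun x hx => (hle (ha x hx)).2

theorem fn2 (hf : IsMap F P f) (hP : E ≤ P) (hc : Nat.card P = p ^ (n - 2)) :
    Nat.card (normalizer (img P f : Set G)) ≤ p ^ (n - 1) := by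
  by_cases hN : normalizer (img P f : Set G) = ⊤
  · have := normalizer_eq_top_iff.1 hN
    have h1 := (img P f).card_mul_index
    rw [hf.card_img, hc, h.card, show n = n - 2 + 2 by omega, pow_add, Nat.add_sub_cancel] at h1
    have h2 : gam G 1 = img P f := eq_of_le_of_card_ge (FT.R2.commutator_le_of_index_le_sq
      h.isPGroup _ (Nat.eq_of_mul_eq_mul_left (pow_pos hp.out.pos _) h1).le)
      (by rw [hf.card_img, hc, gam_eq h (k := n - 2) le_rfl (by omega)])
    exact (ngF h hn hE g (hf.mono hP) fun x hx => h2.ge (mem_img_of_mem f (hP hx))).elim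
  · have := Grp.MaxClass.mul_card_le_of_lt h.isPGroup (lt_top_iff_ne_top.2 hN)
    rw [card_top, h.card, show n = n - 1 + 1 by omega, pow_succ'] at this
    exact Nat.le_of_mul_le_mul_left this hp.out.pos

include hF

theorem step (s : St E P Y) (hP : F.IsFullyNormalized P)
    (a1 : ∀ a ∈ normalizer (P : Set G), ∀ w ∈ P, w ∈ gam G 1 → ⁅a, w⁆ ∈ Y)
    (a2 : ∀ a ∈ normalizer (P : Set G), ∀ y ∈ Y, ⁅a, y⁆ ∈ ⁅P, P⁆) :
    ∀ α ∈ F.autGroup P, ∃ γ ∈ F.autGroup (normalizerIn ⊤ P), ∀ x ∈ P, afn γ x = afn α x := by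
  have hS : IsPGroup p (⊤ : Subgroup G) := h.isPGroup.to_subgroup _
  have hG : IsPGroup p P := h.isPGroup.to_subgroup _
  have : Finite (MulAut P) := finite_mulAut (S := ⊤) le_top
  let C : ℕ → Subgroup P := fun i => match i with
    | 0 => commutator P | 1 => Y.subgroupOf P | 2 => (gam G 1).subgroupOf P | _ => ⊤
  have hC : ∀ i, AC.Inv (F.autGroup P) (C i) := fun i => match i with
    | 0 => inv_of_char _ (commutator P)
    | 1 => fun α _ x hx => mem_subgroupOf.2 (afn_coe α x ▸ s.inv α x hx)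
    | 2 => invF h hn hE g s
    | _ + 3 => inv_top _
  have hA := autInducedBy_le_autGroup F (P := P) le_top
  have e : stabPairs (F.autGroup P) C (fun i => C (i + 1)) hC (fun i => hC (i + 1)) =
      autInducedBy ⊤ P := by
    refine SylIn.eq_of_le (sat_fullyAutomized hS hF hP).2 hA (isPGroup_of_coprime fun α hα ho =>
      eq_one_of_chain hG ho C 3 rfl (Grp.PFrattini.commutator_le_frattini hG)
        (fun i _ => hC i α hα.1) fun i _ => hα.2 i) (fun t ht => ⟨hA ht, ?_⟩) fun _ h => h.1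
    obtain ⟨a, ha, rfl⟩ := exists_conjAut_eq ht
    have e1 : ∀ y : P, ((y⁻¹ * conjAut P a ha.2 y : P) : G) = ⁅a, (y : G)⁻¹⁆⁻¹ := fun y => by
      simp [commutatorElement_def, mul_assoc]
    intro i y hy
    match i with
    | 0 =>
      exact (mem_map_iff_mem P.subtype_injective).1 ((map_subtype_commutator P).ge
        ((e1 y).symm ▸ inv_mem (a2 a ha.2 _ (inv_mem hy)) :))
    | 1 => exact mem_subgroupOf.2 (e1 y ▸ inv_mem (a1 a ha.2 _ (inv_mem y.2) (inv_mem hy)))
    | 2 => exact mem_subgroupOf.2 (e1 y ▸ inv_mem (comm_mem_succ (j := 0) (mem_top _) a))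
    | _ + 3 => trivial
  exact fun α hα => ext_norm hS hF (isCentric_of_le hE.1 s.le le_top) hα fun t ht =>
    e.le (conj_mem_stabPairs hα (e.ge ht))

omit hF in
theorem fnA {e : G} (heE : e ∈ E) (h1 : e ∉ K G 1) {k : ℕ} (hk : 1 ≤ k) (hk' : k + 5 ≤ n) :
    F.IsFullyNormalized (gam G (k + 1) ⊔ zpowers e) := by
  obtain ⟨h6, -, -, eE, -⟩ := typeA h hn g heE h1
  have he := g.exp e heE
  refine ⟨le_top, fun Q hQ => ?_⟩
  obtain ⟨f, hf, rfl⟩ := isConj_iff.1 hQ
  have hle : ∀ {i}, k + 1 ≤ i → gam G i ⊔ zpowers e ≤ gam G (k + 1) ⊔ zpowers e := fun hi =>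
    sup_le_sup_right (gam_anti hi) _
  have eN : normalizer (E : Set G) = gam G (n - 4) ⊔ zpowers e := by
    rw [eE, ← norm_P h h6 he h1 (j := n - 4) (by omega) (by omega), show n - 4 + 1 = n - 3 by omega]
  have g' := g.img hE hf (eN.le.trans (hle (by omega)))
  rw [nI, nI, norm_P h h6 he h1 hk (by omega), card_P h h6 he h1 hk (by omega)]
  by_cases hK : img E f ≤ K G 1
  · obtain ⟨rfl, -⟩ := typeB h h6 g' hK
    obtain rfl : k = 1 := by omega
    exact fn2 h hn hE g hf (eE.le.trans (hle (by norm_num)))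
      (card_P h h6 he h1 (by norm_num) (by norm_num))
  obtain ⟨e', he', h1'⟩ := SetLike.not_le_iff_exists.1 hK
  obtain ⟨-, -, -, eE', -⟩ := typeA h hn g' he' h1'
  have hp' := g'.exp e' he'
  have key : ∀ d i, i + d + 3 = n → k + 1 ≤ i →
      img (gam G i ⊔ zpowers e) f = gam G i ⊔ zpowers e' := by
    intro d
    induction d with
    | zero =>
      intro i hi _
      obtain rfl : i = n - 3 := by omega
      rw [← eE, ← eE']
    | succ d ih =>
      intro i hi hi'
      refine eq_of_le_of_card_ge ?_ (by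
        rw [(hf.mono (hle hi')).card_img, card_P h h6 he h1 (by omega) (by omega),
          card_P h h6 hp' h1' (by omega) (by omega)])
      have e1 := norm_P h h6 he h1 (j := i) (by omega) (by omega)
      rw [← norm_P h h6 hp' h1' (j := i) (by omega) (by omega), ← ih _ (by omega) (by omega), ← e1]
      exact norm_img hf (e1.le.trans (hle hi'))
  rw [key (n - 4 - k) _ (by omega) le_rfl, norm_P h h6 hp' h1' hk (by omega),
    card_P h h6 hp' h1' hk (by omega)]

theorem tower {e : G} (heE : e ∈ E) (h1 : e ∉ K G 1) {β : MulAut E} (hβ : β ∈ F.autGroup E)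
    (hT : ∀ t ∈ autInducedBy ⊤ E, β * t * β⁻¹ ∈ autInducedBy ⊤ E) (d j : ℕ) (hj : j + d + 4 = n)
    (hj' : 1 ≤ j) : ∃ α ∈ F.autGroup (gam G j ⊔ zpowers e), ∀ x ∈ E, afn α x = afn β x := by
  obtain ⟨h6, -, h3, eE, -⟩ := typeA h hn g heE h1
  have he := g.exp e heE
  have e1 := norm_P h h6 he h1 hj' (by omega)
  rw [← e1, ← nI]
  induction d generalizing j with
  | zero =>
    rw [show j + 1 = n - 3 by omega, ← eE]
    exact ext_norm (h.isPGroup.to_subgroup _) hF hE.1 hβ hT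
  | succ d ih =>
    have s := stA h hn g heE h1 (j := j + 1) (by omega) (by omega)
    have e2 := norm_P h h6 he h1 (j := j + 1) (by omega) (by omega)
    obtain ⟨α, hα, eα⟩ : ∃ α ∈ F.autGroup (gam G (j + 1) ⊔ zpowers e), ∀ x ∈ E,
        afn α x = afn β x := by
      have := ih (j + 1) (by omega) (by omega) e2
      rwa [nI, e2] at this
    obtain ⟨γ, hγ, eγ⟩ := step h hn hF hE g s (fnA h hn hE g heE h1 hj' (by omega))
      (fun a _ w hw hw' => comm_mem_succ (inf_gam h (gam_anti (by omega)) he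
        (fun e' => h1 (gam_one_le_K 1 e')) hw hw') a) (fun a ha y hy => by
        have hy' := s.eq.ge hy
        rw [cen_P h h6 he h1 h3 (by omega) (by omega), ← SetLike.mem_coe, mul_normal] at hy'
        obtain ⟨c, hc, z, hz, rfl⟩ := hy'
        have := commutatorElement_eq_one_iff_mul_comm.1
          (comm_last h (by omega) (P_le h h6 he h1 h3 hj' (e1.le ha)) hz)
        have hc' := mem_comap.1 ((show ⁅_, _⁆ ≤ comap (MulAut.conj a).toMonoidHom ⁅_, _⁆ from
          commutator_le.2 fun x hx y hy => by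
            rw [mem_comap, map_commutatorElement]
            exact commutator_mem_commutator ((ha x).1 hx) ((ha y).1 hy)) hc)
        convert mul_mem hc' (inv_mem hc) using 1
        rw [show ⁅a, (fun x y => x * y) c z⁆ = a * c * a⁻¹ * (a * z) * (z * a)⁻¹ * c⁻¹ by
          simp [commutatorElement_def, mul_assoc], this]
        simp [mul_assoc]) α hα
    exact ⟨γ, hγ, fun x hx => (eγ x (s.le hx)).trans (eα x hx)⟩

omit g in
theorem no_a3 (hp5 : 5 ≤ p) (hc : Nat.card E = p ^ 3) (hcm : ∀ x y : E, x * y = y * x)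
    (hpw : ∀ x : E, x ^ p = 1) : False := by
  have hS : IsPGroup p (⊤ : Subgroup G) := h.isPGroup.to_subgroup _
  have hG : IsPGroup p E := h.isPGroup.to_subgroup _
  have hΦ : frattini E = ⊥ := le_bot_iff.1 ((Grp.PFrattini.frattini_le_iff hG).2
    ⟨commutator_le.2 fun a _ b _ => commutatorElement_eq_one_iff_mul_comm.2 (hcm a b), hpw⟩)
  have hbig : p ^ 5 ≤ Nat.card (⊤ : Subgroup G) := by
    rw [card_top, h.card]; exact Nat.pow_le_pow_right hp.out.pos hn
  obtain ⟨hN, -, -, -, -, -, t, z, -, hT, t1, hz, -⟩ := a3_setup hS hF hE hc hΦ hbig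
  have g : Gd p E := ⟨hc, fun a => ⟨fun ha => isCentric_self hE.1
    ⟨trivial, fun x hx => commutatorElement_eq_one_iff_mul_comm.1 (ha x hx)⟩, fun ha x hx =>
      commutatorElement_eq_one_iff_mul_comm.2 (congrArg Subtype.val (hcm ⟨x, hx⟩ ⟨a, ha⟩))⟩,
    fun x hx => congrArg Subtype.val (hpw ⟨x, hx⟩), nI E ▸ hN⟩
  rcases hn.eq_or_lt with rfl | h6
  · obtain ⟨s, hn', a2, hA⟩ := typeB5 h g
    have c : Nat.card (normalizerIn ⊤ (normalizer (E : Set G))) = p ^ 5 := by
      rw [nI, normalizer_eq_top, card_top, h.card]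
    have := t3 hS hF (by omega) hE hc hΦ hbig (nI E).symm rfl c (noAb h (fun A _ => hA A) c)
      (step h hn hF hE g s (fullyNormalized_of_le_normalizer F le_top (normalizer_eq_top _).ge)
        (fun a _ w _ hw => comm_mem_succ hw a) fun a _ => a2 a)
    omega
  by_cases hK : E ≤ K G 1
  · obtain ⟨rfl, s, eN, a1, hA⟩ := typeB h h6 g hK
    have c : Nat.card (normalizerIn ⊤ (normalizer (E : Set G))) = p ^ 5 := by
      rw [nI, eN, card_K h le_rfl (by norm_num)]
    have := t3 hS hF (by omega) hE hc hΦ hbig (nI E).symm rfl c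
      (noAb h (fun A h' => hA A (h'.trans ((nI _).trans eN).le)) c)
      (step h hn hF hE g s ⟨le_top, fun Q hQ => by
        obtain ⟨f, hf, rfl⟩ := isConj_iff.1 hQ
        rw [c, nI]
        exact fn2 h hn hE g hf s.le g.nor⟩ (fun a ha w hw hw' => (a1 a (eN.le ha) w hw hw').1)
        fun a ha y hy => (a1 a (eN.le ha) y (s.le_P hy) hy.2).2)
    omega
  obtain ⟨e, he, h1⟩ := SetLike.not_le_iff_exists.1 hK
  obtain ⟨-, -, h3, eE, -⟩ := typeA h hn g he h1
  have hep := g.exp e he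
  have : Finite (MulAut E) := finite_mulAut (S := ⊤) le_top
  have ha := sat_fullyAutomized hS hF hE.2.1
  have ht := autInducedBy_le_autGroup F (P := E) le_top (hT.ge (mem_zpowers t))
  obtain ⟨D, w, -, -, -, -, h5, -, h7, h8, ⟨β, hβ, b1, b2⟩, -⟩ := hz.structure_thm hG hcm ht
    (hT ▸ ha.2) (by
      by_contra! h
      obtain ⟨y, hy⟩ := (ess_of_essential hS hF hE).toRad.le_inn (zpowers t)
        (hT ▸ isPGroup_autInducedBy hS E) (zpowers_le.2 ht) (by
          rintro α hα _ ⟨i, rfl⟩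
          simp only
          rw [← conj_zpow]; exact zpow_mem (h α hα) i) (mem_zpowers t)
      exact t1 (hy ▸ MulEquiv.ext fun x => by simp [hcm y x]))
  obtain ⟨α, hα, eα⟩ := tower h hn hF hE g he h1 hβ (by
    rw [hT]
    rintro _ ⟨i, rfl⟩
    simp only
    rw [← conj_zpow]
    exact zpow_mem (hz.conj_mem hG ht (hT ▸ ha.2) hβ (by
      rw [b2 z (mem_sup_left (mem_zpowers z)), map_inv, hz.fix])) i) (n - 5) 1 (by omega) le_rfl
  have eN : normalizerIn ⊤ E = gam G (n - 4) ⊔ zpowers e := by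
    rw [nI, eE, ← norm_P h h6 hep h1 (j := n - 4) (by omega) (by omega), show n - 4 + 1 = n - 3 by omega]
  have eC := cen_P h h6 hep h1 h3 (j := n - 4) (by omega) (by omega)
  rw [← eN] at eC
  have hcen : ∀ u : E, t u = u ↔ (u : G) ∈ gam G (n - 3) := fun u => ⟨fun hu => eC.le
    ⟨le_normalizerIn le_top u.2, fun a ha => by
      have := congrArg Subtype.val (mem_fix.1 ((fix_zpowers t).ge hu) _
        (hT.le (conjAut_mem_autInducedBy ha)))
      simpa [mul_inv_eq_iff_eq_mul] using this⟩, fun hu => by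
    obtain ⟨a, ha, e⟩ := exists_conjAut_eq (hT.ge (mem_zpowers t))
    exact e ▸ Subtype.ext (by simpa [mul_inv_eq_iff_eq_mul] using (eC.ge hu).2 a ha)⟩
  have ez : ∀ {v : E}, v ∈ zpowers z → (v : G) ∈ zpowers (z : G) := by
    rintro _ ⟨i, rfl⟩
    exact ⟨i, by simp⟩
  refine finalA h hn (by omega) g he h1 (f := afn α) ((homOn_afn α).mono (K_last h h6 hep h1 h3).le)
    (fun x hx => by
      rw [afn_apply α (mem_sup_left hx)]
      exact invF h hn hE g (stA h hn g he h1 le_rfl (by omega)) α hα _ hx)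
    (fun x hx => eα x hx ▸ afn_mem β hx) (D := D.map E.subtype) (z := z)
    (congrArg Subtype.val hz.pow) ?_ ?_ z.2 ?_ (fun v hv => ?_) fun a ha => ?_
  · rintro _ ⟨i, rfl⟩
    have := congrArg Subtype.val (b2 _ (mem_sup_left (zpow_mem (mem_zpowers z) i)))
    rwa [← afn_coe, ← eα _ (z ^ i).2] at this
  · rintro _ ⟨d, hd, rfl⟩
    exact ⟨(eα d d.2).trans ((afn_coe β d).trans (congrArg Subtype.val (b1 d hd))), d.2⟩
  · obtain ⟨d, hd, v, hv, e1⟩ := h7 ⟨e, he⟩
    have : (⟨e, he⟩ : E) * β ⟨e, he⟩ = d * d := by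
      rw [e1, map_mul, b1 d hd, b2 v hv, hcm d v⁻¹, mul_assoc, mul_inv_cancel_left]
    rw [eα e he, afn_apply β he]
    have hd' := gam_anti (show 1 ≤ n - 3 by omega) ((hcen d).1 (h5 hd))
    exact (congrArg (fun x : E => (x : G) ∈ gam G 1) this).mpr (mul_mem hd' hd')
  · have hv' := eN.ge (mem_sup_left hv)
    simpa [commutatorElement_def, mul_assoc] using
      ez (hz.mem_of_mem_zpowers (hT.le (conjAut_mem_autInducedBy hv')) ⟨e, he⟩⁻¹)
  · obtain ⟨d, hd, v, hv, e1⟩ := h8 ⟨a, eE.ge (mem_sup_left ha)⟩ ((hcen _).2 ha)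
    exact ⟨d, ⟨d, hd, rfl⟩, v, ez hv, congrArg Subtype.val e1⟩

end Cfsg.Agent.Fus.MCA
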