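import Cfsg.Agent.Fus.MCExc
import Cfsg.Agent.Fus.P5Main

/-! Self-centralising elementary abelian subgroups of order `p ^ 3` in `p`-groups of maximal
class: the group theory. -/

set_option autoImplicit false
set_option linter.unusedSectionVars false

namespace Cfsg.Agent.Fus.MCA

open Subgroup FGS.LcsLie MC P5
open scoped commutatorElement

universe u

variable {G : Type u} [Group G] [Finite G] {p n : ℕ} [hp : Fact p.Prime] {E H : Subgroup G}

theorem conj_mem_of_comm {g x : G} (hx : x ∈ H) (h : ⁅g, x⁆ ∈ H) : g * x * g⁻¹ ∈ H := by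
  simpa [commutatorElement_def] using mul_mem h hx

theorem comm_mem_of_norm {g x : G} (hg : g ∈ normalizer (H : Set G)) (hx : x ∈ H) : ⁅g, x⁆ ∈ H :=
  mul_mem ((mem_normalizer_iff.1 hg x).1 hx) (inv_mem hx)

theorem mem_norm {g : G} (h : ∀ x ∈ H, ⁅g, x⁆ ∈ H) : g ∈ normalizer (H : Set G) :=
  (mem_normalizerIn_of_conj (mem_top g) fun x hx => conj_mem_of_comm hx (h x hx)).2

theorem mem_norm_sup {B : Subgroup G} {e g : G} (hH : H = B ⊔ zpowers e)
    (h1 : ∀ b ∈ B, ⁅g, b⁆ ∈ H) (h2 : ⁅g, e⁆ ∈ H) : g ∈ normalizer (H : Set G) :=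
  (mem_normalizerIn_of_conj (P := H) (mem_top g) fun _ hx =>
    (show B ⊔ zpowers e ≤ H.comap (MulAut.conj g).toMonoidHom from sup_le
      (fun b hb => conj_mem_of_comm (hH.ge (mem_sup_left hb)) (h1 b hb))
      (zpowers_le.2 (conj_mem_of_comm (hH.ge (mem_sup_right (mem_zpowers e))) h2))) (hH.le hx)).2

/-- The group theoretic properties of an essential subgroup which is elementary of rank three. -/
structure Gd (p : ℕ) (E : Subgroup G) : Prop where
  card : Nat.card E = p ^ 3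
  cen : ∀ g, (∀ x ∈ E, ⁅x, g⁆ = 1) ↔ g ∈ E
  exp : ∀ x ∈ E, x ^ p = 1
  nor : Nat.card (normalizer (E : Set G)) = p ^ 4

variable (h : IsMC p n G)
include h

theorem comm_last {j : ℕ} (hj : j + 3 = n) {g x : G} (hg : g ∈ K G j) (hx : x ∈ gam G j) :
    ⁅g, x⁆ = 1 := mem_bot.1 ((h.gam_eq_bot_iff.2 (by omega)).le (hg x hx))

theorem comm_cen {j : ℕ} (hj : j + 2 = n) (g : G) {x : G} (hx : x ∈ gam G j) : ⁅g, x⁆ = 1 :=
  mem_bot.1 ((h.gam_eq_bot_iff.2 (by omega)).le (comm_mem_succ hx g))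

theorem card_K {j : ℕ} (hj : 1 ≤ j) (hn : j + 3 ≤ n) : Nat.card (K G j) = p ^ (n - 1) :=
  (card_of_index (by rw [h.card]; congr 1; omega)).1 (h.index_K hj hn)

theorem gam_eq {j k : ℕ} (hj : 1 ≤ j) (hk : j + k + 1 = n) : Nat.card (gam G j) = p ^ k := by
  rw [h.card_gam hj]; congr 1; omega

theorem pow_lt {a b : ℕ} (hab : a < b) : ¬ p ^ b ≤ p ^ a :=
  (Nat.pow_lt_pow_right hp.out.one_lt hab).not_ge

theorem nb (hn : 6 ≤ n) (h1 : H ≤ K G 1) (h2 : gam G (n - 3) ≤ H) :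
    ¬ Nat.card (normalizer (H : Set G)) ≤ p ^ 4 := fun hc => by
  have hK : K G 1 ≤ K G (n - 5) := h.K_one_le_K (by omega) (by omega)
  have e : n - 5 + 2 = n - 3 := by omega
  have h3 : gam G (n - 5) = normalizer (H : Set G) := eq_of_le_of_card_ge
    (fun g hg => mem_norm fun x hx => h2 (comm_symm (e ▸ hK (h1 hx) g hg)))
    (by rwa [gam_eq h (k := 4) (by omega) (by omega)])
  have h4 : K G 1 ≤ gam G (n - 5) := fun g hg => h3.ge (mem_norm fun x hx =>
    h2 (e ▸ hK hg x (h3.ge (le_normalizer hx))))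
  have h5 := card_le_of_le h4
  rw [card_K h le_rfl (by omega), gam_eq h (k := 4) (by omega) (by omega)] at h5
  exact pow_lt h (by omega) h5

theorem ng (hn : 5 ≤ n) (hc : Nat.card E = p ^ 3) (hC : ∀ g, (∀ x ∈ E, ⁅x, g⁆ = 1) → g ∈ E)
    (hN : Nat.card (normalizer (E : Set G)) ≤ p ^ 4) : ¬ E ≤ gam G 1 := fun hle => by
  rcases hn.eq_or_lt with rfl | hn
  · rw [eq_of_le_of_card_ge hle (by rw [hc, gam_eq h (k := 3) le_rfl rfl]),
      normalizer_eq_top, card_top, h.card] at hN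
    exact pow_lt h (by norm_num) hN
  · exact nb h hn (hle.trans (gam_one_le_K 1)) (fun g hg => hC g fun x hx =>
      comm_last h (by omega) (gam_one_le_K _ (hle hx)) hg) hN

theorem mem_of_U {m r : ℕ} {s x : G} (hs : U m s) (hx : x ∈ gam G 1) (hr : r ≤ m)
    (hc : ⁅s, x⁆ ∈ gam G (r + 1)) : x ∈ gam G r := by
  suffices ∀ j, j + 1 ≤ r → x ∈ gam G (j + 1) by
    rcases r with _ | r
    exacts [mem_top _, this r le_rfl]
  intro j hj
  induction j with
  | zero => exact hx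
  | succ j ih =>
    exact h.mem_succ (by omega) (hs _ (by omega)) (ih (by omega)) (gam_anti (by omega) hc)

theorem U_of (hn : 4 ≤ n) {e : G} (he : e ∉ K G 1) : U (n - 3) e := fun j hj => by
  rcases Nat.eq_zero_or_pos j with rfl | h0
  · exact fun e' => he (K_zero_le e')
  · exact h.not_mem_of_K_le le_rfl (h.K_ne_top (by omega)) (h.K_one_le_K h0 (by omega)) he

theorem mem_K_last (hn : 4 ≤ n) (hE : Gd p E) {e : G} (he : e ∈ E) (he' : e ∉ K G 1) :
    e ∈ K G (n - 3) := by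
  by_contra hc
  have h1 : U (n - 2) e := fun j hj => by
    rcases (show j < n - 3 ∨ j = n - 3 by omega) with h2 | rfl
    exacts [U_of h hn he' j h2, hc]
  have h2 := (card_le_of_le (show E ≤ centralizer {e} from fun x hx =>
    mem_centralizer_singleton_iff.2 (commutatorElement_eq_one_iff_mul_comm.1
      ((hE.cen e).2 he x hx)))).trans (h.card_centralizer_le h1)
  exact pow_lt h (by norm_num) (hE.card ▸ h2)

theorem not_dvd {e g : G} (he : e ^ p = 1) (hg : g ∈ gam G 1) {i : ℤ} (hi : g * e ^ i ∉ gam G 1) :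
    ¬ (p : ℤ) ∣ i := fun hd => hi (mul_mem hg (zpow_mem_of_dvd (he ▸ one_mem _) hd))

theorem inf_gam {B : Subgroup G} [B.Normal] (hB : B ≤ gam G 1) {e x : G} (he : e ^ p = 1)
    (he' : e ∉ gam G 1) (hx : x ∈ B ⊔ zpowers e) (hx' : x ∈ gam G 1) : x ∈ B := by
  obtain ⟨b, hb, i, rfl⟩ := Grp.PChain.mem_sup_zpowers.1 hx
  exact mul_mem hb (zpow_mem_of_dvd (he ▸ one_mem _) (dvd_of_zpow_mem he' (he ▸ one_mem _)
    ((mul_mem_cancel_left (hB hb)).1 hx')))

/-- Elements of a coset of `γ₂` are conjugate into `⟨e⟩` modulo `gam (m + 1)`. -/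
theorem exists_conj_mem {m : ℕ} {e u : G} (he : e ^ p = 1) (hU : U m e)
    (hu : u ∈ gam G 1 ⊔ zpowers e) (hu' : u ∉ gam G 1) :
    ∃ g : G, g * e * g⁻¹ ∈ gam G (m + 1) ⊔ zpowers u := by
  obtain ⟨b, hb, i, rfl⟩ := Grp.PChain.mem_sup_zpowers.1 hu
  have hi := not_dvd h he hb hu'
  have hU' : U m (e ^ i) := fun j hj hm => hi (dvd_of_zpow_mem (hU j hj) (he ▸ one_mem _) hm)
  obtain ⟨y, hy⟩ := h.exists_conj hb m hU'
  refine ⟨y, by_contra fun hc => hi (dvd_of_zpow_mem hc (by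
    rw [conj_pow, he]; simp) (k := i) ?_)⟩
  have := mul_mem (mem_sup_right (S := gam G (m + 1)) (mem_zpowers (b * e ^ i)))
    (inv_mem (mem_sup_left (T := zpowers (b * e ^ i)) hy))
  rw [conj_zpow]
  simpa [mul_assoc] using this

section A

variable {e : G} (hn : 6 ≤ n) (he : e ^ p = 1) (h1 : e ∉ K G 1)
include hn he h1

theorem card_P {j : ℕ} (hj : 1 ≤ j) (hj' : j + 3 ≤ n) :
    Nat.card (gam G j ⊔ zpowers e : Subgroup G) = p ^ (n - j) := by
  rw [Grp.PChain.card_sup_zpowers hp.out (fun e' => h1 (gam_one_le_K 1 (gam_anti hj e')))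
    (he ▸ one_mem _), h.card_gam hj, ← pow_succ]
  congr 1; omega

theorem norm_P {j : ℕ} (hj : 1 ≤ j) (hj' : j + 4 ≤ n) :
    normalizer ((gam G (j + 1) ⊔ zpowers e : Subgroup G) : Set G) = gam G j ⊔ zpowers e := by
  have he' : e ∉ gam G 1 := fun e' => h1 (gam_one_le_K 1 e')
  have hU := U_of h (by omega) h1
  have key : ∀ g ∈ normalizer ((gam G (j + 1) ⊔ zpowers e : Subgroup G) : Set G),
      ⁅e, g⁆ ∈ gam G (j + 1) := fun g hg => comm_symm (inf_gam h (gam_anti (by omega)) he he'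
    (comm_mem_of_norm hg (mem_sup_right (mem_zpowers e))) (comm_mem_succ (j := 0) (mem_top _) g))
  refine (eq_of_le_of_card_ge (sup_le (fun g hg => mem_norm_sup rfl (fun b hb => ?_) ?_)
    (zpowers_le.2 (le_normalizer (mem_sup_right (mem_zpowers e))))) ?_).symm
  · exact mem_sup_left (gam_anti (by omega) (comm_mem_succ hb g))
  · exact mem_sup_left (comm_symm (comm_mem_succ hg e))
  · refine (h.card_le_card_inf fun e' => hU 0 (by omega) fun x _ =>
      gam_anti (by omega) (key x (e'.ge trivial))).trans ?_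
    rw [card_P h hn he h1 hj (by omega), show n - j = n - 1 - j + 1 by omega, pow_succ',
      ← h.card_gam hj]
    exact Nat.mul_le_mul_left _ (card_le_of_le fun x hx =>
      mem_of_U h hU hx.2 (by omega) (key x hx.1))

variable (h3 : e ∈ K G (n - 3))
include h3

theorem K_last : K G (n - 3) = gam G 1 ⊔ zpowers e :=
  h.eq_sup (h.K_ne_top (by omega)) (gam_one_le_K _) h3 fun e' => h1 (gam_one_le_K 1 e')

theorem P_le {j : ℕ} (hj : 1 ≤ j) : gam G j ⊔ zpowers e ≤ K G (n - 3) :=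
  sup_le ((gam_anti hj).trans (gam_one_le_K _)) (zpowers_le.2 h3)

theorem cen_P {j : ℕ} (hj : 1 ≤ j) (hj' : j + 4 ≤ n) :
    (gam G j ⊔ zpowers e) ⊓ centralizer ((gam G j ⊔ zpowers e : Subgroup G) : Set G) =
      gam G (n - 3) := by
  have he' : e ∉ gam G 1 := fun e' => h1 (gam_one_le_K 1 e')
  have hU := U_of h (by omega) h1
  refine le_antisymm (fun x hx => ?_) fun x hx => ⟨mem_sup_left (gam_anti (by omega) hx),
    fun y hy => commutatorElement_eq_one_iff_mul_comm.1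
      (comm_last h (by omega) (P_le h hn he h1 h3 hj hy) hx)⟩
  have hx1 : x ∈ K G j := fun y hy => by
    rw [commutatorElement_eq_one_iff_mul_comm.2 (hx.2 y (mem_sup_left hy)).symm]; exact one_mem _
  have hx2 : x ∈ gam G 1 := by
    obtain ⟨b, hb, i, rfl⟩ := Grp.PChain.mem_sup_zpowers.1 hx.1
    exact mul_mem (gam_anti hj hb) (zpow_mem_of_dvd (he ▸ one_mem _)
      (dvd_of_zpow_mem (hU j (by omega)) (he ▸ one_mem _)
        ((mul_mem_cancel_left (gam_one_le_K j (gam_anti hj hb))).1 hx1)))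
  refine mem_of_U h hU hx2 le_rfl ?_
  rw [commutatorElement_eq_one_iff_mul_comm.2 (hx.2 e (mem_sup_right (mem_zpowers e)))]
  exact one_mem _

omit h3 in
theorem gam_le {j k : ℕ} (hj : 1 ≤ j) (hk : j + 1 + k + 3 = n) {X : Subgroup G}
    (hX : ∀ x ∈ gam G j, ⁅e, x⁆ ∈ X) (hX' : gam G (n - 3) ≤ X) : gam G (j + 1) ≤ X := by
  induction k generalizing j with
  | zero => rwa [show j + 1 = n - 3 by omega]
  | succ k ih =>
    obtain ⟨x, hx, hx'⟩ : ∃ x ∈ gam G j, ⁅e, x⁆ ∉ gam G (j + 2) := by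
      simpa [mem_K] using U_of h (by omega) h1 j (by omega)
    rw [h.le_sup (by omega) (comm_mem_succ hx e) hx']
    exact sup_le (ih (by omega) (by omega) fun y hy => hX y (gam_anti (by omega) hy))
      (zpowers_le.2 (hX x hx))

theorem Y_eq {j : ℕ} (hj : 1 ≤ j) (hj' : j + 4 ≤ n) {P : Subgroup G}
    (hP : P = gam G j ⊔ zpowers e) : ⁅P, P⁆ ⊔ P ⊓ centralizer (P : Set G) = gam G (j + 1) := by
  subst hP
  rw [cen_P h hn he h1 h3 hj hj']
  refine le_antisymm (sup_le (commutator_le.2 fun a ha b hb => comm_sup₂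
    (fun g _ x hx => comm_mem_succ hx g) (fun g hg => comm_symm (comm_mem_succ hg e)) a ha b hb)
    (gam_anti (by omega))) (gam_le h hn he h1 hj (k := n - 4 - j) (by omega) (fun x hx =>
      mem_sup_left (commutator_mem_commutator (mem_sup_right (mem_zpowers e)) (mem_sup_left hx)))
      le_sup_right)

end A

theorem typeA (hn : 5 ≤ n) (hE : Gd p E) {e : G} (he : e ∈ E) (h1 : e ∉ K G 1) :
    6 ≤ n ∧ Even n ∧ e ∈ K G (n - 3) ∧ E = gam G (n - 3) ⊔ zpowers e ∧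
      ∃ u ∈ gam G 1, ∃ v ∈ gam G (n - 4), ⁅u, v⁆ ≠ 1 := by
  have h3 := mem_K_last h (by omega) hE he h1
  obtain ⟨h4, h6, h7⟩ := h.exc (by omega) fun hle =>
    h.not_mem_of_K_le le_rfl (h.K_ne_top (by omega)) hle h1 h3
  refine ⟨h6, h4, h3, (eq_of_le_of_card_ge (sup_le (fun g hg => (hE.cen g).1 fun x hx => ?_)
    (zpowers_le.2 he)) ?_).symm, h7⟩
  · by_cases hx' : x ∈ K G 1
    · refine comm_last h (by omega) (by_contra fun hc => ?_) hg
      have h8 : x * e ∉ K G 1 := fun e' => h1 ((mul_mem_cancel_left hx').1 e')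
      exact hc ((mul_mem_cancel_right h3).1 (mem_K_last h (by omega) hE (mul_mem hx he) h8))
    · exact comm_last h (by omega) (mem_K_last h (by omega) hE hx hx') hg
  · rw [card_P h h6 (hE.exp e he) h1 (by omega) (by omega), hE.card, show n - (n - 3) = 3 by omega]

omit h in
theorem cls_zpow {k : ℕ} {x : G} (hx : x ∈ gam G k) (m : ℤ) : cls k (x ^ m) = m • cls k x := by
  obtain ⟨m, rfl | rfl⟩ := m.eq_nat_or_neg
  · rw [zpow_natCast, cls_pow hx, natCast_zsmul]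
  · rw [zpow_neg, zpow_natCast, cls_inv (pow_mem hx m), cls_pow hx, neg_smul, natCast_zsmul]

theorem finalA (hn5 : 5 ≤ n) (hp2 : p ≠ 2) (hE : Gd p E) {e : G} (heE : e ∈ E) (h1 : e ∉ K G 1)
    {f : G → G} (hf : HomOn (K G (n - 3)) f) (i1 : ∀ x ∈ gam G 1, f x ∈ gam G 1)
    (iE : ∀ x ∈ E, f x ∈ E) {D : Subgroup G} {z : G} (hz : z ^ p = 1)
    (fz : ∀ v ∈ zpowers z, f v = v⁻¹) (hD : ∀ d ∈ D, f d = d ∧ d ∈ E) (hzE : z ∈ E)
    (fe : e * f e ∈ gam G 1) (hq : ∀ v ∈ gam G (n - 4), ⁅e, v⁆ ∈ zpowers z)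
    (hfix : ∀ g ∈ gam G (n - 3), ∃ d ∈ D, ∃ v ∈ zpowers z, g = d * v) : False := by
  obtain ⟨hn, ⟨t, ht⟩, h3, eE, u, hu, v, hv, huv⟩ := typeA h hn5 hE heE h1
  have he := hE.exp e heE
  have he' : e ∉ gam G 1 := fun e' => h1 (gam_one_le_K 1 e')
  have hU := U_of h (by omega) h1
  have hK : ∀ {k : ℕ} {x : G}, 1 ≤ k → x ∈ gam G k → x ∈ K G (n - 3) := fun hk hx =>
    gam_one_le_K _ (gam_anti hk hx)
  have i3 : ∀ x ∈ gam G (n - 3), f x ∈ gam G (n - 3) := fun x hx =>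
    inf_gam h (gam_anti (by omega)) he he' (eE.le (iE x (eE.ge (mem_sup_left hx))))
      (i1 x (gam_anti (by omega) hx))
  have inv : ∀ k, 1 ≤ k → k + 3 ≤ n → ∀ x ∈ gam G k, f x ∈ gam G k := by
    intro k hk
    induction k, hk using Nat.le_induction with
    | base => exact fun _ => i1
    | succ k hk ih =>
      intro hk' x hx
      refine (gam_le h hn he h1 hk (k := n - 4 - k) (by omega) (X := hf.pre (gam G (k + 1)))
        (fun y hy => ⟨hK (by omega) (comm_mem_succ hy e), ?_⟩)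
        (fun y hy => ⟨hK (by omega) hy, gam_anti (by omega) (i3 y hy)⟩) hx).2
      rw [hf.map_commutator h3 (hK hk hy)]
      exact comm_mem_succ (ih (by omega) y hy) _
  have e1 : 1 + (n - 4) + 1 = n - 2 := by omega
  have hc : ⁅u, v⁆ ∈ gam G (n - 2) := e1 ▸ comm_mem hu hv
  have eZ := AC.eq_zpowers_of_card ((gam_eq h (k := 1) (by omega) (by omega)).trans (pow_one p))
    hc huv
  have fc : f ⁅u, v⁆ = ⁅f u, f v⁆ := hf.map_commutator (hK le_rfl hu) (hK (by omega) hv)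
  have i2 : ∀ x ∈ gam G (n - 2), f x ∈ gam G (n - 2) := fun x hx => by
    obtain ⟨i, rfl⟩ := eZ.le hx
    simp only
    rw [hf.map_zpow (hK (by omega) hc), fc]
    exact zpow_mem (e1 ▸ comm_mem (i1 u hu) (inv _ (by omega) (by omega) v hv)) i
  obtain ⟨w, hw, hw'⟩ : ∃ x ∈ gam G (n - 4), ⁅e, x⁆ ∉ gam G (n - 4 + 2) := by
    simpa [mem_K] using hU (n - 4) (by omega)
  have e2 : n - 4 + 2 = n - 2 := by omega
  have e3 : n - 4 + 1 = n - 3 := by omega
  have e4 : n - 3 + 1 = n - 2 := by omega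
  have hw1 : ⁅e, w⁆ ∈ gam G (n - 3) := e3 ▸ comm_mem_succ hw e
  have wt : ∀ i k, k + i + 3 = n → 1 ≤ k → ∀ x ∈ gam G k,
      cls k (f x) = (-1 : ℤ) ^ (i + 1) • cls k x := by
    intro i
    induction i with
    | zero =>
      intro k hk _ x hx
      obtain rfl : k = n - 3 := by omega
      obtain ⟨j, hj⟩ := h.gen (by omega) hw1 (by rwa [e4, ← e2]) hx
      have h4 : x * (⁅e, w⁆ ^ j)⁻¹ ∈ gam G (n - 2) := by
        rw [← e4, ← cls_eq_zero_iff (mul_mem hx (inv_mem (pow_mem hw1 j))),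
          cls_mul hx (inv_mem (pow_mem hw1 j)), cls_inv (pow_mem hw1 j), cls_pow hw1, hj,
          add_neg_cancel]
      have h5 : f x = f (x * (⁅e, w⁆ ^ j)⁻¹) * (⁅e, w⁆ ^ j)⁻¹ := by
        have := hf _ (hK (by omega) h4) _ (hK (by omega) (pow_mem hw1 j))
        rwa [inv_mul_cancel_right, fz _ (pow_mem (hq w hw) j)] at this
      rw [h5, cls_mul (gam_anti (by omega) (i2 _ h4)) (inv_mem (pow_mem hw1 j)),
        cls_eq_zero (e4 ▸ i2 _ h4), cls_inv (pow_mem hw1 j), cls_pow hw1, hj]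
      simp
    | succ i ih =>
      intro k hk hk1 x hx
      have hfx := inv k hk1 (by omega) x hx
      have h4 := ih (k + 1) (by omega) (by omega) _ (comm_mem_succ hx e)
      have h5 : cls 0 (f e) = -cls 0 e := by
        rw [eq_neg_iff_add_eq_zero, add_comm, ← cls_mul (n := 0) (mem_top _) (mem_top _)]
        exact cls_eq_zero fe
      rw [hf.map_commutator h3 (hK hk1 hx), cls_comm hfx, cls_comm hx, h5] at h4
      have hy := mul_mem hfx (zpow_mem hx ((-1) ^ (i + 1)))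
      have h6 := (cls_eq_zero_iff hy).2 (h.mem_succ hk1 (hU k (by omega)) hy (by
        rw [comm_mem_iff hy, cls_mul hfx (zpow_mem hx _), cls_zpow hx, lie_add, lie_zsmul, ← h4,
          neg_lie, add_neg_cancel]))
      rw [cls_mul hfx (zpow_mem hx _), cls_zpow hx] at h6
      rw [pow_succ, mul_neg, mul_one, neg_smul]
      exact eq_neg_of_add_eq_zero_left h6
  have h4 : f ⁅u, v⁆ = ⁅u, v⁆⁻¹ := by
    have h5 := lie_cls (i1 u hu) (inv _ (by omega) (by omega) v hv)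
    rw [wt (n - 4) 1 (by omega) le_rfl u hu, wt 1 (n - 4) (by omega) (by omega) v hv,
      Odd.neg_one_pow ⟨t - 2, by omega⟩, zsmul_lie, lie_zsmul, lie_cls hu hv, e1, ← fc] at h5
    rw [eq_inv_iff_mul_eq_one, ← mem_bot, ← h.gam_eq_bot_iff.2 (show n - 1 ≤ n - 2 + 1 by omega),
      ← cls_eq_zero_iff (mul_mem (i2 _ hc) hc), cls_mul (i2 _ hc) hc, ← h5]
    simp
  obtain ⟨d, hd, y, hy, e5⟩ := hfix _ (gam_anti (by omega) hc)
  have hEK : E ≤ K G (n - 3) := eE.le.trans (P_le h hn he h1 h3 (by omega))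
  have hyE : y ∈ E := zpowers_le.2 hzE hy
  rw [e5, hf _ (hEK (hD d hd).2) _ (hEK hyE), (hD d hd).1, fz y hy, mul_inv_rev,
    ← commutatorElement_eq_one_iff_mul_comm.1 ((hE.cen _).2 (inv_mem hyE) _ (inv_mem (hD d hd).2)),
    mul_left_inj] at h4
  rw [eq_one_of_eq_inv hp2 (hE.exp d (hD d hd).2) h4.symm, one_mul] at e5
  obtain ⟨b, hb⟩ := AC.exists_zpow_of_mem_zpowers hz hy (e5 ▸ huv) (hq w hw)
  exact hw' (e2 ▸ hb ▸ zpow_mem (e5 ▸ hc) b)

omit h in
/-- The group theoretic data for one step of the normaliser tower. -/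
structure St (E P Y : Subgroup G) : Prop where
  le : E ≤ P
  eq : ⁅P, P⁆ ⊔ P ⊓ centralizer (P : Set G) = Y
  le' : Y ≤ gam G 1
  conj : ∀ u ∈ P, u ∉ gam G 1 → ∃ g : G, ∀ x ∈ E, g * x * g⁻¹ ∈ Y ⊔ zpowers u

omit h in
theorem conj_sup {B Y : Subgroup G} {e g : G} (h1 : ∀ b ∈ B, g * b * g⁻¹ ∈ Y)
    (h2 : g * e * g⁻¹ ∈ Y) : ∀ x ∈ B ⊔ zpowers e, g * x * g⁻¹ ∈ Y :=
  (show B ⊔ zpowers e ≤ Y.comap (MulAut.conj g).toMonoidHom from sup_le h1 (zpowers_le.2 h2))

theorem stA (hn5 : 5 ≤ n) (hE : Gd p E) {e : G} (heE : e ∈ E) (h1 : e ∉ K G 1) {j : ℕ}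
    (hj : 1 ≤ j) (hj' : j + 4 ≤ n) : St E (gam G j ⊔ zpowers e) (gam G (j + 1)) := by
  obtain ⟨hn, -, h3, eE, -⟩ := typeA h hn5 hE heE h1
  have he := hE.exp e heE
  refine ⟨eE.le.trans (sup_le_sup_right (gam_anti (by omega)) _), Y_eq h hn he h1 h3 hj hj' rfl,
    gam_anti (by omega), fun u hu hu' => ?_⟩
  obtain ⟨g, hg⟩ := exists_conj_mem h he (U_of h (by omega) h1)
    (sup_le_sup_right (gam_anti hj) _ hu) hu'
  exact ⟨g, fun x hx => conj_sup (fun b hb => mem_sup_left (gam_anti (by omega) (conj_mem hb g)))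
    (sup_le_sup_right (gam_anti (by omega)) _ hg) x (eE.le hx)⟩

theorem noAb {R : Subgroup G} (hR : ∀ A : Subgroup G, A ≤ R → Nat.card A = p ^ 4 →
    ¬ ∀ a ∈ A, ∀ b ∈ A, a * b = b * a) (hc : Nat.card R = p ^ 5) :
    ∀ A : Subgroup R, A.index = p → ¬ ∀ a ∈ A, ∀ b ∈ A, a * b = b * a := fun A hA hab =>
  hR (A.map R.subtype) (map_subtype_le A)
    (by rw [card_map_of_injective R.subtype_injective, (card_of_index hc).1 hA]) (by
      rintro _ ⟨a, ha, rfl⟩ _ ⟨b, hb, rfl⟩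
      exact congrArg Subtype.val (hab a ha b hb))

omit h in
theorem typeB5 (h : IsMC p 5 G) (hE : Gd p E) :
    St E (normalizer (E : Set G)) (gam G 2) ∧ (normalizer (E : Set G)).Normal ∧
    (∀ g : G, ∀ y ∈ gam G 2, ⁅g, y⁆ ∈ ⁅normalizer (E : Set G), normalizer (E : Set G)⁆) ∧
    ∀ A : Subgroup G, Nat.card A = p ^ 4 → ¬ ∀ a ∈ A, ∀ b ∈ A, a * b = b * a := by
  have hK : E ≤ K G 1 := fun e he => by_contra fun h1 => by
    have := (typeA h le_rfl hE he h1).1
    omega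
  have h12 := h.K_one_le (by norm_num)
  have hZ : gam G 2 ≤ E := fun g hg => (hE.cen g).1 fun x hx => comm_last h rfl (h12 (hK hx)) hg
  obtain ⟨e, he, he'⟩ := SetLike.not_le_iff_exists.1
    (ng h le_rfl hE.card (fun g => (hE.cen g).1) hE.nor.le)
  have eK := h.eq_sup (h.K_ne_top (j := 1) (by norm_num)) (gam_one_le_K 1) (hK he) he'
  have cK : ∀ a ∈ K G 1, ∀ b ∈ K G 1, ⁅a, b⁆ ∈ gam G 3 := by
    rw [eK]
    exact comm_sup₂ (fun g hg x hx => gam_anti (by norm_num) (comm_mem hg hx))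
      fun g hg => comm_symm (gam_anti (by norm_num) (hK he g hg))
  have eN : K G 1 = normalizer (E : Set G) := eq_of_le_of_card_ge
    (fun g hg => mem_norm fun x hx => hZ (gam_anti (by norm_num) (cK g hg x (hK hx))))
    (by rw [hE.nor, card_K h le_rfl (by norm_num)])
  have eE : E = gam G 2 ⊔ zpowers e := eq_sup_of_card hZ
    (by rw [hE.card, gam_eq h (k := 2) (by norm_num) rfl, ← pow_succ]) he
    fun e' => he' (gam_anti (by norm_num) e')
  have hna : ¬ ∀ a ∈ K G 1, ∀ b ∈ K G 1, a * b = b * a := fun hab => by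
    have := card_le_of_le (show K G 1 ≤ E from fun g hg => (hE.cen g).1 fun x hx =>
      commutatorElement_eq_one_iff_mul_comm.2 (hab x (hK hx) g hg))
    rw [eN, hE.nor, hE.card] at this
    exact pow_lt h (by norm_num) this
  have e3 : gam G 3 ≤ ⁅K G 1, K G 1⁆ := by
    push Not at hna
    obtain ⟨a, ha, b, hb, hab⟩ := hna
    rw [AC.eq_zpowers_of_card ((gam_eq h (k := 1) (by norm_num) rfl).trans (pow_one p))
      (cK a ha b hb) (mt commutatorElement_eq_one_iff_mul_comm.1 hab)]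
    exact zpowers_le.2 (commutator_mem_commutator ha hb)
  rw [← eN]
  refine ⟨⟨hK, le_antisymm (sup_le (commutator_le.2 fun a ha b hb =>
    gam_anti (by norm_num) (cK a ha b hb)) fun x hx => ?_) fun x hx => mem_sup_right
      ⟨hK (hZ hx), fun y hy => commutatorElement_eq_one_iff_mul_comm.1
        (comm_last h rfl (h12 hy) hx)⟩, gam_anti (by norm_num), fun u hu hu' => ?_⟩,
    inferInstance, fun g y hy => e3 (comm_mem_succ hy g), fun A hA hab => ?_⟩
  · by_contra hx'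
    have hxE : x ∈ E := (hE.cen x).1 fun y hy =>
      commutatorElement_eq_one_iff_mul_comm.2 (hx.2 y (hK hy))
    have e4 : E = gam G 2 ⊔ zpowers x := eq_sup_of_card hZ
      (by rw [hE.card, gam_eq h (k := 2) (by norm_num) rfl, ← pow_succ]) hxE hx'
    have := card_le_of_le (show K G 1 ≤ E from fun g hg => (hE.cen g).1 fun y hy => mem_bot.1
      (comm_symm (comm_symm (comm_sup (fun a ha => comm_symm (B := ⊥) (comm_last h rfl (h12 hg) ha))
        (comm_symm (B := ⊥) (commutatorElement_eq_one_iff_mul_comm.2 (hx.2 g hg))) y (e4.le hy)))))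
    rw [eN, hE.nor, hE.card] at this
    exact pow_lt h (by norm_num) this
  · obtain ⟨g, hg⟩ := exists_conj_mem h (hE.exp e he) (m := 1) (fun j hj => by
      obtain rfl : j = 0 := by omega
      rwa [h.K_zero]) (eK.le hu) hu'
    exact ⟨g, fun x hx => conj_sup (fun b hb => mem_sup_left (conj_mem hb g)) hg x (eE.le hx)⟩
  · by_cases hAK : A ≤ K G 1
    · exact hna (eq_of_le_of_card_ge hAK (by rw [hA, card_K h le_rfl (by norm_num)]) ▸ hab)
    · obtain ⟨s, hs, hs'⟩ := SetLike.not_le_iff_exists.1 hAK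
      have := (card_le_of_le (show A ≤ centralizer {s} from fun x hx =>
        mem_centralizer_singleton_iff.2 (hab x hx s hs))).trans (h.card_centralizer_le
          (h.U_of_not_mem (fun j h1 h2 => by
            obtain rfl | rfl : j = 1 ∨ j = 2 := by omega
            exacts [le_rfl, h12]) hs'))
      exact pow_lt h (by norm_num) (hA ▸ this)

theorem typeB (hn : 6 ≤ n) (hE : Gd p E) (hK : E ≤ K G 1) : n = 6 ∧
    St E (normalizer (E : Set G)) (E ⊓ gam G 1) ∧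
    normalizer ((normalizer (E : Set G) : Subgroup G) : Set G) = K G 1 ∧
    (∀ g ∈ K G 1, ∀ y ∈ normalizer (E : Set G), y ∈ gam G 1 → ⁅g, y⁆ ∈ E ⊓ gam G 1 ∧
      ⁅g, y⁆ ∈ ⁅normalizer (E : Set G), normalizer (E : Set G)⁆) ∧
    ∀ A : Subgroup G, A ≤ K G 1 → Nat.card A = p ^ 4 → ¬ ∀ a ∈ A, ∀ b ∈ A, a * b = b * a := by
  have hK4 : K G 1 ≤ K G (n - 4) := h.K_one_le_K (by omega) (by omega)
  have hK5 : K G 1 ≤ K G (n - 5) := h.K_one_le_K (by omega) (by omega)
  have e2 : n - 4 + 2 = n - 2 := by omega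
  have e3 : n - 5 + 2 = n - 3 := by omega
  have e4 : n - 3 + 1 = n - 2 := by omega
  obtain ⟨e, he, he3⟩ : ∃ e ∈ E, e ∉ K G (n - 3) := by
    by_contra! hc
    exact nb h hn hK (fun g hg => (hE.cen g).1 fun x hx => comm_last h (by omega) (hc x hx) hg)
      hE.nor.le
  have he1 : e ∉ gam G 1 := fun e' => he3 (gam_one_le_K _ e')
  have hZ : gam G (n - 2) ≤ E ⊓ gam G 1 := fun g hg =>
    ⟨(hE.cen g).1 fun x _ => comm_cen h (by omega) x hg, gam_anti (by omega) hg⟩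
  have c4 : ∀ g ∈ K G 1, ∀ y ∈ gam G (n - 4), ⁅g, y⁆ ∈ gam G (n - 2) := fun g hg y hy =>
    e2 ▸ hK4 hg y hy
  set N := normalizer (E : Set G) with hN
  have hEN : E ≤ N := le_normalizer
  have hNt : ∀ {H : Subgroup G} {k : ℕ}, Nat.card H = p ^ k → k < n → H ≠ ⊤ := fun hc hk e' => by
    rw [e', card_top, h.card] at hc
    exact pow_lt h hk hc.le
  have h3N : gam G (n - 4) ≤ N := fun g hg => mem_norm fun x hx =>
    (hZ (comm_symm (c4 x (hK hx) g hg))).1
  have eN1 : gam G (n - 4) = N ⊓ gam G 1 := eq_of_le_of_card_ge (le_inf h3N (gam_anti (by omega))) (by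
    have := Grp.MaxClass.mul_card_le_of_lt h.isPGroup (lt_of_le_of_ne (inf_le_left : N ⊓ gam G 1 ≤ N)
      fun e' => he1 (e'.ge (hEN he)).2)
    rw [hE.nor, pow_succ'] at this
    rw [gam_eq h (k := 3) (by omega) (by omega)]
    exact Nat.le_of_mul_le_mul_left this hp.out.pos)
  set Y := E ⊓ gam G 1 with hY
  have hY3 : Y ≤ gam G (n - 4) := fun y hy => eN1.ge ⟨hEN hy.1, hy.2⟩
  have cY : Nat.card Y = p ^ 2 := by
    have h1 := Grp.MaxClass.mul_card_le_of_lt h.isPGroup (lt_of_le_of_ne (inf_le_left : Y ≤ E)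
      fun e' => he1 (e'.ge he).2)
    have h2 := h.card_le_card_inf (hNt hE.card (by omega))
    rw [hE.card, pow_succ'] at h1 h2
    exact Nat.eq_of_mul_eq_mul_left hp.out.pos (le_antisymm h1 h2)
  have eE : ∀ {x}, x ∈ E → x ∉ gam G 1 → E = Y ⊔ zpowers x := fun hx hx' =>
    eq_sup_of_card inf_le_left (by rw [hE.card, cY, ← pow_succ]) hx fun e' => hx' e'.2
  have hY2 : ∀ y ∈ Y, y ∈ gam G (n - 3) → y ∈ gam G (n - 2) := fun y hy hy' =>
    e4 ▸ h.mem_succ (by omega) he3 hy' (by rw [(hE.cen y).2 hy.1 e he]; exact one_mem _)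
  obtain ⟨t, ht, ht'⟩ := h.exists_not_mem (k := n - 5) (by omega)
  rw [show n - 5 + 1 = n - 4 by omega] at ht'
  have ht1 : t ∈ gam G 1 := gam_anti (by omega) ht
  have nK : ∀ {g x}, g ∈ K G 1 → x ∈ E → x ∉ gam G 1 → ⁅g, x⁆ ∈ E → g ∈ N := fun hg hx hx' hc =>
    mem_norm_sup (eE hx hx') (fun b hb => (hZ (c4 _ hg b (hY3 hb))).1) hc
  have lb : ∀ x ∈ E, x ∉ gam G 1 → ∀ g ∈ gam G (n - 4), ∃ τ ∈ gam G (n - 5), ⁅τ, x⁆⁻¹ * g ∈ Y := by
    intro x hx hx' g hg
    have a1 : ∀ τ ∈ gam G (n - 5), ∀ y ∈ K G 1, ⁅τ, y⁆ ∈ gam G (n - 3) := fun τ hτ y hy =>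
      comm_symm (e3 ▸ hK5 hy τ hτ)
    have a2 : ⁅t, x⁆ ∉ Y := fun e' => ht' (eN1.ge ⟨nK (gam_one_le_K 1 ht1) hx hx' e'.1, ht1⟩)
    have a3 := eq_sup_of_card hY3 (by rw [gam_eq h (k := 3) (by omega) (by omega), cY, ← pow_succ])
      (gam_anti (by omega) (a1 t ht x (hK hx))) a2
    obtain ⟨j, hj⟩ : ∃ j : ℤ, (⁅t, x⁆ ^ j)⁻¹ * g ∈ Y := by
      have := a3.le hg
      rw [sup_comm, ← SetLike.mem_coe, coe_mul_of_left_le_normalizer_right _ _ (zpowers_le.2
        (mem_norm fun y hy => hZ (c4 _ (gam_one_le_K 1 (gam_anti (by omega) (a1 t ht x (hK hx))))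
          y (hY3 hy))))] at this
      obtain ⟨_, ⟨j, rfl⟩, y, hy, rfl⟩ := this
      exact ⟨j, by simpa using hy⟩
    have a4 := AC.comm_wt (U := gam G (n - 2)) (X := gam G (n - 5)) (Y := K G 1)
      (fun a ha b hb g => e4 ▸ comm_mem_succ (a1 a ha b hb) g) ht (zpow_mem ht j) (hK hx) (hK hx)
      (a := j) (b := 1) (by simp [one_mem]) (by simp [one_mem])
    refine ⟨t ^ j, zpow_mem ht j, ?_⟩
    simpa [mul_assoc] using mul_mem (inv_mem (hZ a4)) hj
  obtain rfl : n = 6 := by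
    by_contra hn7
    obtain ⟨u, hu, hu'⟩ := h.exists_not_mem (k := n - 6) (by omega)
    rw [show n - 6 + 1 = n - 5 by omega] at hu'
    have hu1 : u ∈ gam G 1 := gam_anti (by omega) hu
    have a1 : ⁅u, e⁆ ∈ gam G (n - 4) := comm_symm ((show n - 6 + 2 = n - 4 by omega) ▸
      h.K_one_le_K (j := n - 6) (by omega) (by omega) (hK he) u hu)
    obtain ⟨τ, hτ, hτ'⟩ := lb e he he1 _ (inv_mem a1)
    have a2 : ⁅τ, e⁆ ∈ gam G (n - 3) := comm_symm (e3 ▸ hK5 (hK he) τ hτ)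
    have c : ∀ g ∈ gam G 1, g * ⁅τ, e⁆ = ⁅τ, e⁆ * g := fun g hg =>
      commutatorElement_eq_one_iff_mul_comm.1 (comm_last h (by omega) (gam_one_le_K _ hg) a2)
    have a3 : ⁅u * τ, e⁆ = (⁅τ, e⁆⁻¹ * ⁅u, e⁆⁻¹)⁻¹ := by
      rw [mul_inv_rev, inv_inv, inv_inv, c _ (gam_anti (by omega) a1), ← mul_inv_cancel_right ⁅τ, e⁆ u,
        ← c u hu1]
      simp only [commutatorElement_def]; group
    have a4 := mul_mem hu1 (gam_anti (by omega) hτ)
    have a5 : u * τ ∈ gam G (n - 4) :=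
      eN1.ge ⟨nK (gam_one_le_K 1 a4) he he1 (a3 ▸ (inv_mem hτ').1), a4⟩
    exact hu' ((mul_mem_cancel_right hτ).1 (gam_anti (by omega) a5))
  simp only [Nat.reduceSub] at he3 hZ c4 h3N eN1 hY3 lb
  have eN : N = gam G 2 ⊔ zpowers e := eq_sup_of_card h3N
    (by rw [hE.nor, gam_eq h (k := 3) (by omega) (by omega), ← pow_succ]) (hEN he)
    fun e' => he1 (gam_anti (by omega) e')
  have eK := h.eq_sup (h.K_ne_top (j := 1) (by norm_num)) (gam_one_le_K 1) (hK he) he1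
  have hNK : N ≤ K G 1 := eN.le.trans (sup_le ((gam_anti (by omega)).trans (gam_one_le_K 1))
    (zpowers_le.2 (hK he)))
  have e5 : gam G 4 ≤ ⁅N, N⁆ := by
    obtain ⟨a, ha, ha'⟩ : ∃ x ∈ gam G 3, ⁅e, x⁆ ∉ gam G (3 + 2) := by simpa [mem_K] using he3
    rw [AC.eq_zpowers_of_card ((gam_eq h (j := 4) (k := 1) (by norm_num) rfl).trans (pow_one p))
      (gam_anti (by norm_num) (comm_mem_succ ha e)) fun e' => ha' (by rw [e']; exact one_mem _)]
    exact zpowers_le.2 (commutator_mem_commutator (hEN he) (h3N (gam_anti (by omega) ha)))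
  have cN : ∀ a ∈ N, ∀ b ∈ N, ⁅a, b⁆ ∈ gam G 4 := by
    rw [eN]
    exact comm_sup₂ (fun g hg x hx => gam_anti (by norm_num) (comm_mem hg hx))
      fun g hg => comm_symm (c4 e (hK he) g hg)
  have cYN : ∀ y ∈ Y, ∀ g ∈ N, ⁅g, y⁆ ∈ (⊥ : Subgroup G) := fun y hy g hg =>
    comm_sup (fun a ha => (h.gam_eq_bot_iff.2 (by norm_num)).le (comm_mem ha (hY3 hy)))
      ((hE.cen y).2 hy.1 e he) g (eN.le hg)
  obtain ⟨-, -, u, hu, v, hv, huv⟩ := h.exc (by norm_num) fun hle => he3 (hle (hK he))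
  refine ⟨rfl, ⟨hEN, le_antisymm (sup_le (commutator_le.2 fun a ha b hb => hZ (cN a ha b hb))
    fun x hx => ?_) fun y hy => mem_sup_right ⟨hEN hy.1, fun g hg =>
      commutatorElement_eq_one_iff_mul_comm.1 (cYN y hy g hg)⟩, inf_le_right, fun u hu hu' => ?_⟩,
    ?_, fun g hg y hy hy' => ⟨hZ (c4 g hg y (eN1.ge ⟨hy, hy'⟩)), e5 (c4 g hg y (eN1.ge ⟨hy, hy'⟩))⟩,
    fun A hA hA' hab => ?_⟩
  · have hxE : x ∈ E := (hE.cen x).1 fun y hy =>
      commutatorElement_eq_one_iff_mul_comm.2 (hx.2 y (hEN hy))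
    refine ⟨hxE, by_contra fun hx' => ?_⟩
    have := card_le_of_le (show N ≤ E from fun g hg => (hE.cen g).1 fun y hy => mem_bot.1
      (comm_sup (fun a ha => comm_symm (cYN a ha g hg))
        (comm_symm (B := ⊥) (commutatorElement_eq_one_iff_mul_comm.2 (hx.2 g hg))) y
        ((eE hxE hx').le hy)))
    rw [hE.nor, hE.card] at this
    exact pow_lt h (by norm_num) this
  · obtain ⟨g, hg, i, rfl⟩ := Grp.PChain.mem_sup_zpowers.1 (eN.le hu)
    have hi : e ^ i ∉ gam G 1 := fun e' => hu' (mul_mem (gam_anti (by omega) hg) e')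
    obtain ⟨τ, hτ, hτ'⟩ := lb _ (zpow_mem he i) hi g hg
    refine ⟨τ, fun x hx => conj_sup (fun b hb => mem_sup_left (conj_mem_of_comm hb
      (hZ (c4 τ (gam_one_le_K 1 hτ) b (hY3 hb))))) ?_ x ((eE (zpow_mem he i) hi).le hx)⟩
    have c := commutatorElement_eq_one_iff_mul_comm.1 (comm_last h (j := 3) rfl
      (gam_one_le_K _ (gam_anti (by omega) hg)) (comm_symm (hK (zpow_mem he i) τ hτ)))
    have := mul_mem (mem_sup_left (T := zpowers (g * e ^ i)) (inv_mem hτ'))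
      (mem_sup_right (mem_zpowers (g * e ^ i)))
    rw [mul_inv_rev, inv_inv, mul_assoc, ← mul_assoc _ g, ← c] at this
    simpa [commutatorElement_def, mul_assoc] using this
  · have a1 : K G 1 ≤ normalizer (N : Set G) := fun g hg => mem_norm_sup eN
      (fun b hb => h3N (gam_anti (by omega) (comm_mem_succ hb g))) (h3N (gam_anti (by norm_num)
        (show ⁅g, e⁆ ∈ gam G 3 from comm_sup (fun a ha => comm_symm (hK he a ha)) (by simp) g
          (eK.le hg))))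
    refine le_antisymm (fun g hg => by_contra fun hg' => ?_) a1
    have a2 := Grp.eq_top_of_index_prime hp.out (h.index_K le_rfl (by norm_num)) a1 hg' hg
    refine (h.K_zero ▸ he1 : e ∉ K G 0) fun x _ => comm_symm (eN1.ge ⟨comm_mem_of_norm
      (a2.ge trivial) (hEN he), comm_mem_succ (j := 0) (mem_top _) x⟩)
  · have a1 : ¬ gam G 1 ≤ A := fun hle =>
      huv (commutatorElement_eq_one_iff_mul_comm.2 (hab u (hle hu) v (hle (gam_anti (by omega) hv))))
    have a2 : ¬ A ≤ gam G 1 := fun hle => a1 (eq_of_le_of_card_ge hle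
      (by rw [hA', gam_eq h (k := 4) le_rfl rfl])).ge
    obtain ⟨m, hm, hm'⟩ := SetLike.not_le_iff_exists.1 a2
    have a3 : m ∉ K G 3 := fun e' => he3 ((h.eq_sup (h.K_ne_top (j := 1) (by norm_num))
      (gam_one_le_K 1) (hA hm) hm').le.trans (sup_le (gam_one_le_K 3) (zpowers_le.2 e')) (hK he))
    obtain ⟨a, ha, ha'⟩ : ∃ x ∈ gam G 3, ⁅m, x⁆ ∉ gam G (3 + 2) := by simpa [mem_K] using a3
    have a4 : a ∉ A ⊓ gam G 1 := fun e' => ha' (by
      rw [commutatorElement_eq_one_iff_mul_comm.2 (hab m hm a e'.1)]; exact one_mem _)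
    have a5 : Nat.card (A ⊓ gam G 1 : Subgroup G) = p ^ 3 := by
      have h1 := Grp.MaxClass.mul_card_le_of_lt h.isPGroup (lt_of_le_of_ne
        (inf_le_left : A ⊓ gam G 1 ≤ A) fun e' => hm' (e'.ge hm).2)
      have h2 := h.card_le_card_inf (hNt hA' (by omega))
      rw [hA', pow_succ'] at h1 h2
      exact Nat.eq_of_mul_eq_mul_left hp.out.pos (le_antisymm h1 h2)
    have a6 := eq_sup_of_card (inf_le_right : A ⊓ gam G 1 ≤ _)
      (by rw [a5, gam_eq h (k := 4) le_rfl rfl, ← pow_succ]) (gam_anti (by omega) ha) a4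
    exact huv (mem_bot.1 (comm_sup₂ (U := A ⊓ gam G 1) (fun g hg x hx =>
      commutatorElement_eq_one_iff_mul_comm.2 (hab g hg.1 x hx.1)) (fun g hg =>
        comm_last h (j := 3) rfl (gam_one_le_K _ hg.2) ha) u (a6.le hu) v
        (a6.le (gam_anti (by omega) hv))))

end Cfsg.Agent.Fus.MCA
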