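import Mathlib
import Cfsg.Agent.Fus.AutCop
import Cfsg.Agent.PLocal.QdStable

/-!
A quadratic action on a quotient `G/N`, where the acting group acts on `N` as a `p`-group, that is
not unipotent gives a quadratic action on a subgroup of `G` that is not unipotent (`p` odd).
-/

set_option autoImplicit false

namespace Cfsg.Agent.Fus.AC

open Cfsg Matrix Subgroup
open scoped commutatorElement

variable {p : ℕ}

theorem pow_apply_eq_self {W : Type*} [Group W] {α : MulAut W} {m : W} (h : α m = m) (n : ℕ) :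
    (α ^ n) m = m := by
  induction n with
  | zero => rfl
  | succ n ih => rw [pow_succ, MulAut.mul_apply, h, ih]

theorem apply_eq_self_of_coprime {W : Type*} [Group W] {α : MulAut W}
    (hα : (orderOf α).Coprime p) {k : ℕ} {m : W} (h : (α ^ p ^ k) m = m) : α m = m := by
  obtain ⟨n, hn⟩ := exists_pow_eq_self_of_coprime (x := α) (hα.symm.pow_left k)
  rw [← hn]
  exact pow_apply_eq_self h n

theorem commutator_mem_of_closure {W : Type*} [Group W] {s : Set W} {Z : Subgroup W}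
    (hn : ∀ a ∈ s, ∀ z ∈ Z, a * z = z * a) (h : ∀ a ∈ s, ∀ b ∈ s, ⁅a, b⁆ ∈ Z) {x y : W}
    (hx : x ∈ closure s) (hy : y ∈ closure s) : ⁅x, y⁆ ∈ Z := by
  have hc : ∀ a ∈ closure s, ∀ z ∈ Z, a * z * a⁻¹ = z := fun a ha z hz => by
    have : closure s ≤ centralizer (Z : Set W) :=
      (closure_le _).2 fun a ha z hz => (hn a ha z hz).symm
    rw [← this ha z hz]; group
  have key : ∀ b, (∀ a ∈ s, ⁅a, b⁆ ∈ Z) → ∀ a ∈ closure s, ⁅a, b⁆ ∈ Z := fun b hb a ha => by
    induction ha using closure_induction with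
    | mem a ha => exact hb a ha
    | one => rw [commutatorElement_one_left]; exact Z.one_mem
    | mul a a' ha _ h1 h2 =>
      have : ⁅a * a', b⁆ = a * ⁅a', b⁆ * a⁻¹ * ⁅a, b⁆ := by
        simp only [commutatorElement_def]; group
      rw [this, hc a ha _ h2]
      exact Z.mul_mem h2 h1
    | inv a ha h1 =>
      have : ⁅a⁻¹, b⁆ = a⁻¹ * ⁅a, b⁆⁻¹ * a⁻¹⁻¹ := by
        simp only [commutatorElement_def]; group
      rw [this, hc _ (inv_mem ha) _ (Z.inv_mem h1)]
      exact Z.inv_mem h1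
  refine key y (fun a ha => ?_) x hx
  rw [← commutatorElement_inv]
  exact Z.inv_mem (key a (fun b hb => h b hb a ha) y hy)

variable [hp : Fact p.Prime]

theorem eq_one_of_coprime_of_two {W : Type*} [Group W] [Finite W] (hW : IsPGroup p W)
    {α : MulAut W} (hα : (orderOf α).Coprime p) {M : Subgroup W} (h1 : ∀ m ∈ M, α m = m)
    (h2 : ∀ x, x⁻¹ * α x ∈ M) : α = 1 := by
  ext x
  obtain ⟨c, hc, e⟩ := exists_fixed_of_coset₁ hα (hW.to_subgroup M)
    (fun m hm => by rw [h1 m hm]; exact hm) (h2 x)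
  have := h1 _ e
  rw [map_mul, hc, map_inv] at this
  simpa using this

theorem eq_of_sq_eq {W : Type*} [Group W] [Finite W] (hp2 : p ≠ 2) (hW : IsPGroup p W) {x y : W}
    (h : x * x = y * y) : x = y := by
  obtain ⟨k, hk⟩ := hW.exists_card_eq
  have hc : (Nat.card W).Coprime 2 := by
    rw [hk]
    exact ((Nat.coprime_primes hp.out Nat.prime_two).2 hp2).pow_left k
  exact (powCoprime hc).injective (by simpa [pow_two] using h)

theorem exists_quadratic_of_natural (hp2 : p ≠ 2) {W : Type*} [Group W] [Finite W]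
    (hW : IsPGroup p W) {E : Type*} [Group E] [Finite E] (ρ : E →* MulAut W)
    (θ : E →* SpecialLinearGroup (Fin 2) (ZMod p)) (hθ : Function.Surjective θ)
    (φ : W → (Fin 2 → ZMod p)) (hφ : ∀ x y, φ (x * y) = φ x + φ y) (hsurj : Function.Surjective φ)
    (hact : ∀ h x, φ (ρ h x) = (θ h).1 *ᵥ φ x)
    (hM : ∀ h, ∃ k, ∀ m, φ m = 0 → (ρ h ^ p ^ k) m = m) :
    ∃ (P : Subgroup W) (c d : E), (∀ x ∈ P, ρ c x ∈ P) ∧ (∀ x ∈ P, ρ d x ∈ P) ∧
      (∀ x ∈ P, ρ c (x⁻¹ * ρ c x) = x⁻¹ * ρ c x) ∧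
      ∀ k, ¬ ∀ x ∈ P, (ρ (c * (d * c * d⁻¹)) ^ p ^ k) x = x := by
  have h1 : φ 1 = 0 := by simpa using hφ 1 1
  have hinv : ∀ x, φ x⁻¹ = -φ x := fun x => by
    rw [eq_neg_iff_add_eq_zero, ← hφ, inv_mul_cancel, h1]
  have hpow : ∀ x (n : ℕ), φ (x ^ n) = n • φ x := fun x n => by
    induction n with
    | zero => simpa using h1
    | succ n ih => rw [pow_succ, hφ, ih, succ_nsmul]
  let M : Subgroup W :=
    { carrier := {m | φ m = 0}
      one_mem' := h1
      mul_mem' := fun {a b} ha hb => by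
        change φ _ = 0
        rw [hφ, ha, hb, add_zero]
      inv_mem' := fun {a} ha => by
        change φ _ = 0
        rw [hinv, ha, neg_zero] }
  have hMi : ∀ {x}, x ∈ M ↔ φ x = 0 := Iff.rfl
  have hfix : ∀ h, (orderOf (ρ h)).Coprime p → ∀ m ∈ M, ρ h m = m := fun h hc m hm =>
    let ⟨_, hk⟩ := hM h
    apply_eq_self_of_coprime hc (hk m hm)
  have hone : ∀ h, (orderOf (ρ h)).Coprime p → θ h = 1 → ρ h = 1 := fun h hc e =>
    eq_one_of_coprime_of_two hW hc (hfix h hc) fun x => by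
      rw [hMi, hφ, hinv, hact, e]; simp
  obtain ⟨t₀, ht₀⟩ := hθ (-1)
  obtain ⟨k, hk⟩ := PLocal.exists_coprime_orderOf_pow_prime_pow p t₀
  set t := t₀ ^ p ^ k with htdef
  have hθt : θ t = -1 := by
    rw [htdef, map_pow, ht₀, Odd.neg_one_pow ((hp.out.odd_of_ne_two hp2).pow)]
  have hτ : (orderOf (ρ t)).Coprime p := hk.coprime_dvd_left (orderOf_map_dvd ρ t)
  have hτM := hfix t hτ
  have hτφ : ∀ x, φ (ρ t x) = -φ x := fun x => by
    rw [hact, hθt]; simp [neg_mulVec]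
  have hττ : ∀ x, ρ t (ρ t x) = x := fun x => by
    have := hone (t ^ 2) (by rw [map_pow]; exact hτ.coprime_dvd_left (orderOf_pow_dvd 2))
      (by rw [map_pow, hθt]; simp)
    rw [pow_two, map_mul] at this
    rw [← MulAut.mul_apply, this]; rfl
  have hD : IsPGroup p (θ.ker.map ρ) := isPGroup_of_coprime (by
    rintro _ ⟨h, hh, rfl⟩ hc
    exact hone h hc hh)
  have hlift : ∀ g, ∃ c, θ c = g ∧ ∀ x, ρ c (ρ t x) = ρ t (ρ c x) := fun g => by
    obtain ⟨h, rfl⟩ := hθ g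
    obtain ⟨c, hc, δ, hδ, e⟩ := exists_fixed_of_coset₁ (α := MulAut.conj (ρ t)) (g := ρ h)
      (hτ.coprime_dvd_left (orderOf_map_dvd MulAut.conj (ρ t))) hD (by
        rintro _ ⟨δ, hδ, rfl⟩
        exact ⟨t * δ * t⁻¹, (inferInstance : θ.ker.Normal).conj_mem δ hδ t, by simp⟩)
      ⟨h⁻¹ * (t * h * t⁻¹), by simp [hθt], by simp⟩
    have e' : c = ρ (h * δ) := by rw [map_mul, e]; group
    refine ⟨h * δ, by rw [map_mul, MonoidHom.mem_ker.1 hδ, mul_one], fun x => ?_⟩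
    rw [← e', ← MulAut.mul_apply, ← MulAut.mul_apply]
    congr 1
    conv_lhs => rw [← hc]
    simp
  let I : Set W := {x | ρ t x = x⁻¹}
  have hI : ∀ {x}, x ∈ I ↔ ρ t x = x⁻¹ := Iff.rfl
  have hIex : ∀ v, ∃ x ∈ I, φ x = v := fun v => by
    have h2 : (2 : ZMod p) ≠ 0 := by
      intro h
      exact hp2 ((Nat.prime_dvd_prime_iff_eq hp.out Nat.prime_two).1
        ((ZMod.natCast_eq_zero_iff 2 p).1 (by exact_mod_cast h)))
    obtain ⟨y, hy⟩ := hsurj ((-(2 : ZMod p)⁻¹) • v)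
    refine ⟨y⁻¹ * ρ t y, by rw [hI, map_mul, map_inv, hττ]; group, ?_⟩
    rw [hφ, hinv, hτφ, hy, neg_smul, neg_neg, ← two_smul (ZMod p), smul_smul,
      mul_inv_cancel₀ h2, one_smul]
  have hIun : ∀ x ∈ I, ∀ y ∈ I, φ x = φ y → x = y := fun x hx y hy e => by
    have := hτM (x⁻¹ * y) (by rw [hMi, hφ, hinv, e, neg_add_cancel])
    rw [map_mul, map_inv, hI.1 hx, hI.1 hy] at this
    refine eq_of_sq_eq hp2 hW ?_
    calc x * x = x * (x⁻¹⁻¹ * y⁻¹) * y := by group
      _ = y * y := by rw [this]; group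
  have hIM : ∀ x ∈ I, ∀ m ∈ M, x * m = m * x := fun x hx m hm => by
    have := hτM (x * m * x⁻¹) (by rw [hMi, hφ, hφ, hinv, hMi.1 hm]; simp)
    rw [map_mul, map_mul, map_inv, hI.1 hx, hτM m hm] at this
    have h3 : m * x * m⁻¹ = x := by
      refine eq_of_sq_eq hp2 hW ?_
      calc m * x * m⁻¹ * (m * x * m⁻¹) = m * x * (x * m⁻¹ * x⁻¹) * x := by group
        _ = m * x * (x * m * x⁻¹)⁻¹ * x := by group
        _ = x * x := by rw [← this]; group
    conv_lhs => rw [← h3]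
    group
  have hcI : ∀ c, (∀ x, ρ c (ρ t x) = ρ t (ρ c x)) → ∀ x ∈ I, ρ c x ∈ I := fun c hc x hx => by
    rw [hI, ← hc, hI.1 hx, map_inv]
  have hcP : ∀ c, (∀ x, ρ c (ρ t x) = ρ t (ρ c x)) → ∀ x ∈ closure I, ρ c x ∈ closure I :=
    fun c hc x hx => (closure_le ((closure I).comap (ρ c).toMonoidHom)).2
      (fun y hy => subset_closure (hcI c hc y hy)) hx
  obtain ⟨c, hcθ, hc⟩ := hlift (PLocal.sl2U p)
  obtain ⟨d, hdθ, hd⟩ := hlift (PLocal.sl2U p * PLocal.sl2L p)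
  refine ⟨closure I, c, d, hcP c hc, hcP d hd, fun x hx => ?_, fun k hk => ?_⟩
  · have hcφ : ∀ x, φ (ρ c x) = ![φ x 0 - φ x 1, φ x 1] := fun x => by
      rw [hact, hcθ, show (PLocal.sl2U p).1 = _ from PLocal.coe_sl2U p]
      ext i
      fin_cases i <;> simp [mulVec, dotProduct, Fin.sum_univ_two, sub_eq_add_neg]
    have hcfix : ∀ x ∈ I, φ x 1 = 0 → ρ c x = x := fun x hx e =>
      hIun _ (hcI c hc x hx) _ hx (by
        rw [hcφ, e]
        ext i
        fin_cases i <;> simp [e])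
    obtain ⟨e, he, hφe⟩ := hIex ![1, 0]
    obtain ⟨f, hf, hφf⟩ := hIex ![0, 1]
    let Z := M ⊓ fix₁ (ρ c)
    have hcomm : ∀ x y, ⁅x, y⁆ ∈ M := fun x y => by
      rw [hMi, commutatorElement_def, hφ, hφ, hφ, hinv, hinv]; abel
    have hef : ⁅e, f⁆ ∈ Z := by
      refine ⟨hcomm e f, ?_⟩
      have h3 : e * f⁻¹ * ρ c f ∈ M := by
        rw [hMi, hφ, hφ, hinv, hcφ, hφe, hφf]
        ext i
        fin_cases i <;> simp
      change ρ c _ = _
      rw [map_commutatorElement, hcfix e he (by simp [hφe])]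
      have h4 := hIM e he _ h3
      have h5 : ρ c f = f * e⁻¹ * (e * f⁻¹ * ρ c f) := by group
      generalize e * f⁻¹ * ρ c f = m at h4 h5
      rw [h5, commutatorElement_def, commutatorElement_def]
      calc _ = e * f * e⁻¹ * (m * e⁻¹ * m⁻¹ * e) * f⁻¹ := by group
        _ = e * f * e⁻¹ * (m * (m * e)⁻¹ * e) * f⁻¹ := by group
        _ = _ := by rw [← h4]; group
    have hY : ∀ x ∈ closure ({e, f} : Set W), ∀ y ∈ closure ({e, f} : Set W), ⁅x, y⁆ ∈ Z :=
      fun x hx y hy => commutator_mem_of_closure (by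
        rintro a (rfl | rfl) z hz
        exacts [hIM _ he z hz.1, hIM _ hf z hz.1]) (by
        rintro a (rfl | rfl) b (rfl | rfl)
        · rw [commutatorElement_self]; exact Z.one_mem
        · exact hef
        · rw [← commutatorElement_inv]; exact Z.inv_mem hef
        · rw [commutatorElement_self]; exact Z.one_mem) hx hy
    have hYM : ∀ x ∈ closure ({e, f} : Set W), ∀ m ∈ M, x * m = m * x := fun x hx m hm => by
      have : closure ({e, f} : Set W) ≤ centralizer (M : Set W) := (closure_le _).2 (by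
        rintro a (rfl | rfl) z hz
        exacts [(hIM _ he z hz).symm, (hIM _ hf z hz).symm])
      exact (this hx m hm).symm
    have hYex : ∀ i, ∃ x ∈ closure ({e, f} : Set W), x⁻¹ * i ∈ M := fun i => by
      refine ⟨e ^ (φ i 0).val * f ^ (φ i 1).val, mul_mem (pow_mem (subset_closure (by simp)) _)
        (pow_mem (subset_closure (by simp)) _), ?_⟩
      rw [hMi, hφ, hinv, hφ, hpow, hpow, hφe, hφf]
      ext j
      fin_cases j <;> simp
    have hII : ∀ i ∈ I, ∀ j ∈ I, ⁅i, j⁆ ∈ Z := fun i hi j hj => by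
      obtain ⟨x, hx, hm⟩ := hYex i
      obtain ⟨y, hy, hm'⟩ := hYex j
      have h3 := hIM j hj _ hm
      have h4 := hYM x hx _ hm'
      have h5 : i = x * (x⁻¹ * i) := by group
      have h6 : j = y * (y⁻¹ * j) := by group
      convert hY x hx y hy using 1
      generalize x⁻¹ * i = m at h3 h5
      generalize y⁻¹ * j = m' at h4 h6
      calc ⁅i, j⁆ = x * (m * j) * m⁻¹ * x⁻¹ * j⁻¹ := by rw [h5, commutatorElement_def]; group
        _ = x * j * x⁻¹ * j⁻¹ := by rw [← h3]; group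
        _ = x * y * m' * (m' * x)⁻¹ * y⁻¹ := by rw [h6]; group
        _ = _ := by rw [← h4, commutatorElement_def]; group
    have hP : ∀ x ∈ closure I, ∃ i ∈ I, i⁻¹ * x ∈ Z := fun x hx => by
      induction hx using closure_induction with
      | mem x hx => exact ⟨x, hx, by rw [inv_mul_cancel]; exact Z.one_mem⟩
      | one => exact ⟨1, by simp [hI], by simp⟩
      | mul x y _ _ h3 h4 =>
        obtain ⟨i, hi, h3⟩ := h3
        obtain ⟨j, hj, h4⟩ := h4
        obtain ⟨l, hl, e⟩ := hIex (φ i + φ j)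
        have h5 : l⁻¹ * (i * j) ∈ M := by rw [hMi, hφ, hφ, hinv, e, neg_add_cancel]
        have h6 := hτM _ h5
        rw [map_mul, map_mul, map_inv, hI.1 hi, hI.1 hj, hI.1 hl] at h6
        have h7 : l⁻¹ * (i * j) * (l⁻¹ * (i * j)) = ⁅i, j⁆ := by
          have h8 := hIM l hl _ h5
          have h9 : l⁻¹ * (i * j) = i * j * l⁻¹ :=
            calc _ = l⁻¹ * (i * j) * l * l⁻¹ := by group
              _ = _ := by rw [← h8]; group
          rw [congrArg₂ (· * ·) h9 h6.symm, commutatorElement_def]; group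
        have h8 : l⁻¹ * (i * j) ∈ Z := ⟨h5, eq_of_sq_eq hp2 hW (by
          rw [← map_mul, h7]; exact (hII i hi j hj).2)⟩
        refine ⟨l, hl, ?_⟩
        have h9 := hIM j hj _ h3.1
        have : l⁻¹ * (x * y) = l⁻¹ * (i * j) * (i⁻¹ * x) * (j⁻¹ * y) := by
          calc _ = l⁻¹ * i * (i⁻¹ * x * j) * (j⁻¹ * y) := by group
            _ = _ := by rw [← h9]; group
        rw [this]
        exact Z.mul_mem (Z.mul_mem h8 h3) h4
      | inv x _ h3 =>
        obtain ⟨i, hi, h3⟩ := h3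
        refine ⟨i⁻¹, by rw [hI, map_inv, hI.1 hi], ?_⟩
        have h4 := hIM i hi _ h3.1
        have : i⁻¹⁻¹ * x⁻¹ = (i⁻¹ * x)⁻¹ := by
          calc _ = (i * (i⁻¹ * x) * i⁻¹)⁻¹ := by group
            _ = _ := by rw [h4]; group
        rw [this]
        exact Z.inv_mem h3
    obtain ⟨i, hi, h3⟩ := hP _ (mul_mem (inv_mem hx) (hcP c hc x hx))
    have h4 : φ i 1 = 0 := by
      have := congrFun (hMi.1 h3.1) 1
      rw [hφ, hφ, hinv, hinv, hcφ] at this
      simpa [vecHead, vecTail] using this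
    have h5 := mem_fix₁.1 h3.2
    rw [map_mul, map_inv, hcfix i hi h4] at h5
    exact mul_left_cancel h5
  · have h3 : θ (c * (d * c * d⁻¹)) = PLocal.sl2U p * PLocal.sl2L p := by
      rw [map_mul, map_mul, map_mul, map_inv, hcθ, hdθ, PLocal.sl2_braid]; group
    refine PLocal.not_pow_eq_one_of_transvections p (l := -1) (by simp) (PLocal.coe_sl2U p)
      (PLocal.coe_sl2L p) k ?_
    rw [← h3, ← map_pow]
    refine Subtype.ext (Matrix.toLin'.injective (LinearMap.ext fun v => ?_))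
    obtain ⟨x, hx, rfl⟩ := hIex v
    have := hact ((c * (d * c * d⁻¹)) ^ p ^ k) x
    rw [map_pow ρ, hk x (subset_closure hx)] at this
    rw [toLin'_apply, ← this]
    simp

theorem exists_quadratic_of_pair (hp2 : p ≠ 2) {G : Type*} [Group G] [Finite G]
    (hG : IsPGroup p G) {a b : MulAut G} {N : Subgroup G} [hN : N.Normal]
    (hNi : Inv (closure {a, b}) N)
    (hNp : ∀ α ∈ closure ({a, b} : Set (MulAut G)), ∃ k, ∀ x ∈ N, (α ^ p ^ k) x = x)
    (ha : ∀ x, (x⁻¹ * a x)⁻¹ * a (x⁻¹ * a x) ∈ N) (hb : ∀ x, (x⁻¹ * b x)⁻¹ * b (x⁻¹ * b x) ∈ N)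
    (hn : ¬ IsPGroup p (closure ({a, b} : Set (MulAut G)))) :
    ∃ (P : Subgroup G), ∃ c ∈ closure ({a, b} : Set (MulAut G)),
      ∃ d ∈ closure ({a, b} : Set (MulAut G)), (∀ x ∈ P, c x ∈ P) ∧ (∀ x ∈ P, d x ∈ P) ∧
      (∀ x ∈ P, c (x⁻¹ * c x) = x⁻¹ * c x) ∧
      ∀ k, ¬ ∀ x ∈ P, ((c * (d * c * d⁻¹)) ^ p ^ k) x = x := by
  set H := closure ({a, b} : Set (MulAut G)) with hH
  obtain ⟨M, ⟨hM, hMi, hNM, hMp⟩, hmax⟩ := Set.Finite.exists_maximal (Set.toFinite
    {M : Subgroup G | M.Normal ∧ Inv H M ∧ N ≤ M ∧ ∀ α ∈ H, ∃ k, ∀ x ∈ M, (α ^ p ^ k) x = x})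
    ⟨N, hN, hNi, le_rfl, hNp⟩
  obtain ⟨σ, hσ⟩ := exists_quotHom hMi
  let K : Subgroup (G ⧸ M) :=
    { carrier := {z | z ∈ center (G ⧸ M) ∧ z ^ p = 1}
      one_mem' := ⟨one_mem _, one_pow _⟩
      mul_mem' := fun {x y} hx hy => ⟨mul_mem hx.1 hy.1, by
        rw [(show Commute x y from (mem_center_iff.1 hy.1 x)).mul_pow, hx.2, hy.2, one_mul]⟩
      inv_mem' := fun {x} hx => ⟨inv_mem hx.1, by rw [inv_pow, hx.2, inv_one]⟩ }
  have hK : IsElementaryAbelian p K :=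
    ⟨⟨⟨fun x y => Subtype.ext (mem_center_iff.1 y.2.1 x)⟩⟩, fun x hx => hx.2⟩
  have hKσ : ∀ (s : MulAut (G ⧸ M)), ∀ z ∈ K, s z ∈ K := fun s z hz =>
    ⟨mem_center_iff.2 fun y => by
      obtain ⟨y, rfl⟩ := s.surjective y
      rw [← map_mul, ← map_mul, mem_center_iff.1 hz.1 y], by rw [← map_pow, hz.2, map_one]⟩
  let r : H →* Module.End (ZMod p) (PLocal.EA hK) :=
    { toFun := fun h => AddMonoidHom.toZModLinearMap p
        { toFun := fun v => PLocal.EA.of hK (σ h v.val) (hKσ _ _ v.val_mem)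
          map_zero' := PLocal.EA.ext (by simp)
          map_add' := fun v w => PLocal.EA.ext (by simp) }
      map_one' := LinearMap.ext fun v => PLocal.EA.ext (by simp)
      map_mul' := fun g h => LinearMap.ext fun v => PLocal.EA.ext (by simp) }
  have hr : ∀ h v, (r h v).val = σ h v.val := fun _ _ => rfl
  have hquad : ∀ h : H, (∀ x, (x⁻¹ * (h : MulAut G) x)⁻¹ * (h : MulAut G) (x⁻¹ * (h : MulAut G) x)
      ∈ N) → (r h - 1) ^ 2 = 0 := fun h hq => by
    refine LinearMap.ext fun v => ?_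
    have h1 : ∀ w, (r h - 1) w = -w + r h w := fun w => by simp [sub_eq_neg_add]
    rw [pow_two, Module.End.mul_apply, h1, h1]
    refine PLocal.EA.ext ?_
    obtain ⟨x, hx⟩ := QuotientGroup.mk_surjective v.val
    simp only [PLocal.EA.val_add, PLocal.EA.val_neg, hr, ← hx, hσ, ← QuotientGroup.mk_inv,
      ← QuotientGroup.mk_mul]
    exact (QuotientGroup.eq_one_iff _).2 (hNM (hq x))
  rcases PLocal.exists_natural_module_of_two_quadratic hp2 r _ _ (PLocal.closure_pair_subtype a b)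
    (hquad _ ha) (hquad _ hb) with h | ⟨E, θ, T, hθ, hT, hact⟩
  · exfalso
    have hMK : M ≤ K.comap (QuotientGroup.mk' M) := fun x hx => by
      rw [mem_comap, QuotientGroup.mk'_apply, (QuotientGroup.eq_one_iff x).2 hx]
      exact K.one_mem
    have hKn : K.Normal := ⟨fun z hz y => hKσ (MulAut.conj y) z hz⟩
    have hle := hmax (y := K.comap (QuotientGroup.mk' M)) ⟨inferInstance, fun α hα x hx => by
      rw [mem_comap, QuotientGroup.mk'_apply, ← hσ ⟨α, hα⟩]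
      exact hKσ _ _ hx, hNM.trans hMK, fun α hα => by
        obtain ⟨k, hk⟩ := PLocal.exists_coprime_orderOf_pow_prime_pow p α
        refine ⟨k, fun x hx => ?_⟩
        have hβ := H.pow_mem hα (p ^ k)
        generalize α ^ p ^ k = β at hk hβ
        obtain ⟨j, hj⟩ := hMp β hβ
        obtain ⟨l, hl⟩ := h ⟨β, hβ⟩
        have h1 : σ ⟨β, hβ⟩ (x : G ⧸ M) = x := by
          refine apply_eq_self_of_coprime (k := l) (Nat.Coprime.coprime_dvd_left
            (orderOf_map_dvd σ _) (by rwa [← Subgroup.orderOf_coe])) ?_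
          rw [← map_pow]
          have := hr (⟨β, hβ⟩ ^ p ^ l) (PLocal.EA.of hK x hx)
          rw [map_pow r, hl] at this
          exact this.symm
        rw [hσ, eq_comm, QuotientGroup.eq] at h1
        have h2 : ∀ m ∈ M, β m = m := fun m hm => apply_eq_self_of_coprime hk (hj m hm)
        obtain ⟨c, hc, e⟩ := exists_fixed_of_coset₁ hk (hG.to_subgroup M)
          (fun m hm => by rw [h2 m hm]; exact hm) h1
        have := h2 _ e
        rw [map_mul, hc, map_inv] at this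
        simpa using this⟩ hMK
    have hMt : M ≠ ⊤ := by
      rintro rfl
      refine hn fun α => ?_
      obtain ⟨k, hk⟩ := hMp α α.2
      exact ⟨k, Subtype.ext (MulEquiv.ext fun x => hk x trivial)⟩
    have : Nontrivial (G ⧸ M) := QuotientGroup.nontrivial_iff.2 hMt
    have hGM := hG.to_quotient M
    have := hGM.center_nontrivial
    obtain ⟨z, hz⟩ := exists_prime_orderOf_dvd_card' (G := center (G ⧸ M)) p
      (((hGM.to_subgroup _).nontrivial_iff_card.1 this).elim fun n hn' => by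
        rw [hn'.2]; exact dvd_pow_self p hn'.1.ne')
    obtain ⟨x, hx⟩ := QuotientGroup.mk_surjective (z : G ⧸ M)
    have h1 : x ∈ M := hle (show (x : G ⧸ M) ∈ K from hx ▸ ⟨z.2, by
      rw [← hz, ← Subgroup.coe_pow, pow_orderOf_eq_one]; rfl⟩)
    rw [← QuotientGroup.eq_one_iff, hx, OneMemClass.coe_eq_one] at h1
    rw [h1, orderOf_one] at hz
    exact hp.out.one_lt.ne hz
  · let W : Subgroup G := (PLocal.EA.grp (LinearMap.range T)).comap (QuotientGroup.mk' M)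
    have hW : ∀ x : W, ∃ v, (T v).val = ((x : G) : G ⧸ M) := fun x => by
      obtain ⟨_, ⟨v, rfl⟩, e⟩ := PLocal.EA.mem_grp.1 x.2
      exact ⟨v, e⟩
    choose φ hφ using hW
    have hφ' : ∀ (x : W) v, (T v).val = ((x : G) : G ⧸ M) → φ x = v := fun x v e =>
      hT (PLocal.EA.ext (by rw [hφ, e]))
    have hmem : ∀ (x : G) v, (T v).val = (x : G ⧸ M) → x ∈ W := fun x v e =>
      PLocal.EA.mem_grp.2 ⟨_, ⟨v, rfl⟩, e⟩
    let τ : E →* MulAut G := H.subtype.comp E.subtype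
    have hτ : ∀ (h : E) (x : W), (T ((θ h).1 *ᵥ φ x)).val = ((τ h x : G) : G ⧸ M) := fun h x => by
      rw [← hact, hr, hφ, hσ]; rfl
    obtain ⟨ρ, hρ⟩ := exists_subHom (𝒜 := τ.range) (V := W) (by
      rintro _ ⟨h, rfl⟩ x hx
      exact hmem _ _ (hτ h ⟨x, hx⟩))
    have hρ' : ∀ (h : E) (x : W), (((ρ.comp τ.rangeRestrict) h x : W) : G) = τ h x :=
      fun h x => hρ _ x
    obtain ⟨P, c, d, h1, h2, h3, h4⟩ := exists_quadratic_of_natural hp2 (hG.to_subgroup W)
      (ρ.comp τ.rangeRestrict) θ hθ φ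
      (fun x y => hφ' _ _ (by rw [map_add, PLocal.EA.val_add, hφ, hφ]; rfl))
      (fun v => by
        obtain ⟨x, hx⟩ := QuotientGroup.mk_surjective (T v).val
        exact ⟨⟨x, hmem x v hx.symm⟩, hφ' _ _ hx.symm⟩)
      (fun h x => hφ' _ _ (by rw [hτ, hρ']))
      (fun h => by
        obtain ⟨k, hk⟩ := hMp (τ h) h.1.2
        refine ⟨k, fun m hm => Subtype.ext ?_⟩
        rw [← map_pow, hρ', map_pow]
        refine hk _ ((QuotientGroup.eq_one_iff _).1 ?_)
        rw [← hφ, hm, map_zero, PLocal.EA.val_zero])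
    refine ⟨P.map W.subtype, τ c, c.1.2, τ d, d.1.2, ?_, ?_, ?_, fun k hk => h4 k fun x hx => ?_⟩
    · rintro _ ⟨x, hx, rfl⟩
      exact ⟨_, h1 x hx, hρ' c x⟩
    · rintro _ ⟨x, hx, rfl⟩
      exact ⟨_, h2 x hx, hρ' d x⟩
    · rintro _ ⟨x, hx, rfl⟩
      have := congrArg Subtype.val (h3 x hx)
      rwa [hρ', Subgroup.coe_mul, hρ'] at this
    · refine Subtype.ext ?_
      rw [← map_pow, hρ', map_pow, map_mul, map_mul, map_mul, map_inv]
      exact hk _ ⟨x, hx, rfl⟩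

theorem exists_quadratic_of_quot (hp2 : p ≠ 2) {G : Type*} [Group G] [Finite G]
    (hG : IsPGroup p G) {𝒜 : Subgroup (MulAut G)} {N : Subgroup G} [N.Normal] (hNi : Inv 𝒜 N)
    (hNp : ∀ α ∈ 𝒜, ∃ k, ∀ x ∈ N, (α ^ p ^ k) x = x) {χ : MulAut G} (hχ : χ ∈ 𝒜)
    (hq : ∀ x, (x⁻¹ * χ x)⁻¹ * χ (x⁻¹ * χ x) ∈ N) (hn : χ ∉ (pCore p 𝒜).map 𝒜.subtype) :
    ∃ (P : Subgroup G), ∃ c ∈ 𝒜, ∃ d ∈ 𝒜, (∀ x ∈ P, c x ∈ P) ∧ (∀ x ∈ P, d x ∈ P) ∧
      (∀ x ∈ P, c (x⁻¹ * c x) = x⁻¹ * c x) ∧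
      ∀ k, ¬ ∀ x ∈ P, ((c * (d * c * d⁻¹)) ^ p ^ k) x = x := by
  have key : ∃ g ∈ 𝒜, ¬ IsPGroup p (closure ({χ, g * χ * g⁻¹} : Set (MulAut G))) := by
    by_contra h
    push Not at h
    have h1 : ∀ g : 𝒜, IsPGroup p ↥(zpowers (⟨χ, hχ⟩ : 𝒜) ⊔
        (zpowers (⟨χ, hχ⟩ : 𝒜)).map (MulAut.conj g).toMonoidHom) := fun g => by
      refine ((h g g.2).comap_of_injective 𝒜.subtype 𝒜.subtype_injective).to_le (sup_le ?_ ?_)
      · exact zpowers_le.2 (subset_closure (by simp))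
      · rw [MonoidHom.map_zpowers]
        exact zpowers_le.2 (subset_closure (by simp))
    obtain ⟨D, hD, hDp, hle⟩ := S0199.result _ ((h1 1).to_le le_sup_left) h1
    exact hn ⟨_, Grp.le_pCore hD hDp (hle (mem_zpowers _)), rfl⟩
  obtain ⟨g, hg, hn⟩ := key
  have hle : closure ({χ, g * χ * g⁻¹} : Set (MulAut G)) ≤ 𝒜 := (closure_le _).2 (by
    rintro _ (rfl | rfl)
    exacts [hχ, mul_mem (mul_mem hg hχ) (inv_mem hg)])
  obtain ⟨P, c, hc, d, hd, h⟩ := exists_quadratic_of_pair hp2 hG (hNi.mono hle)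
    (fun α hα => hNp α (hle hα)) hq (fun x => by simpa using hNi g hg _ (hq (g⁻¹ x))) hn
  exact ⟨P, c, hle hc, d, hle hd, h⟩

end Cfsg.Agent.Fus.AC
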