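import Mathlib
import Cfsg.Agent.Fus.QuadLift
import Cfsg.Agent.Fus.SecSolv
import Cfsg.Agent.Fus.BCGLO
import Cfsg.Agent.Fus.Invariant
import Cfsg.Agent.Fus.AutSL2
import Cfsg.Agent.PLocal.ZJ

/-!
`p`-stable fusion systems.
-/

set_option autoImplicit false

namespace Cfsg.Agent.Fus

open Cfsg Cfsg.FusionSystem
open scoped commutatorElement

universe u

/-- The automorphism `χ` acts quadratically. -/
def QuadAut {Q : Type*} [Group Q] (χ : MulAut Q) : Prop :=
  ∀ a : Q, χ a⁻¹ * a * χ a⁻¹ * χ (χ a) = 1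

theorem quadAut_iff {Q : Type*} [Group Q] {χ : MulAut Q} :
    QuadAut χ ↔ ∀ a, χ (a⁻¹ * χ a) = a⁻¹ * χ a := by
  refine forall_congr' fun a => ?_
  rw [eq_comm (b := a⁻¹ * χ a), ← inv_mul_eq_one (a := a⁻¹ * χ a), map_mul, mul_inv_rev, inv_inv,
    ← map_inv, mul_assoc (_ * a)]

theorem QuadAut.exists_pow {Q : Type*} [Group Q] [Finite Q] {χ : MulAut Q} {p : ℕ} [Fact p.Prime]
    (hQ : IsPGroup p Q) (h : QuadAut χ) : ∃ k, χ ^ p ^ k = 1 := by
  have key : ∀ (n : ℕ) a, (χ ^ n) a = a * (a⁻¹ * χ a) ^ n := fun n a => by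
    induction n with
    | zero => simp
    | succ n ih =>
      rw [pow_succ', MulAut.mul_apply, ih, map_mul, map_pow, quadAut_iff.1 h, pow_succ',
        ← mul_assoc, mul_inv_cancel_left]
  obtain ⟨k, hk⟩ := hQ.exists_card_eq
  exact ⟨k, MulEquiv.ext fun a => by rw [key, ← hk, pow_card_eq_one', mul_one]; rfl⟩

theorem commutator_zpowers_zpowers_eq_bot_iff {G : Type*} [Group G] {P : Subgroup G} {g : G} :
    ⁅⁅P, Subgroup.zpowers g⁆, Subgroup.zpowers g⁆ = ⊥ ↔ ∀ x ∈ P, Commute (x * g * x⁻¹) g := by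
  rw [Subgroup.commutator_eq_bot_iff_le_centralizer, Subgroup.commutator_le]
  constructor
  · intro h x hx
    have h1 : Commute g ⁅x, g⁆ := h x hx g (Subgroup.mem_zpowers g) g (Subgroup.mem_zpowers g)
    have : x * g * x⁻¹ = ⁅x, g⁆ * g := by rw [commutatorElement_def]; group
    rw [this]
    exact h1.symm.mul_left (Commute.refl g)
  · rintro h x hx _ ⟨m, rfl⟩ _ ⟨n, rfl⟩
    have : ⁅x, g ^ m⁆ = (x * g * x⁻¹) ^ m * g ^ (-m) := by
      rw [commutatorElement_def, conj_zpow, zpow_neg]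
    change Commute (g ^ n) ⁅x, g ^ m⁆
    rw [this]
    exact ((h x hx).symm.zpow_zpow n m).mul_right (Commute.zpow_zpow_self g n (-m))

variable {Ω : Type*} [Group Ω] {S T U : Subgroup Ω} {Ω' : Type*} [Group Ω'] {S' : Subgroup Ω'}
  {F : FusionSystem S} {E : FusionSystem T} {D : FusionSystem S'} {P Q R : Subgroup Ω}
  {Q' : Subgroup Ω'} {f g : Ω → Ω} {p : ℕ}

theorem quadAut_iff_afn {χ : MulAut Q} :
    QuadAut χ ↔ ∀ x ∈ Q, afn χ (x⁻¹ * afn χ x) = x⁻¹ * afn χ x := by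
  rw [quadAut_iff, Subtype.forall]
  refine forall₂_congr fun x hx => ?_
  rw [Subtype.ext_iff, ← afn_coe, Subgroup.coe_mul, ← afn_coe]
  rfl

/-- Quadratic `F`-automorphisms of `Q` lie in `O_p(Aut_F(Q))`. -/
def StableAt (p : ℕ) (F : FusionSystem S) (Q : Subgroup Ω) : Prop :=
  ∀ χ : MulAut Q, χ ∈ F.autGroup Q → QuadAut χ → χ ∈ opAut p F Q

/-- The fusion system is `p`-stable. -/
def FStable (p : ℕ) (F : FusionSystem S) : Prop := ∀ Q, Q ≤ S → StableAt p F Q

theorem StableAt.of_rel (h : StableAt p D Q') {a : Ω → Ω'}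
    (hm : ∀ x ∈ Q, ∀ y ∈ Q, a (x * y) = a x * a y) (hi : Set.InjOn a Q)
    (hs : ∀ y ∈ Q', ∃ x ∈ Q, a x = y)
    (hr : ∀ α ∈ F.autGroup Q, ∃ β ∈ D.autGroup Q', ∀ x ∈ Q, afn β (a x) = a (afn α x)) :
    StableAt p F Q := by
  have key : ∀ α : F.autGroup Q, ∃ β ∈ D.autGroup Q',
      ∀ x ∈ Q, afn β (a x) = a (afn (α : MulAut Q) x) := fun α => hr α α.2
  choose ρ hρ e using key
  let π : F.autGroup Q →* MulAut Q' := MonoidHom.mk' ρ fun α β => aut_ext fun y hy => by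
    rw [afn_mul _ _ hy]
    obtain ⟨x, hx, rfl⟩ := hs y hy
    rw [e _ x hx, e β x hx, e α _ (afn_mem _ hx), Subgroup.coe_mul, afn_mul _ _ hx]
  have hπ : Function.Injective π := (injective_iff_map_eq_one _).2 fun α hα =>
    Subtype.ext (aut_ext fun x hx => hi (afn_mem _ hx) (afn_mem _ hx) (by
      rw [← e α x hx, show ρ α = 1 from hα, Subgroup.coe_one, afn_one, afn_one]))
  have h1 : a 1 = 1 := by simpa using hm 1 Q.one_mem 1 Q.one_mem
  have hinv : ∀ x ∈ Q, a x⁻¹ = (a x)⁻¹ := fun x hx =>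
    eq_inv_of_mul_eq_one_left (by rw [← hm _ (Q.inv_mem hx) x hx, inv_mul_cancel, h1])
  intro χ hχ hq
  refine ⟨⟨χ, hχ⟩, Grp.le_pCore (N := (opAut p D Q').comap π) ⟨fun α hα β => ?_⟩
    (isPGroup_opAut.comap_of_injective π hπ) (h _ (hρ _) (quadAut_iff_afn.2 fun y hy => ?_)), rfl⟩
  · rw [Subgroup.mem_comap, map_mul, map_mul, map_inv]
    exact conj_mem_opAut (hρ β) hα
  · obtain ⟨x, hx, rfl⟩ := hs y hy
    rw [show π ⟨χ, hχ⟩ = ρ ⟨χ, hχ⟩ from rfl, e _ x hx, ← hinv x hx, ← hm _ (Q.inv_mem hx) _ (afn_mem _ hx),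
      e _ _ (Q.mul_mem (Q.inv_mem hx) (afn_mem _ hx)), quadAut_iff_afn.1 hq x hx]

theorem StableAt.of_le (h : StableAt p E Q) (hle : F.autGroup Q ≤ E.autGroup Q) : StableAt p F Q :=
  h.of_rel (a := fun x => x) (fun _ _ _ _ => rfl) (fun _ _ _ _ e => e) (fun y hy => ⟨y, hy, rfl⟩)
    fun α hα => ⟨α, hle hα, fun _ _ => rfl⟩

theorem StableAt.of_isConj (h : StableAt p F Q) (hc : F.IsConj P Q) : StableAt p F P := by
  obtain ⟨f, hf, rfl⟩ := isConj_iff.1 hc
  refine h.of_rel hf.homOn hf.injOn (fun y hy => hf.mem_img.1 hy) fun α hα => ?_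
  obtain ⟨β, e, -, hβ⟩ := hf.exists_conj_aut rfl α
  exact ⟨β, hβ.2 hα, e⟩

theorem fStable_iff [Finite S] :
    FStable p F ↔ ∀ Q, F.IsFullyNormalized Q → StableAt p F Q :=
  ⟨fun h Q hQ => h Q hQ.1, fun h _ hQ =>
    let ⟨Q₁, hc, h1⟩ := exists_fullyNormalized F hQ
    (h Q₁ h1).of_isConj hc⟩

theorem FStable.of_maps [Finite S] (h : FStable p D) {a : Ω → Ω'}
    (hm : ∀ x ∈ S, ∀ y ∈ S, a (x * y) = a x * a y) (hi : Set.InjOn a S)
    (hr : ∀ P f, IsMap F P f → ∃ f', IsMap D (imX a P) f' ∧ ∀ x ∈ P, f' (a x) = a (f x)) :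
    FStable p F := by
  intro Q hQ
  have hs : ∀ y ∈ imX a Q, ∃ x ∈ Q, a x = y := fun y hy => by
    let θ : S →* Ω' := MonoidHom.mk' (fun x => a x) fun x y => hm x x.2 y y.2
    rw [imX_congr (a' := hfn θ) fun x hx => (hfn_apply θ (hQ hx)).symm, imX_hfn θ hQ,
      mem_imageAlong_of_le hQ] at hy
    obtain ⟨x, hx, rfl⟩ := hy
    exact ⟨x, hx, (hfn_apply θ (hQ hx)).symm⟩
  have hle : imX a Q ≤ S' := (hr Q _ (isMap_id F hQ)).choose_spec.1.le
  refine (h _ hle).of_rel (fun x hx y hy => hm x (hQ hx) y (hQ hy)) (hi.mono hQ) hs fun α hα => ?_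
  obtain ⟨f', hf', e⟩ := hr Q _ (isMap_afn hQ hα)
  obtain ⟨β, hβ, eβ⟩ := hf'.exists_aut (img_eq_of (fun y hy => by
    obtain ⟨x, hx, rfl⟩ := hs y hy
    rw [e x hx]
    exact mem_imX_of_mem a (afn_mem α hx)) fun y hy => by
      obtain ⟨x, hx, rfl⟩ := hs y hy
      exact ⟨_, mem_imX_of_mem a (afn_mem α⁻¹ hx), by rw [e _ (afn_mem _ hx), afn_afn_inv α hx]⟩)
  exact ⟨β, hβ, fun x hx => by rw [eβ _ (mem_imX_of_mem a hx), e x hx]⟩

theorem FStable.of_sub (h : FStable p F) (hE : E.IsSubsystemOf F) : FStable p E := fun Q hQ =>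
  (h Q (hQ.trans (le_of_isSubsystemOf hE))).of_le fun _ hα =>
    mem_autGroup_of_isMap ((isMap_afn hQ hα).of_sub hE) fun _ _ => rfl

theorem FStable.of_fIso [Finite S] (h : FStable p D) {a : Ω → Ω'} {b : Ω' → Ω}
    (hi : FIso F D a b) : FStable p F :=
  h.of_maps hi.g.mul (fun _ hx _ hy e => hi.g.inj hx hy e) fun P f hf =>
    ⟨_, hi.map P f hf, fun _ hx => hi.comp_apply f (hf.le hx)⟩

theorem stableAt_of_isCyclic [Fact p.Prime] [Finite Q] (hQ : IsPGroup p Q) [IsCyclic Q] :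
    StableAt p F Q := fun χ hχ hq => by
  obtain ⟨k, hk⟩ := hq.exists_pow hQ
  refine le_opAut (AC.isPGroup_zpowers hk) (Subgroup.zpowers_le.2 hχ) (fun α _ κ hκ => ?_)
    (Subgroup.mem_zpowers χ)
  have : α * κ = κ * α := (IsCyclic.mulAutMulEquiv Q).injective (by
    rw [map_mul, map_mul, mul_comm])
  rwa [this, mul_inv_cancel_right]

theorem exists_isNMap_of_isNormal (hEF : E.IsSubsystemOf F) (hR : E.IsNormal R)
    (hg : IsMap F T g) (hf : IsMap E P f) :
    ∃ f', IsNMap F (img R g) (img P g) f' ∧ ∀ x ∈ P, f' (g x) = g (f x) := by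
  obtain ⟨f₁, hf₁, e, hi⟩ := IsNormal_extend hR hf
  have hg₁ := hg.mono hf₁.le
  obtain ⟨g', hg', e1, e2⟩ := hg₁.exists_inv
  have h3 : IsMap F (img (P ⊔ R) g) (fun y => g (f₁ (g' y))) :=
    hg.comp' ((hf₁.of_sub hEF).comp' hg' fun y hy => (e2 y hy).1) fun y hy => hf₁.mem (e2 y hy).1
  refine ⟨_, isNMap_of_isMap h3 (img_mono g le_sup_left) (img_mono g le_sup_right)
    (img_le_iff.2 fun x hx => hg.mem_normalizerIn_img hR.1 (hf.le hx)
      ⟨le_of_isSubsystemOf hEF (hf.le hx), le_normalizer_of_isNormal hR (hf.le hx)⟩) ?_,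
    fun x hx => by simp only [e1 x (Subgroup.mem_sup_left hx), e x hx]⟩
  rw [(hg.mono hR.1).homOn.img_img, img_congr (g := g ∘ f₁) fun x hx => by
    simp only [Function.comp, e1 x (Subgroup.mem_sup_right hx)],
    ← (hf₁.mono le_sup_right).homOn.img_img, hi]

theorem isCentric_sup_of_fullyCentralized [Finite S] (hQ : F.IsFullyCentralized Q) :
    F.IsCentric (Q ⊔ centralizerIn S Q) := by
  refine ⟨sup_le hQ.1 (centralizerIn_le S Q), fun R hR x hx => ?_⟩
  obtain ⟨f, hf, rfl⟩ := isConj_iff.1 hR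
  refine img_mono f le_sup_right ?_
  rw [hf.img_centralizerIn hQ le_sup_left le_sup_right]
  exact centralizerIn_anti (img_mono f le_sup_left) hx

section Groups

variable {G : Type*} [Group G]

theorem quadAut_conjAut_iff {B : Subgroup G} {g : G} (hg : g ∈ Subgroup.normalizer (B : Set G)) :
    QuadAut (conjAut B g hg) ↔ ⁅⁅B, Subgroup.zpowers g⁆, Subgroup.zpowers g⁆ = ⊥ := by
  rw [quadAut_iff_afn, commutator_zpowers_zpowers_eq_bot_iff]
  have key : ∀ x ∈ B, afn (conjAut B g hg) (x⁻¹ * afn (conjAut B g hg) x) =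
      x⁻¹ * afn (conjAut B g hg) x ↔ Commute (x⁻¹ * g * x⁻¹⁻¹) g := fun x hx => by
    rw [afn_conjAut hg (B.mul_mem (B.inv_mem hx) (afn_mem _ hx)), afn_conjAut hg hx, commute_iff_eq]
    constructor
    · intro h
      calc _ = x⁻¹ * (g * x * g⁻¹) * g * g := by group
        _ = _ := by rw [← h]; group
    · intro h
      calc _ = g * (x⁻¹ * g * x⁻¹⁻¹) * g⁻¹ * g⁻¹ := by group
        _ = _ := by rw [← h]; group
  exact ⟨fun h x hx => by simpa using (key _ (B.inv_mem hx)).1 (h _ (B.inv_mem hx)),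
    fun h x hx => (key x hx).2 (h _ (B.inv_mem hx))⟩

theorem stableAt_group_iff {B X : Subgroup G} (hB : B ≤ X) :
    StableAt p (groupFusionSystem X) B ↔ ∀ g ∈ Subgroup.normalizer (B : Set G),
      ⁅⁅B, Subgroup.zpowers g⁆, Subgroup.zpowers g⁆ = ⊥ → ∃ D : Subgroup G,
        D ≤ Subgroup.normalizer (B : Set G) ∧
        Subgroup.normalizer (B : Set G) ≤ Subgroup.normalizer (D : Set G) ∧ g ∈ D ∧
        ∀ x ∈ D, ∃ k : ℕ, x ^ p ^ k ∈ Subgroup.centralizer (B : Set G) := by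
  let π := B.normalizerMonoidHom
  have hπ : ∀ (g : Subgroup.normalizer (B : Set G)), ∀ x ∈ B, afn (π g) x = g * x * (g : G)⁻¹ :=
    fun g x hx => by rw [afn_apply _ hx, coe_normalizerMonoidHom_apply]
  have hc : ∀ g hg, conjAut B g hg = π ⟨g, hg⟩ := fun g hg =>
    aut_ext fun x hx => by rw [afn_conjAut hg hx, hπ _ x hx]
  have hmem : ∀ {α}, α ∈ (groupFusionSystem X).autGroup B ↔ ∃ g, π g = α := fun {α} => by
    rw [autGroup_group hB, mem_autInducedBy]
    exact ⟨fun ⟨g, _, e⟩ => ⟨⟨g, mem_normalizer_of_afn e⟩, aut_ext fun x hx => by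
      rw [hπ _ x hx, e x hx]⟩, fun ⟨g, e⟩ => ⟨g, trivial, fun x hx => by rw [← e, hπ g x hx]⟩⟩
  have hker : ∀ g, π g = 1 ↔ (g : G) ∈ Subgroup.centralizer (B : Set G) := fun g => by
    rw [← MonoidHom.mem_ker, Subgroup.normalizerMonoidHom_ker, Subgroup.mem_subgroupOf]
  constructor
  · intro h g hg hq
    refine ⟨((opAut p (groupFusionSystem X) B).comap π).map (Subgroup.subtype _),
      Subgroup.map_subtype_le _, Subgroup.le_normalizer_iff.2 ?_,
      ⟨⟨g, hg⟩, h _ (hmem.2 ⟨_, rfl⟩) (hc g hg ▸ (quadAut_conjAut_iff hg).2 hq), rfl⟩, ?_⟩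
    · rintro x hx _ ⟨y, hy, rfl⟩
      refine ⟨⟨x, hx⟩ * y * ⟨x, hx⟩⁻¹, ?_, rfl⟩
      rw [SetLike.mem_coe, Subgroup.mem_comap, map_mul, map_mul, map_inv]
      exact conj_mem_opAut (hmem.2 ⟨_, rfl⟩) hy
    · rintro _ ⟨y, hy, rfl⟩
      obtain ⟨k, hk⟩ := isPGroup_opAut ⟨_, hy⟩
      exact ⟨k, (hker (y ^ p ^ k)).1 (by rw [map_pow]; exact congrArg Subtype.val hk)⟩
  · intro h χ hχ hq
    obtain ⟨g, rfl⟩ := hmem.1 hχ
    obtain ⟨D, h1, h2, h3, h4⟩ := h g g.2 ((quadAut_conjAut_iff g.2).1 (by rwa [hc]))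
    refine le_opAut (K := (D.subgroupOf _).map π) ?_ ?_ ?_ ⟨g, h3, rfl⟩
    · rintro ⟨_, y, hy, rfl⟩
      obtain ⟨k, hk⟩ := h4 y hy
      exact ⟨k, Subtype.ext (by
        rw [Subgroup.coe_pow, ← map_pow]; exact (hker (y ^ p ^ k)).2 hk)⟩
    · rintro _ ⟨y, -, rfl⟩
      exact hmem.2 ⟨y, rfl⟩
    · rintro α hα _ ⟨y, hy, rfl⟩
      obtain ⟨x, rfl⟩ := hmem.1 hα
      exact ⟨x * y * x⁻¹, (Subgroup.mem_normalizer_iff.1 (h2 x.2) y).1 hy, by simp⟩

theorem isNormalizerPStable_iff_fStable [Fact p.Prime] [Finite G] (X : Sylow p G) :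
    IsNormalizerPStable p G ↔ FStable p (groupFusionSystem (X : Subgroup G)) := by
  rw [PLocal.CF.isNormalizerPStable_iff]
  refine ⟨fun h B hB => (stableAt_group_iff hB).2 (h B (X.isPGroup'.to_le hB)), fun h B hB => ?_⟩
  obtain ⟨Y, hY⟩ := hB.exists_le_sylow
  obtain ⟨g, rfl⟩ := MulAction.exists_smul_eq G X Y
  refine (stableAt_group_iff hY).1 (FStable.of_fIso h (exists_fIso_group_equiv
    (MulAut.conj g).symm _ ?_) B hY)
  exact Subgroup.map_symm_eq_iff_map_eq _ |>.2 rfl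

theorem stableOnNormal_of_isNormalizerPStable (h : IsNormalizerPStable p G) :
    PLocal.StableOnNormal p G := fun B _ hB A _ hq a ha => by
  obtain ⟨D, -, h2, h3, h4⟩ := PLocal.CF.isNormalizerPStable_iff.1 h B hB a
    (Subgroup.le_normalizer_of_normal (Subgroup.mem_top a)) (le_bot_iff.1 (hq ▸
      Subgroup.commutator_mono (Subgroup.commutator_mono le_rfl (Subgroup.zpowers_le.2 ha))
        (Subgroup.zpowers_le.2 ha)))
  have : D.Normal := Subgroup.normalizer_eq_top_iff.1 (top_le_iff.1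
    (Subgroup.le_normalizer_of_normal.trans h2))
  exact PLocal.le_stabCore h4 h3

theorem isNormalizerPStable_of_qdFree [Fact p.Prime] [Finite G] (hp : p ≠ 2)
    (h : ¬ Involves (qd p) G) : IsNormalizerPStable p G := by
  intro B hB g hg hq
  by_contra hn
  obtain ⟨L, ψ, hψ⟩ := PLocal.exists_surjective_qd_of_not_mem_pCore hp
    (B.subgroupOf (Subgroup.normalizer (B : Set G))) (hB.comap_subtype)
    ((Subgroup.centralizer (B : Set G)).subgroupOf (Subgroup.normalizer (B : Set G)))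
    (fun x hx b hb => congrArg Subtype.val (hx ⟨b, Subgroup.le_normalizer hb⟩ hb)) ⟨g, hg⟩ (by
      rw [commutator_zpowers_zpowers_eq_bot_iff] at hq ⊢
      exact fun x hx => Subtype.ext (hq x hx)) hn
  exact h (PLocal.CF.sec_iff_involves.1 (((PLocal.CF.sec_of_surjective ψ hψ).trans
    (PLocal.CF.sec_subgroup L)).trans (PLocal.CF.sec_subgroup _)))

end Groups

section Sat

variable [Fact p.Prime] [Finite S]

theorem fStable_iff_of_isRealizedBy {G : Type*} [Group G] [Finite G] {ι : S →* G}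
    (h : F.IsRealizedBy ι) (X : Sylow p G) (hX : (X : Subgroup G) = ι.range) :
    FStable p F ↔ IsNormalizerPStable p G := by
  obtain ⟨b, hb⟩ := fIso_of_isRealizedBy h
  rw [isNormalizerPStable_iff_fStable X, hX]
  exact ⟨fun h => h.of_fIso hb.symm, fun h => h.of_fIso hb⟩

/-- Up to conjugacy, the automorphisms of a subgroup extend to a fully normalized centric
subgroup. -/
theorem exists_centric_ext (hS : IsPGroup p S) (hF : F.IsSaturated p) (hQ : Q ≤ S) :
    ∃ Q₁ X, F.IsConj Q Q₁ ∧ Q₁ ≤ X ∧ F.IsFullyNormalized X ∧ F.IsCentric X ∧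
      ∀ β ∈ F.autGroup Q₁, ∃ γ ∈ F.autGroup X, ∀ x ∈ Q₁, afn γ x = afn β x := by
  obtain ⟨Q₀, hc, hn⟩ := exists_fullyNormalized F hQ
  have hfc := sat_fullyCentralized hS hF hn
  have hX := isCentric_sup_of_fullyCentralized hfc
  obtain ⟨g, hg, hn'⟩ := sat_exists_fullyNormalized_map hS hF hX.1
  have hgX := hg.mono (le_normalizerIn hX.1)
  have hgQ := hgX.mono le_sup_left
  refine ⟨img Q₀ g, _, isConj_trans hc hgQ.isConj, img_mono g le_sup_left, hn',
    isCentric_of_isConj hX hgX.isConj, fun β hβ => ?_⟩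
  obtain ⟨Φ, eΦ, hΦ, -⟩ := hgQ.exists_transport rfl
  obtain ⟨α, rfl⟩ := Φ.surjective β
  obtain ⟨f, hf, e⟩ := sat_extend_centralizer hS hF (isMap_afn hn.1 ((hΦ α).1 hβ))
    (by rwa [img_afn])
  have hi : img Q₀ f = Q₀ := by rw [img_congr e, img_afn]
  obtain ⟨γ, hγ, eγ⟩ := hf.exists_aut (by
    rw [hf.homOn.img_sup, hf.img_centralizerIn hfc le_sup_left le_sup_right, hi])
  obtain ⟨δ, eδ, -, hδ⟩ := hgX.exists_conj_aut rfl γ
  refine ⟨δ, hδ.2 hγ, fun y hy => ?_⟩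
  obtain ⟨x, hx, rfl⟩ := hgQ.mem_img.1 hy
  rw [eδ x (Subgroup.mem_sup_left hx), eγ x (Subgroup.mem_sup_left hx), e x hx, eΦ α x hx]

theorem fStable_of_centric (hS : IsPGroup p S) (hF : F.IsSaturated p)
    (h : ∀ X (hX : F.IsFullyNormalized X), F.IsCentric X → FStable p (normSys F X hX.1)) :
    FStable p F := fun Q hQ => by
  obtain ⟨Q₁, X, hc, hle, hn, hX, he⟩ := exists_centric_ext hS hF hQ
  refine StableAt.of_isConj (StableAt.of_le (h X hn hX Q₁ (hle.trans (le_normalizerIn hn.1)))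
    fun β hβ => ?_) hc
  obtain ⟨γ, hγ, e⟩ := he β hβ
  exact mem_autGroup_of_isMap (isMap_normSys.2 (isNMap_of_isMap (isMap_afn hn.1 hγ) hle le_rfl
    (hle.trans (le_normalizerIn hn.1)) (img_afn γ))) fun x hx => (e x hx).symm

theorem fStable_of_cr (hS : IsPGroup p S) (hF : F.IsSaturated p)
    (h : ∀ X (hX : F.IsFullyNormalized X), F.IsCentric X → F.IsRadical p X →
      FStable p (normSys F X hX.1)) : FStable p F := by
  refine fStable_of_centric hS hF fun X hX => down_induction (S := S)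
    (M := fun X => ∀ hX : F.IsFullyNormalized X, F.IsCentric X → FStable p (normSys F X hX.1))
    (fun Q hQS ih hn hc => ?_) X hX.1 hX
  have hN := isNormalizerSystem_normSys F hn.1
  set N := normSys F Q hn.1
  have hcon := isConstrained_normalizerSystem hS hF hn hc hN
  have hQN := le_core (isNormal_normalizerSystem hQS hN)
  have hcS := (core_le N).trans (normalizerIn_le S Q)
  rcases hQN.eq_or_lt with e | hlt
  · have h1 := radical_core (isPGroup_of_le hS (normalizerIn_le S Q)) hcon.1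
      (centric_core_of_constrained hcon)
    rw [← e] at h1
    exact h Q hn hc ⟨hQS, by rw [← autGroup_normalizerSystem hN hQS]; exact h1.2⟩
  · obtain ⟨g, hg, hn'⟩ := sat_exists_fullyNormalized_map hS hF hcS
    have hcj := (hg.mono (le_normalizerIn hcS)).isConj
    have hg' : IsMap F (normalizerIn S Q) g := hg.mono fun x hx =>
      ⟨hx.1, le_normalizer_of_isNormal (isNormal_core N) hx⟩
    refine (ih _ hn'.1 (isConj_card_eq hcj ▸ card_lt_of_lt_of_le hlt hcS) hn'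
      (isCentric_of_isConj (isCentric_of_le hc hQN hcS) hcj)).of_maps hg'.homOn hg'.injOn
      fun P f hf => ?_
    obtain ⟨f', h1, h2⟩ := exists_isNMap_of_isNormal (normSys_sub F hn.1) (isNormal_core N) hg' hf
    exact ⟨f', isMap_normSys.2 h1, h2⟩

theorem FStable.factor (hp : p ≠ 2) (h : FStable p F) (hS : IsPGroup p S) (hF : F.IsSaturated p)
    (hQ : F.StronglyClosed Q) (hA : IsPGroup p (F.autGroup Q)) {θ : S →* Ω'}
    (hD : F.IsFactorSystem Q θ D) : FStable p D := by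
  intro R' hR' χ' hχ' hq'
  have hr := IsFactor.range_eq hD
  have hker := IsFactor.ker_eq hD
  obtain ⟨R, hRS, hQR, rfl⟩ : ∃ R, R ≤ S ∧ kerAlong θ ≤ R ∧ imageAlong θ R = R' :=
    ⟨_, preimageAlong_le θ R', kerAlong_le_preimageAlong θ R',
      imageAlong_preimageAlong θ (hR'.trans hr.ge)⟩
  have := finite_of_le hRS
  obtain ⟨ρ, hρ, hrange, -⟩ := surj_exists_autHom (IsFactor.isSurjectiveMorphism hS hF hQ hD) hRS hQR
  obtain ⟨χ, rfl⟩ := hrange.ge hχ'
  rw [hker] at hQR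
  by_cases hχ : (χ : MulAut R) ∈ opAut p F R
  · obtain ⟨χ₁, h1, e⟩ := hχ
    obtain rfl : χ₁ = χ := Subtype.ext e
    refine le_opAut (K := (pCore p _).map ρ) (Grp.map_pCore_isPGroup p ρ)
      (hrange ▸ Subgroup.map_le_range ρ _) ?_ ⟨χ₁, h1, rfl⟩
    rintro α hα _ ⟨κ, hκ, rfl⟩
    obtain ⟨α, rfl⟩ := hrange.ge hα
    exact ⟨_, Subgroup.Normal.conj_mem inferInstance κ hκ α, by simp⟩
  exfalso
  have : (Q.subgroupOf R).Normal := ⟨fun x hx y => conj_mem_of_stronglyClosed hQ (hRS y.2) hx⟩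
  have hinv : ∀ α ∈ F.autGroup R, ∀ x ∈ Q, afn α x ∈ Q := fun α hα x hx =>
    (isMap_afn hRS hα).mem_of_stronglyClosed hQ (hQR hx) hx
  obtain ⟨P, c, hc, d, hd, h1, h2, h3, h4⟩ := AC.exists_quadratic_of_quot hp (isPGroup_of_le hS hRS)
    (𝒜 := F.autGroup R) (N := Q.subgroupOf R) (fun α hα x hx => by
      rw [Subgroup.mem_subgroupOf, ← afn_coe]; exact hinv α hα x hx) (fun α hα => by
      have := finite_of_le hQ.1
      have hs := mem_stab_of_maps hQR (hinv α hα)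
      obtain ⟨k, hk⟩ := hA ⟨_, resAut_mem hQR hRS ⟨α, hs⟩ hα⟩
      refine ⟨k, fun x hx => Subtype.ext ?_⟩
      rw [← afn_coe, ← afn_pow_eq hQR (fun y hy => afn_resAut hQR ⟨α, hs⟩ hy) _ x hx,
        show resAut hQR ⟨α, hs⟩ ^ p ^ k = 1 from congrArg Subtype.val hk, afn_one]) χ.2
    (fun x => by
      have hx' := R.mul_mem (R.inv_mem x.2) (afn_mem χ.1 x.2)
      have h1 := quadAut_iff_afn.1 hq' _ (hfn_mem_imageAlong θ x.2 (hRS x.2))
      rw [hρ χ x x.2, ← hfn_inv θ (hRS x.2), ← hfn_mul θ (hRS (R.inv_mem x.2))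
        (hRS (afn_mem _ x.2)), hρ χ _ hx', eq_comm, hfn_eq_iff (hRS hx') (hRS (afn_mem _ hx')),
        hker] at h1
      rw [Subgroup.mem_subgroupOf, Subgroup.coe_mul, ← afn_coe, Subgroup.coe_inv, Subgroup.coe_mul,
        ← afn_coe]
      exact h1) hχ
  have hPR : P.map R.subtype ≤ R := Subgroup.map_subtype_le P
  have := finite_of_le hPR
  have hst : ∀ c : MulAut R, (∀ x ∈ P, c x ∈ P) → c ∈ stab R (P.map R.subtype) := fun c h =>
    mem_stab_of_maps hPR (by
      rintro _ ⟨x, hx, rfl⟩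
      exact ⟨_, h x hx, (afn_coe c x).symm⟩)
  have h5 := h _ (hPR.trans hRS) _ (resAut_mem hPR hRS ⟨c, hst c h1⟩ hc) (quadAut_iff_afn.2
    fun y hy => by
      rw [afn_resAut hPR _ (mul_mem (inv_mem hy) (afn_mem _ hy)), afn_resAut hPR _ hy]
      obtain ⟨x, hx, rfl⟩ := hy
      have := congrArg Subtype.val (h3 x hx)
      rwa [← afn_coe, Subgroup.coe_mul, ← afn_coe] at this)
  obtain ⟨k, hk⟩ := isPGroup_opAut ⟨_, mul_mem h5
    (conj_mem_opAut (resAut_mem hPR hRS ⟨d, hst d h2⟩ hd) h5)⟩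
  refine h4 k fun x hx => Subtype.ext ?_
  have h6 := congrArg Subtype.val hk
  rw [Subgroup.coe_pow, Subgroup.coe_mk, ← map_inv, ← map_mul, ← map_mul, ← map_mul,
    ← map_pow] at h6
  have h7 := afn_resAut hPR ((⟨c, hst c h1⟩ * (⟨d, hst d h2⟩ * ⟨c, hst c h1⟩ * ⟨d, hst d h2⟩⁻¹))
    ^ p ^ k) ⟨x, hx, rfl⟩
  rw [h6, Subgroup.coe_one, afn_one] at h7
  rw [← afn_coe]
  exact h7.symm

end Sat

theorem isNormal_zj_of_fStable [Fact p.Prime] (hp : p ≠ 2) {Ω : Type u} [Group Ω] {S : Subgroup Ω}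
    [Finite S] (F : FusionSystem S) : IsPGroup p S → F.IsSaturated p → FStable p F →
      F.IsNormal (centerThompsonAOf S) := by
  simp only [← induced_zjFun]
  have hW := isCharPFunctor_zjFun.{u} (p := p)
  refine fus_induction (Φ := fun {Ω} _ {S} F =>
    IsPGroup p S → F.IsSaturated p → FStable p F → F.IsNormal (inducedFunctor zjFun S)) ?_ F
  intro Ω _ S _ F ih1 ih2 hS hF hC
  have hW' := isFunctorOn_induced hW hS F
  rcases functor_cases hS hF hW' (nSys F _ (hW'.le S le_rfl) hW'.le_normalizer)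
    (fun _ _ h => isMap_nSys.2 h) (fun Q hQ hn h P f hf => h P f ((isNormal_iff_isNMap.1
      (ih2 _ (normSys_sub F hQ.1) (not_sub_normSys hQ.1 hn) (isPGroup_of_le hS (normalizerIn_le S Q))
        (normSys_saturated hS hF hQ) (hC.of_sub (normSys_sub F hQ.1)))).2 P f (isMap_normSys.2 hf)))
    (fun Q hQ hn P f hf => isMap_nSys.2 (((isNormal_iff_isNMap.1
      (ih2 _ (scSys_sub F hQ) (not_sub_scSys hQ hn) hS (scSys_saturated hS hF hQ)
        (hC.of_sub (scSys_sub F hQ)))).2 P f hf).of_sub (scSys_sub F hQ))) with h | h | ⟨h0, h1, h2⟩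
  · exact isNormal_iff_isNMap.2 ⟨hW'.le S le_rfl, fun P f hf =>
      isMap_nSys.1 (le_iff_isMap.1 h P f hf)⟩
  · obtain ⟨G, _, ι, hG⟩ := exists_model hS h
    obtain ⟨_, hr, ⟨T, hT⟩, hc⟩ := id hG
    have h1 := PLocal.centerThompsonAOf_normal hp hc (stableOnNormal_of_isNormalizerPStable
      ((fStable_iff_of_isRealizedBy hr T hT).1 hC)) T
    rw [← induced_zjFun, hT, ← imageAlong_induced hW hS hr.1] at h1
    have := isNormal_preimageAlong hr (imageAlong_le_range ι (inducedFunctor zjFun S))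
    rwa [preimageAlong_imageAlong_inj hr.1 (hW'.le S le_rfl)] at this
  · exfalso
    obtain ⟨Ω', _, S', θ, E, hE⟩ := exists_factor_of_isNormal (isNormal_core F)
    have := IsFactor.finite hE
    have hS' := IsFactor.isPGroup hS hE
    have hsc := stronglyClosed_of_isNormal (isNormal_core F)
    have h3 := ih1 E (card_lt_of_kerAlong_ne (IsFactor.range_eq hE) (by rwa [IsFactor.ker_eq hE]))
      hS' (IsFactor.saturated hS hF hsc hE)
      (hC.factor hp hS hF hsc (h2.isPGroup hS (core_le F)) hE)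
    have h4 := le_core h3
    rw [core_factor_eq_bot hS hF (h2.isPGroup hS (core_le F)) hE, le_bot_iff] at h4
    exact induced_ne_bot hW hS' (ne_bot_of_kerAlong_ne (IsFactor.range_eq hE)
      (by rwa [IsFactor.ker_eq hE])) h4

theorem core_ne_bot_of_fStable [Fact p.Prime] [Finite S] (hp : p ≠ 2) (hS : IsPGroup p S)
    (hF : F.IsSaturated p) (h : FStable p F) (h0 : S ≠ ⊥) : F.core ≠ ⊥ := fun e =>
  induced_ne_bot isCharPFunctor_zjFun hS h0 (by
    rw [induced_zjFun, ← le_bot_iff, ← e]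
    exact le_core (isNormal_zj_of_fStable hp F hS hF h))

theorem sInv_centSys (hQ : F.IsNormal Q) : SInv (centSys F Q hQ.1) F := by
  intro P R f g h hPR hR hf hm hg e
  obtain ⟨-, f₁, hf₁, e₁, e₁'⟩ := isMap_centSys.1 hf
  obtain ⟨g₁, hg₁, e₂, hi⟩ := IsNormal_extend hQ hg
  have hle : P ⊔ Q ≤ R ⊔ Q := sup_le_sup_right hPR Q
  obtain ⟨g', hg', e3, e4⟩ := (hg₁.mono hle).exists_inv
  have h3 : IsMap F (img (P ⊔ Q) g₁) (fun y => g₁ (f₁ (g' y))) :=
    hg₁.comp' (hf₁.comp' hg' fun y hy => (e4 y hy).1) fun y hy => hf₁.homOn.mem_of_sup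
      (fun x hx => Subgroup.mem_sup_left (by rw [e₁ x hx]; exact hm x hx))
      (fun x hx => Subgroup.mem_sup_right (by rwa [e₁' x hx])) _ (e4 y hy).1
  have hP : img P g = img P g₁ := img_congr fun x hx => (e₂ x (hPR hx)).symm
  refine (isMap_centSys.2 (isCMap_of_isMap h3 (hP ▸ img_mono g₁ le_sup_left)
    (hi.ge.trans (img_mono g₁ le_sup_right)) (img_le_iff.2 fun x hx =>
      hg.mem_of_stronglyClosed (stronglyClosed_centralizerIn_of_isNormal hQ) (hPR hx)
        (hR (hPR hx))) fun y hy => ?_)).congr fun y hy => ?_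
  · obtain ⟨x, hx, rfl⟩ := (hg₁.mono le_sup_right).mem_img.1 (hi.ge hy)
    simp only [e3 x (Subgroup.mem_sup_right hx), e₁' x hx]
  · obtain ⟨x, hx, rfl⟩ := (hg.mono hPR).mem_img.1 hy
    rw [e x hx, ← e₂ x (hPR hx), e3 x (Subgroup.mem_sup_left hx), e₁ x hx, e₂ _ (hm x hx)]

theorem isInvariantIn_centSys [Fact p.Prime] [Finite S] (hS : IsPGroup p S) (hF : F.IsSaturated p)
    (hQ : F.IsNormal Q) : (centSys F Q hQ.1).IsInvariantIn F :=
  isInvariantIn_of_sInv hS hF (stronglyClosed_centralizerIn_of_isNormal hQ) (centSys_sub F hQ.1)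
    (sInv_centSys hQ)

theorem isConstrained_of_fStable [Fact p.Prime] [Finite S] (hp : p ≠ 2) (hS : IsPGroup p S)
    (hF : F.IsSaturated p) (h : FStable p F) : F.IsConstrained p := by
  have hQ := isNormal_core F
  set C := centSys F F.core hQ.1
  have hT := isPGroup_of_le hS (centralizerIn_le S F.core)
  have hC : C.IsSaturated p := centSys_saturated hS hF (sat_fullyCentralized hS hF
    (fullyNormalized_of_weaklyClosed (weaklyClosed_of_isNormal hQ)))
  have h1 : C.core ≤ F.core :=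
    le_core (isNormal_core_of_invariant hS hF (isInvariantIn_centSys hS hF hQ))
  have hA : IsPGroup p (C.autGroup C.core) := fun α => ⟨0, Subtype.ext (aut_ext fun x hx => by
    obtain ⟨-, g, -, e, e'⟩ := isMap_centSys.1 (isMap_afn (core_le C) α.2)
    rw [pow_zero, pow_one, Subgroup.coe_one, afn_one, ← e x hx, e' x (h1 hx)])⟩
  obtain ⟨Ω', _, S', θ, E, hE⟩ := exists_factor_of_isNormal (isNormal_core C)
  have := IsFactor.finite hE
  have hsc := stronglyClosed_of_isNormal (isNormal_core C)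
  refine isConstrained_iff_core.2 ⟨hF, le_trans (le_of_eq ?_) h1⟩
  by_contra hne
  exact core_ne_bot_of_fStable hp (IsFactor.isPGroup hT hE) (IsFactor.saturated hT hC hsc hE)
    ((h.of_sub (centSys_sub F hQ.1)).factor hp hT hC hsc hA hE)
    (ne_bot_of_kerAlong_ne (IsFactor.range_eq hE) (by rw [IsFactor.ker_eq hE]; exact Ne.symm hne))
    (core_factor_eq_bot hT hC hA hE)

theorem fStable_of_qdFree {Ω : Type u} [Group Ω] {S : Subgroup Ω} {F : FusionSystem S}
    [Fact p.Prime] [Finite S] (hp : p ≠ 2) (hS : IsPGroup p S) (hF : F.IsSaturated p)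
    (h : F.IsSectionFree p (qd p)) : FStable p F := by
  refine fStable_of_centric hS hF fun X hX hc => ?_
  have hN := isNormalizerSystem_normSys F hX.1
  obtain ⟨L, _, ι, hL⟩ := exists_model (isPGroup_of_le hS (normalizerIn_le S X))
    (isConstrained_normalizerSystem hS hF hX hc hN)
  obtain ⟨_, hr, ⟨T, hT⟩, -⟩ := id hL
  exact (fStable_iff_of_isRealizedBy hr T hT).2
    (isNormalizerPStable_of_qdFree hp (h X hX hc _ hN L ι hL))

end Cfsg.Agent.Fus
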