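import Mathlib
import Cfsg.Agent.Fus.PStable
import Cfsg.Agent.PLocal.QdRank2

/-!
`Qd(p)` is involved in a finite group exactly when some `p`-subgroup has a quotient of order `p²`
on which its normalizer induces `SL₂(p)`; the fusion system detects this.
-/

set_option autoImplicit false

namespace Cfsg.Agent.Fus

open Cfsg Cfsg.FusionSystem Matrix

universe u

section Groups

variable {G : Type*} [Group G] {p : ℕ}

/-- The normalizer of `B` induces `SL₂(p)` on a quotient of `B` of order `p²`. -/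
def GNat (p : ℕ) (B : Subgroup G) : Prop :=
  ∃ φ : G → (Fin 2 → ZMod p), (∀ x ∈ B, ∀ y ∈ B, φ (x * y) = φ x + φ y) ∧
    (∀ v, ∃ x ∈ B, φ x = v) ∧ ∀ M : SpecialLinearGroup (Fin 2) (ZMod p),
      ∃ g : G, ∀ x ∈ B, g * x * g⁻¹ ∈ B ∧ φ (g * x * g⁻¹) = M.1 *ᵥ φ x

theorem GNat.conj {B : Subgroup G} (h : GNat p B) (a : G) :
    GNat p (B.map (MulAut.conj a).toMonoidHom) := by
  obtain ⟨φ, h1, h2, h3⟩ := h
  refine ⟨fun x => φ (a⁻¹ * x * a), fun x hx y hy => ?_, fun v => ?_, fun M => ?_⟩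
  · rw [← h1 _ (mem_map_conj_iff.1 hx) _ (mem_map_conj_iff.1 hy)]
    group
  · obtain ⟨x, hx, rfl⟩ := h2 v
    exact ⟨a * x * a⁻¹, ⟨x, hx, rfl⟩, by group⟩
  · obtain ⟨g, hg⟩ := h3 M
    refine ⟨a * g * a⁻¹, fun x hx => ?_⟩
    obtain ⟨h4, h5⟩ := hg _ (mem_map_conj_iff.1 hx)
    refine ⟨mem_map_conj_iff.2 (by convert h4 using 1; group), ?_⟩
    rw [← h5]
    group

theorem sl2_mul_mulVec (M N : SpecialLinearGroup (Fin 2) (ZMod p)) (v : Fin 2 → ZMod p) :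
    (M * N).1 *ᵥ v = M.1 *ᵥ (N.1 *ᵥ v) := (mulVec_mulVec v M.1 N.1).symm

theorem sl2_one_mulVec (v : Fin 2 → ZMod p) :
    (1 : SpecialLinearGroup (Fin 2) (ZMod p)).1 *ᵥ v = v := one_mulVec v

variable [hp : Fact p.Prime] [Finite G]

theorem GNat.involves (hp2 : p ≠ 2) {B : Subgroup G} (h : GNat p B) : Involves (qd p) G := by
  obtain ⟨φ, h1, h2, h3⟩ := h
  have h0 : φ 1 = 0 := by simpa using h1 1 B.one_mem 1 B.one_mem
  have hinv : ∀ x ∈ B, φ x⁻¹ = -φ x := fun x hx => by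
    rw [eq_neg_iff_add_eq_zero, ← h1 _ (B.inv_mem hx) _ hx, inv_mul_cancel, h0]
  let E : Subgroup G :=
    { carrier := {g | g ∈ Subgroup.normalizer (B : Set G) ∧
        ∃ M : SpecialLinearGroup (Fin 2) (ZMod p), ∀ x ∈ B, φ (g * x * g⁻¹) = M.1 *ᵥ φ x}
      one_mem' := ⟨one_mem _, 1, fun x _ => by simp⟩
      mul_mem' := by
        rintro a b ⟨ha, M, hM⟩ ⟨hb, N, hN⟩
        refine ⟨mul_mem ha hb, M * N, fun x hx => ?_⟩
        rw [sl2_mul_mulVec, ← hN x hx,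
          ← hM _ ((Subgroup.mem_normalizer_iff.1 hb x).1 hx)]
        congr 1; group
      inv_mem' := by
        rintro a ⟨ha, M, hM⟩
        refine ⟨inv_mem ha, M⁻¹, fun x hx => ?_⟩
        have := hM _ ((Subgroup.mem_normalizer_iff.1 (inv_mem ha) x).1 hx)
        rw [show a * (a⁻¹ * x * a⁻¹⁻¹) * a⁻¹ = x by group] at this
        rw [this, ← sl2_mul_mulVec, inv_mul_cancel, sl2_one_mulVec] }
  have hE : ∀ g : E, ∃ M : SpecialLinearGroup (Fin 2) (ZMod p),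
      ∀ x ∈ B, φ (g * x * (g : G)⁻¹) = M.1 *ᵥ φ x := fun g => g.2.2
  choose θ₀ hθ₀ using hE
  have huniq : ∀ M N : SpecialLinearGroup (Fin 2) (ZMod p),
      (∀ x ∈ B, M.1 *ᵥ φ x = N.1 *ᵥ φ x) → M = N := fun M N h =>
    Subtype.ext (toLin'.injective (LinearMap.ext fun v => by
      obtain ⟨x, hx, rfl⟩ := h2 v
      exact h x hx))
  let θ : E →* SpecialLinearGroup (Fin 2) (ZMod p) := MonoidHom.mk' θ₀ fun a b =>
    huniq _ _ fun x hx => by
      rw [← hθ₀ _ x hx, sl2_mul_mulVec, ← hθ₀ _ x hx,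
        ← hθ₀ _ _ ((Subgroup.mem_normalizer_iff.1 b.2.1 x).1 hx)]
      congr 1
      rw [Subgroup.coe_mul]; group
  have hθ : ∀ (g : E), ∀ x ∈ B, φ (g * x * (g : G)⁻¹) = (θ g).1 *ᵥ φ x := hθ₀
  have hB1 : ∀ b ∈ B, ∀ x ∈ B, φ (b * x * b⁻¹) = φ x := fun b hb x hx => by
    rw [h1 _ (mul_mem hb hx) _ (inv_mem hb), h1 _ hb _ hx, hinv b hb]; abel
  have hBE : B ≤ E := fun b hb =>
    ⟨Subgroup.le_normalizer hb, 1, fun x hx => by rw [hB1 b hb x hx]; simp⟩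
  let B₀ : Subgroup E :=
    { carrier := {g | (g : G) ∈ B ∧ φ g = 0}
      one_mem' := ⟨B.one_mem, h0⟩
      mul_mem' := fun {a b} ha hb => ⟨mul_mem ha.1 hb.1, by
        rw [Subgroup.coe_mul, h1 _ ha.1 _ hb.1, ha.2, hb.2, add_zero]⟩
      inv_mem' := fun {a} ha => ⟨inv_mem ha.1, by rw [Subgroup.coe_inv, hinv _ ha.1, ha.2, neg_zero]⟩ }
  have : B₀.Normal := ⟨fun a ha g => ⟨(Subgroup.mem_normalizer_iff.1 g.2.1 _).1 ha.1, by
    rw [Subgroup.coe_mul, Subgroup.coe_mul, Subgroup.coe_inv, hθ g _ ha.1, ha.2, mulVec_zero]⟩⟩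
  have hker : B₀ ≤ θ.ker := fun a ha => huniq _ _ fun x hx => by
    rw [← hθ a x hx, hB1 _ ha.1 x hx]; simp
  choose τ hτ hφτ using h2
  have hmk : ∀ (x : E) v, (x : G) ∈ B → φ x = v →
      (QuotientGroup.mk x : E ⧸ B₀) = QuotientGroup.mk ⟨τ v, hBE (hτ v)⟩ := fun x v hx e =>
    QuotientGroup.eq.2 ⟨mul_mem (inv_mem hx) (hτ v), by
      rw [Subgroup.coe_mul, Subgroup.coe_inv, h1 _ (inv_mem hx) _ (hτ v), hinv _ hx, e, hφτ,
        neg_add_cancel]⟩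
  obtain ⟨K, ψ, hψ⟩ := PLocal.exists_surjective_qd_of_natural hp2 (MonoidHom.id (E ⧸ B₀))
    (QuotientGroup.lift B₀ θ hker) (QuotientGroup.lift_surjective_of_surjective _ _ (fun M => by
      obtain ⟨g, hg⟩ := h3 M
      have hg' : g ∈ E := ⟨Subgroup.mem_normalizer_fintype fun x hx => (hg x hx).1, M,
        fun x hx => (hg x hx).2⟩
      exact ⟨⟨g, hg'⟩, huniq _ _ fun x hx => by rw [← hθ _ x hx, (hg x hx).2]⟩) hker)
    Function.injective_id (fun v => QuotientGroup.mk ⟨τ v, hBE (hτ v)⟩) (fun v w e => by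
      have := (QuotientGroup.eq.1 e).2
      rw [Subgroup.coe_mul, Subgroup.coe_inv, h1 _ (inv_mem (hτ v)) _ (hτ w), hinv _ (hτ v), hφτ,
        hφτ] at this
      exact neg_add_eq_zero.1 this) (fun v w => by
      rw [← QuotientGroup.mk_mul]
      exact (hmk _ _ (mul_mem (hτ v) (hτ w)) (by
        rw [Subgroup.coe_mul, h1 _ (hτ v) _ (hτ w), hφτ, hφτ])).symm) (fun h v => by
      obtain ⟨h, rfl⟩ := QuotientGroup.mk_surjective h
      rw [MonoidHom.id_apply, QuotientGroup.lift_mk, ← QuotientGroup.mk_inv, ← QuotientGroup.mk_mul,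
        ← QuotientGroup.mk_mul]
      exact hmk _ _ ((Subgroup.mem_normalizer_iff.1 h.2.1 _).1 (hτ v)) (by
        rw [Subgroup.coe_mul, Subgroup.coe_mul, Subgroup.coe_inv, hθ h _ (hτ v), hφτ]))
  exact PLocal.CF.sec_iff_involves.1 ((((PLocal.CF.sec_of_surjective ψ hψ).trans
    (PLocal.CF.sec_subgroup K)).trans (PLocal.CF.sec_quotient B₀)).trans (PLocal.CF.sec_subgroup E))

theorem exists_gNat_of_surjective (ψ : G →* qd p) (hψ : Function.Surjective ψ) :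
    ∃ B : Subgroup G, IsPGroup p B ∧ GNat p B := by
  obtain ⟨θ, hθ, hc⟩ := PLocal.exists_qdLin p
  have hq : ∀ g : G, ∃ v, (ψ g).1 = PLocal.qdAff (θ (ψ g)) v := fun g => by
    obtain ⟨A, v, e⟩ := PLocal.exists_qdAff_of_mem (ψ g).2
    refine ⟨v, ?_⟩
    rw [show ψ g = ⟨_, PLocal.qdAff_mem A v⟩ from Subtype.ext e.symm, hθ]
  choose φ hφ using hq
  have hmul : ∀ x y, φ (x * y) = φ x + (θ (ψ x)).1 *ᵥ φ y := fun x y => by
    have := hφ (x * y)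
    rw [map_mul, Subgroup.coe_mul, hφ x, hφ y, PLocal.qdAff_mul] at this
    exact (PLocal.qdAff_inj this).2.symm
  have hφ' : ∀ x A v, (ψ x).1 = PLocal.qdAff A v → θ (ψ x) = A ∧ φ x = v := fun x A v e =>
    PLocal.qdAff_inj ((hφ x).symm.trans e)
  let N := (θ.comp ψ).ker
  obtain ⟨Q⟩ : Nonempty (Sylow p N) := inferInstance
  have hfr := Q.normalizer_sup_eq_top
  set B := (Q : Subgroup N).map N.subtype with hB
  have hBN : ∀ x ∈ B, θ (ψ x) = 1 := fun x hx => Subgroup.map_subtype_le _ hx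
  have hsurj : ∀ n ∈ N, ∃ x ∈ B, ψ x = ψ n := fun n hn => by
    let π : N →* θ.ker := (ψ.comp N.subtype).codRestrict _ fun x => x.2
    have hπ : Function.Surjective π := fun y => by
      obtain ⟨x, hx⟩ := hψ y
      exact ⟨⟨x, by rw [MonoidHom.mem_ker, MonoidHom.comp_apply, hx]; exact y.2⟩, Subtype.ext hx⟩
    have h1 := (Q.mapSurjective hπ).is_maximal' ((IsPGroup.of_card hc).to_subgroup ⊤) le_top
    obtain ⟨x, hx, e⟩ := (show π ⟨n, hn⟩ ∈ (Q : Subgroup N).map π from h1.le trivial)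
    exact ⟨x, ⟨x, hx, rfl⟩, congrArg Subtype.val e⟩
  refine ⟨B, Q.isPGroup'.map _, φ, fun x hx y _ => by rw [hmul, hBN x hx]; simp, fun v => ?_,
    fun M => ?_⟩
  · obtain ⟨n, hn⟩ := hψ ⟨_, PLocal.qdAff_mem 1 v⟩
    obtain ⟨x, hx, e⟩ := hsurj n (hφ' n 1 v (by rw [hn])).1
    exact ⟨x, hx, (hφ' x 1 v (by rw [e, hn])).2⟩
  · obtain ⟨k, hk⟩ := hψ ⟨_, PLocal.qdAff_mem M 0⟩
    obtain ⟨g, hg, n, hn, rfl⟩ := Subgroup.mem_sup_of_normal_right.1 (hfr.ge (Subgroup.mem_top k))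
    have h1 : θ (ψ g) = M := by
      have := (hφ' _ M 0 (by rw [hk])).1
      rwa [map_mul, map_mul, show θ (ψ n) = 1 from hn, mul_one] at this
    refine ⟨g, fun x hx => ⟨(Subgroup.mem_normalizer_iff.1 hg x).1 hx, ?_⟩⟩
    have h2 := hmul (g * x * g⁻¹) g
    rw [inv_mul_cancel_right, hmul, hBN _ ((Subgroup.mem_normalizer_iff.1 hg x).1 hx), h1,
      sl2_one_mulVec, add_comm] at h2
    exact (add_right_cancel h2).symm

theorem exists_gNat_of_involves (P : Sylow p G) (h : Involves (qd p) G) :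
    ∃ B : Subgroup G, B ≤ P ∧ GNat p B := by
  obtain ⟨K, R, _, ⟨e⟩⟩ := h
  obtain ⟨B, hB, φ, h1, h2, h3⟩ := exists_gNat_of_surjective
    (e.toMonoidHom.comp (QuotientGroup.mk' _)) (e.surjective.comp (QuotientGroup.mk'_surjective _))
  have h4 : GNat p (B.map K.subtype) := by
    obtain ⟨φ', e'⟩ : ∃ φ' : G → _, ∀ x : K, φ' x = φ x :=
      ⟨_, K.subtype_injective.extend_apply φ 0⟩
    refine ⟨φ', ?_, fun v => ?_, fun M => ?_⟩
    · rintro _ ⟨x, hx, rfl⟩ _ ⟨y, hy, rfl⟩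
      exact (e' (x * y)).trans ((h1 x hx y hy).trans (by rw [← e', ← e']; rfl))
    · obtain ⟨x, hx, rfl⟩ := h2 v
      exact ⟨x, ⟨x, hx, rfl⟩, e' x⟩
    · obtain ⟨g, hg⟩ := h3 M
      refine ⟨g, ?_⟩
      rintro _ ⟨x, hx, rfl⟩
      exact ⟨⟨_, (hg x hx).1, rfl⟩, (e' (g * x * g⁻¹)).trans ((hg x hx).2.trans (by rw [← e']; rfl))⟩
  obtain ⟨Y, hY⟩ := (hB.map K.subtype).exists_le_sylow
  obtain ⟨g, rfl⟩ := MulAction.exists_smul_eq G Y P
  exact ⟨_, Subgroup.map_mono hY, h4.conj g⟩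

end Groups

variable {Ω : Type u} [Group Ω] {S : Subgroup Ω} {F : FusionSystem S} {Q : Subgroup Ω} {p : ℕ}
  [Fact p.Prime] [Finite S]

theorem not_nat_of_qdFree (hp : p ≠ 2) (hS : IsPGroup p S) (hF : F.IsSaturated p)
    (h : F.IsSectionFree p (qd p)) (hQ : Q ≤ S) (φ : Ω → (Fin 2 → ZMod p))
    (h1 : ∀ x ∈ Q, ∀ y ∈ Q, φ (x * y) = φ x + φ y) (h2 : ∀ v, ∃ x ∈ Q, φ x = v) :
    ¬ ∀ M : SpecialLinearGroup (Fin 2) (ZMod p),
      ∃ α ∈ F.autGroup Q, ∀ x ∈ Q, φ (afn α x) = M.1 *ᵥ φ x := by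
  intro h3
  obtain ⟨Q₁, X, hc, hle, hn, hX, he⟩ := exists_centric_ext hS hF hQ
  obtain ⟨f, hf, hi⟩ := isConj_iff.1 (isConj_symm hc)
  have hN := isNormalizerSystem_normSys F hn.1
  obtain ⟨L, _, ι, hL⟩ := exists_model (isPGroup_of_le hS (normalizerIn_le S X))
    (isConstrained_normalizerSystem hS hF hn hX hN)
  have := hL.1
  obtain ⟨b, hb⟩ := fIso_of_isRealizedBy hL.2.1
  have hXN := le_normalizerIn hn.1
  have hQN := hle.trans hXN
  refine h X hn hX _ hN L ι hL (GNat.involves hp (B := imageAlong ι Q₁)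
    ⟨fun y => φ (f (b y)), fun x' hx' y' hy' => ?_, fun v => ?_, fun M => ?_⟩)
  · obtain ⟨x, hx, rfl⟩ := (mem_imageAlong_of_le hQN).1 hx'
    obtain ⟨y, hy, rfl⟩ := (mem_imageAlong_of_le hQN).1 hy'
    simp only [← hfn_mul ι (hQN hx) (hQN hy), hb.g.left _ (hQN hx), hb.g.left _ (hQN hy),
      hb.g.left _ (hQN (mul_mem hx hy)), hf.map_mul hx hy]
    exact h1 _ (mem_of_img_eq hi hx) _ (mem_of_img_eq hi hy)
  · obtain ⟨x', hx', rfl⟩ := h2 v
    obtain ⟨x, hx, rfl⟩ := hf.mem_img.1 (hi.ge hx')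
    exact ⟨_, hfn_mem_imageAlong ι hx (hQN hx), by simp only [hb.g.left _ (hQN hx)]⟩
  · obtain ⟨α, hα, e⟩ := h3 M
    obtain ⟨Φ, eΦ, hΦ, -⟩ := hf.exists_transport hi
    obtain ⟨β, rfl⟩ := Φ.surjective α
    obtain ⟨γ, hγ, eγ⟩ := he β ((hΦ β).1 hα)
    rw [← autGroup_normalizerSystem hN hn.1] at hγ
    obtain ⟨g, hg⟩ := IsRealizedBy_exists_conj hL.2.1 (isMap_afn hXN hγ)
    refine ⟨g, fun y hy => ?_⟩
    obtain ⟨x, hx, rfl⟩ := (mem_imageAlong_of_le hQN).1 hy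
    rw [← hg x (hle hx), eγ x hx]
    refine ⟨hfn_mem_imageAlong ι (afn_mem β hx) (hQN (afn_mem β hx)), ?_⟩
    simp only [hb.g.left _ (hQN hx), hb.g.left _ (hQN (afn_mem β hx))]
    rw [← eΦ β x hx, e _ (mem_of_img_eq hi hx)]

omit [Finite S] in
theorem not_involves_of_qdFree_group (hp : p ≠ 2) {G : Type u} [Group G] [Finite G] (P : Sylow p G)
    (h : (groupFusionSystem (P : Subgroup G)).IsSectionFree p (qd p)) : ¬ Involves (qd p) G := by
  intro hG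
  obtain ⟨B, hB, φ, h1, h2, h3⟩ := exists_gNat_of_involves P hG
  refine not_nat_of_qdFree hp P.isPGroup' (isSaturated_group P) h hB φ h1 h2 fun M => ?_
  obtain ⟨g, hg⟩ := h3 M
  obtain ⟨α, hα, e⟩ := (isMap_group_conj g hB fun x hx => hB (hg x hx).1).exists_aut'
    fun x hx => (hg x hx).1
  exact ⟨α, hα, fun x hx => by rw [e x hx, (hg x hx).2]⟩

end Cfsg.Agent.Fus
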