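import Mathlib
import Cfsg.Agent.Fus.SR3Sp
import Cfsg.Agent.Fus.P5Main
import Cfsg.Agent.Fus.FIso

/-! Fusion systems of sectional rank three all of whose essential subgroups are normal. -/

set_option autoImplicit false
set_option linter.unusedSectionVars false
set_option linter.unusedVariables false

namespace Cfsg.Agent.Fus.SR3

open Subgroup Cfsg.FusionSystem Cfsg.Agent.Fus.AC Cfsg.Agent.Fus.P5
open scoped commutatorElement

section
variable {G H H' : Type*} [Group G] [Group H] [Group H'] {p : ℕ} [hp : Fact p.Prime]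

theorem I_congr {ι : H →* G} {ι' : H' →* G} {𝒜 : Subgroup (MulAut H)} {𝒜' : Subgroup (MulAut H')}
    (e : H ≃* H') (β : MulAut G) (h : ∀ x, ι' (e x) = β (ι x))
    (h' : ∀ α, MulAut.congr e α ∈ 𝒜' ↔ α ∈ 𝒜) (U : Subgroup G) :
    I ι' 𝒜' (U.map β.toMonoidHom) ↔ I ι 𝒜 U := by
  have k : ∀ x, ι' (e x) ∈ U.map β.toMonoidHom ↔ ι x ∈ U := fun x => by
    rw [h]; exact mem_map_iff_mem β.injective
  refine ⟨fun hI => ⟨fun u hu => ?_, fun α hα x hx => ?_⟩, fun hI => ⟨?_, fun α hα x hx => ?_⟩⟩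
  · obtain ⟨y, hy⟩ := hI.le ⟨u, hu, rfl⟩
    obtain ⟨y, rfl⟩ := e.surjective y
    exact ⟨y, β.injective ((h y).symm.trans hy)⟩
  · exact (k _).1 (by simpa using hI.ap ((h' α).2 hα) ((k x).2 hx))
  · rintro _ ⟨u, hu, rfl⟩
    obtain ⟨y, rfl⟩ := hI.le hu
    exact ⟨e y, h y⟩
  · obtain ⟨x, rfl⟩ := e.surjective x
    obtain ⟨α, rfl⟩ := (MulAut.congr e).surjective α
    simpa using (k _).2 (hI.ap ((h' α).1 hα) ((k x).1 hx))

variable [Finite G]

theorem card_le_of_rank {n : ℕ} (hcard : Nat.card G = p ^ n) (hn : n ≤ 3)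
    (hc : ∀ x y : G, x * y = y * x) (he : ∀ x : G, x ^ p = 1) {𝒜 T M : Subgroup (MulAut G)}
    (hT : SylIn p T 𝒜) (hle : T ≤ 𝒜) (hMA : M ≤ 𝒜)
    (hM : ∀ g ∈ 𝒜, ∀ t ∈ T, t ≠ 1 → g * t * g⁻¹ ∈ T → g ∈ M) (hne : ¬ 𝒜 ≤ M) : Nat.card T ≤ p := by
  rcases hn.eq_or_lt with rfl | hn
  · exact card_le_of_rank_three hcard hc he hT hle hMA hM hne
  have hG := IsPGroup.of_card hcard
  by_cases e : T ≤ ⊥
  · rw [le_bot_iff.1 e, card_bot]; exact hp.out.pos
  obtain ⟨t, ht, ht1⟩ := SetLike.not_le_iff_exists.1 e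
  obtain ⟨y, hy⟩ : ∃ y, t y ≠ y := not_forall.1 fun e => ht1 (MulEquiv.ext e)
  obtain ⟨x, -, x1, x2⟩ := exists_fix_ne_one (hT.isPGroup hle) (hG.to_subgroup ⊤) (inv_top T)
    fun e => hy (by rw [mem_bot.1 (e.le (mem_top y)), map_one])
  obtain ⟨α, hα, hα'⟩ := SetLike.not_le_iff_exists.1 hne
  have l1 := lg_lt' hG bot_le x2 x1
  have l2 := lg_lt' hG le_top (mem_top y) fun e : y ∈ fix T => hy (e t ht)
  have l3 := lg_eq (U := ⊤) (card_top.trans hcard)
  exact card_le_of_spe hG hc hT hle hα (fun t ht h => by_contra fun e => hα' (hM α hα t ht e h))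
    (Z := fix T) (by rw [← pow_one p]; exact (lg_of_index hG).2 (by omega)) fun t ht u hu => hu t ht

theorem R3.rank_two (h : R3 p G) (hH : HH p G) (hZ : lg p (center G) ≤ 1) :
    SectionalPRankLE p 2 G := FGS.SecRank.of_relIndex_le fun N K hle hc _ => by
  have := lg_mono (p := p) hle
  rw [relIndex_lg h.pg hle (k := lg p K - lg p N) (by omega)]
  refine Nat.pow_le_pow_right hp.out.pos (not_lt.1 fun e => ?_)
  have l1 := lg_mono (p := p) (le_top (a := K))
  unfold HH at hH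
  have := lg_mono (p := p) (cm_center.1 (cm_mono (hc.trans (le_of_lg h.pg bot_le (by
    rw [lg_bot]; omega))) (le_of_lg h.pg le_top (by omega)) (le_of_lg h.pg le_top (by omega))) :
    ⊤ ≤ center G)
  omega

end

variable {Ω : Type*} [Group Ω] {S : Subgroup Ω} {F : FusionSystem S} {E P Q N : Subgroup Ω}
  {p : ℕ} [hp : Fact p.Prime] [Finite S]

theorem essential_of_isConj (hP : F.IsEssential p P) (h : F.IsConj P Q)
    (hQ : F.IsFullyNormalized Q) : F.IsEssential p Q := by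
  obtain ⟨e, he⟩ := isConj_iff_exists_iso.1 h
  obtain ⟨hc, hn, hN, X, hX⟩ := hP
  have := finite_mulAut hn.1
  refine ⟨isCentric_of_isConj hc h, hQ, inferInstance, _,
    PLocal.SPE.map_equiv hX (QuotientGroup.congr _ _ he.autEquiv ?_)⟩
  ext β
  obtain ⟨α, rfl⟩ := he.autEquiv.surjective β
  refine (mem_map_iff_mem he.autEquiv.injective).trans ?_
  change _ ↔ MulAut.congr e α ∈ Inn Q
  rw [← map_inn_congr e]
  exact (mem_map_iff_mem (K := Inn P) (x := α.1) (f := (MulAut.congr e).toMonoidHom)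
    (MulAut.congr e).injective).symm

theorem r3_of_le (h : R3 p S) (hN : N ≤ S) : R3 p N :=
  ⟨isPGroup_of_le h.pg hN, h.odd, FGS.SecRank.of_injective h.rk _ (inclusion_injective hN)⟩

theorem relIndex_normalizer (h : R3 p S) (hF : F.IsSaturated p) (hE : F.IsEssential p E) :
    E.relIndex (normalizerIn S E) = p := by
  have hES := hE.1.1
  have : Finite E := finite_of_le hES
  have : Finite (normalizerIn S E) := finite_of_le (normalizerIn_le S E)
  have hG := isPGroup_of_le h.pg hES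
  have hA := autInducedBy_le_autGroup F hES
  have hess := ess_of_essential h.pg hF hE
  obtain ⟨ρ, hρ⟩ := exists_quotHom (inv_of_char (F.autGroup E) (frattini E))
  have hk : ∀ α, ρ α = 1 → α.1 ∈ Inn E := fun α e => hess.mem_inn_of_frattini hG α.2 fun y =>
    QuotientGroup.eq.1 ((hρ _ y).symm.trans (by rw [e]; rfl)).symm
  have hm : ∀ g, normAut S E g ∈ F.autGroup E := fun g => hA (normAut_range S E ▸ ⟨g, rfl⟩)
  let φ := ρ.comp ((normAut S E).codRestrict _ hm)
  have hs := ((sylIn_subgroupOf_iff hA le_rfl).2 (sat_fullyAutomized h.pg hF hE.2.1).2).map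
    (subgroupOf_mono _ hA) ρ
  have hφ : ((autInducedBy S E).subgroupOf (F.autGroup E)).map ρ = φ.range := by
    ext x
    refine ⟨fun ⟨t, ht, e⟩ => ?_, fun ⟨g, e⟩ => ⟨_, normAut_range S E ▸ ⟨g, rfl⟩, e⟩⟩
    obtain ⟨g, hg⟩ := (normAut_range S E).ge ht
    exact ⟨g, e ▸ congrArg ρ (Subtype.ext hg)⟩
  rw [subgroupOf_self, ← MonoidHom.range_eq_map, hφ] at hs
  have hin : ∀ g, φ g = 1 → g.1 ∈ E := fun g e =>
    (conjAut_mem_inn_iff hES (isCentric_self hE.1) g.2).1 (hk _ e)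
  have hI : Inn E ≤ autInducedBy S E := autInducedBy_self E ▸ autInducedBy_mono hES E
  obtain ⟨n, hn⟩ := hG.index (frattini E)
  have h1 := card_le_of_rank (G := E ⧸ frattini E) hn ((Nat.pow_le_pow_iff_right hp.out.one_lt).1
    (hn ▸ FGS.SecRank.index_frattini_le hG (r3_of_le h hES).rk)) (fun x y => by
      obtain ⟨x, rfl⟩ := QuotientGroup.mk_surjective x
      obtain ⟨y, rfl⟩ := QuotientGroup.mk_surjective y
      exact commutatorElement_eq_one_iff_mul_comm.1 ((QuotientGroup.eq_one_iff ⁅x, y⁆).2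
        (Grp.PFrattini.commutator_le_frattini hG (commutator_mem_commutator trivial trivial))))
    (fun x => by
      obtain ⟨x, rfl⟩ := QuotientGroup.mk_surjective x
      exact (QuotientGroup.eq_one_iff (x ^ p)).2 (Grp.PFrattini.pow_mem_frattini hG x)) hs
    (by rintro _ ⟨g, rfl⟩; exact ⟨_, rfl⟩) (map_le_range ρ ((extAut F E).subgroupOf _)) (by
      rintro _ ⟨α, rfl⟩ _ ⟨g, rfl⟩ t1 ⟨g', e⟩
      refine ⟨α, mem_extAut α.2 fun hle => t1 ?_, rfl⟩
      have e1 := hI (hk (((normAut S E).codRestrict _ hm g')⁻¹ * (α * (normAut S E).codRestrict _ hm g *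
        α⁻¹)) (by rw [map_mul, map_mul, map_mul, map_inv, map_inv]; exact inv_mul_eq_one.2 e))
      have e2 := hle (mem_Nf_afn g.2 ((mul_mem_cancel_left (inv_mem
        ((normAut_range S E).le ⟨g', rfl⟩))).1 e1))
      refine MulEquiv.ext fun z => ?_
      obtain ⟨z, rfl⟩ := QuotientGroup.mk_surjective z
      refine (hρ _ z).trans (QuotientGroup.eq.2 ?_).symm
      convert Grp.PFrattini.commutator_le_frattini hG
        (commutator_mem_commutator (mem_top z⁻¹) (mem_top ⟨g, e2⟩)) using 1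
      ext; simp [commutatorElement_def, mul_assoc]) fun hle =>
      essential_not_le_extAut h.pg hF hE fun α hα => by
        obtain ⟨β, hβ, e⟩ := hle ⟨⟨α, hα⟩, rfl⟩
        exact (mul_mem_cancel_left (inv_mem hβ)).1 (autInducedBy_le_extAut h.pg
          (essential_lt h.pg hF hE) (hI (hk (β⁻¹ * ⟨α, hα⟩) (by rw [map_mul, map_inv, e]; simp))))
  rw [← index_ker] at h1
  have h2 := (Nat.le_of_dvd (Nat.pos_of_ne_zero index_ne_zero_of_finite)
    (index_dvd_of_le (H := φ.ker) (K := E.subgroupOf _) hin)).trans h1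
  obtain ⟨k, hk⟩ := (isPGroup_of_le h.pg (normalizerIn_le S E)).index (E.subgroupOf _)
  rw [hk] at h2
  refine hk.trans (eq_prime_of_pow_le h2 fun e => ?_)
  obtain ⟨s, hs, hs'⟩ := exists_mem_normalizerIn_not_mem h.pg (essential_lt h.pg hF hE)
  exact hs' (relIndex_eq_one.1 (hk.trans e) hs)

theorem Tg_eq (hN : normalizerIn S E = N) (hEN : E ≤ N) : Tg (inclusion hEN) = autInducedBy S E := by
  subst hN
  ext t
  rw [mem_autInducedBy_iff']
  exact ⟨fun ⟨g, hg⟩ => ⟨g, g.2, fun x => congrArg Subtype.val (hg x)⟩,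
    fun ⟨g, h1, h2⟩ => ⟨⟨g, h1⟩, fun x => Subtype.ext (h2 x)⟩⟩

theorem loc_of_essential (h : R3 p S) (hF : F.IsSaturated p) (hE : F.IsEssential p E)
    (hN : normalizerIn S E = N) (hEN : E ≤ N) : Loc p (inclusion hEN) (F.autGroup E) :=
  ⟨isPGroup_of_le h.pg (hN ▸ normalizerIn_le S E), inclusion_injective _, by
    rw [inclusion_range, ← relIndex_normalizer h hF hE, hN]; rfl, ess_of_essential h.pg hF hE,
    Tg_eq hN hEN ▸ autInducedBy_le_autGroup F hE.1.1,
    Tg_eq hN hEN ▸ (sat_fullyAutomized h.pg hF hE.2.1).2⟩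

theorem ext_norm' (hS : IsPGroup p S) (hF : F.IsSaturated p) (hE : F.IsCentric E)
    (hN : normalizerIn S E = N) (hEN : E ≤ N) {β : MulAut E} (hβ : β ∈ F.autGroup E)
    (h : ∀ t ∈ Tg (inclusion hEN), β * t * β⁻¹ ∈ Tg (inclusion hEN)) :
    ∃ α ∈ F.autGroup N, ∀ x, α (inclusion hEN x) = inclusion hEN (β x) := by
  rw [Tg_eq hN] at h
  subst hN
  obtain ⟨α, h1, h2⟩ := ext_norm hS hF hE hβ h
  exact ⟨α, h1, incl_ext hEN h2⟩

theorem all_normal (h : R3 p S) (h2 : ¬ SectionalPRankLE p 2 S) (hF : F.IsSaturated p)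
    (hO : F.core = ⊥) (hN : ∀ E, F.IsEssential p E → S ≤ normalizer (E : Set Ω)) :
    ∃ E E', F.IsEssential p E ∧ F.IsEssential p E' ∧ (E.subgroupOf S).index = p ∧
      (E'.subgroupOf S).index = p ∧ SP p (E.subgroupOf S) (E'.subgroupOf S) := by
  have hN' : ∀ E, F.IsEssential p E → normalizerIn S E = S := fun E hE => inf_eq_left.2 (hN E hE)
  have hne : ¬ (⊤ : Subgroup S) ≤ ⊥ := fun e => h2 (FGS.SecRank.of_relIndex_le fun N K _ _ _ => by
    rw [relIndex_eq_one.2 (le_top.trans (e.trans bot_le))]; exact Nat.one_le_pow _ _ hp.out.pos)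
  have L := fun j : {E // F.IsEssential p E} => loc_of_essential h hF j.2 (hN' _ j.2) j.2.1.1
  rcases am h hne L (ℬ := F.autGroup S) (fun i j e => Subtype.ext (by
    rw [inclusion_range, inclusion_range] at e
    rw [← map_subgroupOf_eq_of_le i.2.1.1, e, map_subgroupOf_eq_of_le j.2.1.1]))
    (fun j U hU α hα hn x hx => by
      obtain ⟨β, hβ, e⟩ := ext_norm' h.pg hF j.2.1 (hN' _ j.2) j.2.1.1 hα hn
      exact e x ▸ hU β hβ _ hx) (fun β hβ j => by
      have hf := isMap_afn le_rfl hβ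
      obtain ⟨e, he, he'⟩ := (hf.mono j.2.1.1).exists_isIso rfl
      refine ⟨⟨_, essential_of_isConj j.2 (hf.mono j.2.1.1).isConj
        (fullyNormalized_of_le_normalizer F he.right_le fun s hs => ?_)⟩,
        I_congr e β (fun x => Subtype.ext ((he' x).trans (afn_coe β ⟨x, j.2.1.1 x.2⟩)))
          fun α => he.congr_mem_iff⟩
      have := hf.mem_normalizerIn_img j.2.1.1 (afn_mem β⁻¹ hs) ((hN' _ j.2).ge (afn_mem β⁻¹ hs))
      rw [afn_afn_inv β hs] at this
      exact this.2) (fun U h1 h2 x hx => by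
      have := hO.le (le_core (isNormal_of_essential h.pg hF (Q := U.map S.subtype) (by
        rintro R hR
        have hRS : R ≤ S := hR.elim (fun e => e.le) fun e => e.1.1
        have e1 : U.map S.subtype ≤ R := by
          rintro _ ⟨x, hx, rfl⟩
          rcases hR with e | hR
          · exact e.ge x.2
          · obtain ⟨y, rfl⟩ := (h2 ⟨R, hR⟩).le hx; exact y.2
        refine ⟨e1, fun g hg hi => ?_⟩
        rintro _ ⟨x, hx, rfl⟩
        obtain ⟨α, hα, e⟩ := hg.exists_aut hi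
        rw [← e _ (e1 ⟨x, hx, rfl⟩)]
        rcases hR with e' | hR
        · subst e'; exact ⟨_, h1 α hα x hx, (afn_coe α x).symm⟩
        · exact ⟨_, (h2 ⟨R, hR⟩).ap hα (x := ⟨x, e1 ⟨x, hx, rfl⟩⟩) hx,
            (afn_apply α _).symm⟩)) ⟨x, hx, rfl⟩)
      exact Subtype.ext this) with hH | ⟨i, j, hs⟩
  · have hi := (lg_of_index h.pg).2 hH
    obtain ⟨z, z1, z2, z3, -, ⟨x, y, z4⟩, -⟩ := exists_z hi
    have zp : z ^ p = 1 := z1 ▸ pow_orderOf_eq_one z
    have hcm : ⁅S, S⁆ = (commutator S).map S.subtype := by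
      rw [commutator_def, map_commutator, ← MonoidHom.range_eq_map, range_subtype]
    have := normal_of_le_center' (zpowers_le.2 z2)
    have := (center_le_zpowers h.pg hF (fun e => absurd h.odd (by simp [e])) hO
      (fun e => hne fun x _ => Subtype.ext (e.le x.2)) (z := z) (congrArg Subtype.val zp)
      ((center_subgroupOf_self S).ge z2) (fun u _ hu => by
        obtain ⟨u, hu', rfl⟩ := hcm.le hu
        obtain ⟨i, rfl⟩ := commutator_le.2 (fun a _ b _ => z3 a b) hu'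
        exact ⟨i, rfl⟩) (z4 ▸ commutator_mem_commutator x.2 y.2) fun R hR => Or.inl (by
        have l1 := (L ⟨R, hR⟩).lg_top
        have e := relIndex_lg h.pg (L ⟨R, hR⟩).center_le (k := 1) (by unfold HH at hH; omega)
        rwa [inclusion_range, ← center_subgroupOf_self, relIndex_subgroupOf hR.1.1, pow_one] at e)).2
    refine (h2 (h.rank_two hH ((lg_mono fun u hu => ?_).trans (lg_zp h.pg zp)))).elim
    obtain ⟨i, e⟩ := this ((center_subgroupOf_self S).ge hu)
    exact ⟨i, Subtype.ext e⟩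
  · rw [inclusion_range, inclusion_range] at hs
    exact ⟨i, j, i.2, j.2, inclusion_range i.2.1.1 ▸ (L i).idx, inclusion_range j.2.1.1 ▸ (L j).idx, hs⟩

end Cfsg.Agent.Fus.SR3
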