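import Mathlib
import Cfsg.Agent.Fus.SR3Fus

/-! Pushing up for essential subgroups moved by an automorphism, in sectional rank three. -/

set_option autoImplicit false
set_option linter.unusedSectionVars false
set_option linter.unusedVariables false

namespace Cfsg.Agent.Fus.SR3

open Subgroup Cfsg.Agent.Fus.AC Cfsg.Agent.Fus.P5
open scoped commutatorElement

universe u v

variable {G H : Type*} [Group G] [Group H] {p : ℕ}

/-- an invariant subgroup with elementary abelian quotient of order `p ^ 2` -/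
structure Sq (p : ℕ) (ι : H →* G) (𝒜 : Subgroup (MulAut H)) (C : Subgroup G) : Prop where
  i : I ι 𝒜 C
  l : lg p ι.range = lg p C + 2
  c : ⁅ι.range, ι.range⁆ ≤ C
  w : ∀ x ∈ ι.range, x ^ p ∈ C

variable [hp : Fact p.Prime] [Finite G] {ι : H →* G} {𝒜 𝒦 : Subgroup (MulAut H)} {C : Subgroup G}

theorem mem_of_sq (ho : Odd p) {B : Subgroup G} {q : G} (e1 : q ^ p ∈ B) (e2 : q * q ∈ B) : q ∈ B := by
  obtain ⟨m, rfl⟩ := ho
  rwa [pow_succ, pow_mul, sq, mul_mem_cancel_left (pow_mem e2 m)] at e1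

theorem wt_sup {U : Subgroup H} [U.Normal] {β : MulAut H} (hU : ∀ u ∈ U, β u ∈ U) {x : H} {a : ℤ}
    (h : (x ^ a)⁻¹ * β x ∈ U) : ∀ q ∈ U ⊔ zpowers x, (q ^ a)⁻¹ * β q ∈ U := fun q hq => by
  obtain ⟨u, hu, i, rfl⟩ := Grp.PChain.mem_sup_zpowers.1 hq
  rw [← QuotientGroup.eq] at h ⊢
  simp [← h, (QuotientGroup.eq_one_iff _).2 hu, (QuotientGroup.eq_one_iff _).2 (hU u hu),
    ← zpow_mul, mul_comm]

theorem cm_inv {B : Subgroup G} [B.Normal] {x g : G} : ⁅x⁻¹, g⁆ ∈ B ↔ ⁅x, g⁆ ∈ B := by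
  rw [← mem_cm, ← mem_cm, inv_mem_iff]

theorem lg_of_relIndex (hG : IsPGroup p G) {U V : Subgroup G} (h : U ≤ V) {k : ℕ}
    (e : U.relIndex V = p ^ k) : lg p V = lg p U + k :=
  lg_eq (by rw [← Grp.card_mul_relIndex h, e, card_lg hG, pow_add])

theorem lg_range (hι : Function.Injective ι) : lg p (⊤ : Subgroup H) = lg p ι.range := by
  rw [← lg_comap hι le_rfl, MonoidHom.comap_range_self]

theorem Sq.cH (hC : Sq p ι 𝒜 C) (x y : H) : ⁅x, y⁆ ∈ C.comap ι := by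
  rw [mem_comap, map_commutatorElement]; exact cm_mem hC.c ⟨x, rfl⟩ ⟨y, rfl⟩

theorem Sq.wH (hC : Sq p ι 𝒜 C) (x : H) : x ^ p ∈ C.comap ι := by
  rw [mem_comap, map_pow]; exact hC.w _ ⟨x, rfl⟩

theorem Sq.frattini_le (hC : Sq p ι 𝒜 C) [Finite H] : frattini H ≤ C.comap ι :=
  Grp.PFrattini.frattini_le (commutator_le.2 fun x _ y _ => hC.cH x y) hC.wH

namespace Loc

variable (L : Loc p ι 𝒜) (h : R3 p G)
include L h

theorem r3H : R3 p H := ⟨L.pgH, h.odd, FGS.SecRank.of_injective h.rk _ L.inj⟩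

theorem tor (hC : Sq p ι 𝒜 C) (h𝒦 : Nm ι 𝒜 𝒦) : ∃ x y : H, (∀ g, ⁅ι x, g⁆ ∈ C) ∧
    (∀ g, ⁅ι y, g⁆ ∈ C → g ∈ ι.range) ∧ (∀ g, ∃ a b : ℤ, (x ^ a * y ^ b)⁻¹ * g ∈ C.comap ι) ∧
    (∀ a b : ℤ, x ^ a * y ^ b ∈ C.comap ι → (p : ℤ) ∣ a ∧ (p : ℤ) ∣ b) ∧
    ∀ a d : ℤ, (p : ℤ) ∣ a * d - 1 → ∃ β ∈ 𝒦, (∀ t ∈ Tg ι, β * t * β⁻¹ ∈ Tg ι) ∧
      (x ^ a)⁻¹ * β x ∈ C.comap ι ∧ (y ^ d)⁻¹ * β y ∈ C.comap ι := by
  have := L.fin
  have := L.normal hC.i
  have l1 := lg_comap (p := p) L.inj hC.i.le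
  have l2 := lg_range (p := p) L.inj
  have l3 := hC.l
  have l4 := (L.r3H h).sec (X := ⊤) (Grp.PFrattini.commutator_le_frattini L.pgH)
    fun x _ => Grp.PFrattini.pow_mem_frattini L.pgH x
  have l5 := lg_mono (p := p) hC.frattini_le
  obtain ⟨x, y, h1, h2, h3, h4, h5⟩ := (L.sub h𝒦).ess.tor L.pgH (hC.i.inv.mono h𝒦.le) hC.frattini_le
    (by
      rw [relIndex_lg L.pgH hC.frattini_le (k := lg p (C.comap ι) - lg p (frattini H)) (by omega)]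
      exact (pow_dvd_pow p (by omega)).trans (pow_one p).dvd)
    ((lg_of_index L.pgH).2 (by omega)) (L.sub h𝒦).syl h𝒦.tle
  have k : ∀ g y, y⁻¹ * L.cj g y ∈ C.comap ι ↔ ⁅ι y, g⁆ ∈ C := fun g y => by
    rw [mem_comap, L.cj_cm, cm_inv]
  refine ⟨x, y, fun g => (k g x).1 (h1 _ (L.cj_T g)), fun g e => L.mem_of_inn
    (h2 _ (L.cj_T g) ((k g y).2 e)), h3, h4, fun a d e => ?_⟩
  obtain ⟨β, b1, b2, b3, b4, -⟩ := h5 a d e
  exact ⟨β, b1, b2, b3, b4⟩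

theorem neg' (hC : Sq p ι 𝒜 C) (h𝒦 : Nm ι 𝒜 𝒦) : ∃ β ∈ 𝒦, (∀ t ∈ Tg ι, β * t * β⁻¹ ∈ Tg ι) ∧
    ∀ z, z * β z ∈ C.comap ι := by
  have := L.normal hC.i
  obtain ⟨x, y, -, -, e1, -, e2⟩ := L.tor h hC h𝒦
  obtain ⟨β, hβ, b0, b1, b2⟩ := e2 (-1) (-1) (by simp)
  refine ⟨β, hβ, b0, fun z => ?_⟩
  have hn : (C.comap ι).Normal := inferInstance
  let N : Subgroup H :=
    { carrier := {x | x * β x ∈ C.comap ι}
      one_mem' := by simp
      mul_mem' := fun {x y} hx hy => by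
        have := mul_mem (mul_mem (hC.cH x y) (hn.conj_mem _ hx y)) hy
        simpa only [Set.mem_ofPred_eq, commutatorElement_def, mul_assoc, map_mul, inv_mul_cancel_left]
          using this
      inv_mem' := fun {x} hx => by
        simpa only [Set.mem_ofPred_eq, mul_assoc, map_inv, mul_inv_rev, mul_inv_cancel_left]
          using hn.conj_mem _ (inv_mem hx) (β x) }
  obtain ⟨i, j, e⟩ := e1 z
  rw [zpow_neg_one, inv_inv] at b1 b2
  exact mem_of_inv_mul_mem (U := N) (N.mul_mem (N.zpow_mem b1 i) (N.zpow_mem b2 j))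
    ((C.comap ι).mul_mem e (hC.i.inv β (h𝒦.le hβ) _ e))

theorem gen_neg (hC : Sq p ι 𝒜 C) {β : MulAut H} (hβ : ∀ z, z * β z ∈ C.comap ι) {x y : H}
    (hg : ∀ g, ∃ a b : ℤ, (x ^ a * y ^ b)⁻¹ * g ∈ C.comap ι) :
    ι.range ≤ C ⊔ zpowers (ι (x⁻¹ * β x)) ⊔ zpowers (ι (y⁻¹ * β y)) := by
  have k : ∀ z, ι z ∈ C ⊔ zpowers (ι (z⁻¹ * β z)) := fun z => mem_of_sq h.odd
    (mem_sup_left (hC.w _ ⟨z, rfl⟩)) (by
      simpa [mul_assoc] using mul_mem (mem_sup_left (mem_comap.1 (hβ z)))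
        (inv_mem (mem_sup_right (mem_zpowers (ι (z⁻¹ * β z))))))
  rintro _ ⟨g, rfl⟩
  obtain ⟨a, b, e⟩ := hg g
  exact mem_of_inv_mul_mem (mul_mem (zpow_mem (mem_sup_left (k x)) a) (zpow_mem
    ((sup_le_sup_right le_sup_left _ : C ⊔ _ ≤ C ⊔ zpowers (ι (x⁻¹ * β x)) ⊔ _) (k y)) b))
    (mem_sup_left (mem_sup_left (by simpa using e)))

theorem lift (hp3 : p ≠ 3) (hC : Sq p ι 𝒜 C) (hZ : I ι 𝒜 (Zo p G))
    (hc : ⁅(⊤ : Subgroup G), C⁆ ≤ Zo p G) : C ≤ center G := by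
  have := L.fin
  have := L.nor
  have := L.normal hC.i
  have h𝒦 := (L.nm_St hZ hC.i hc).inf (L.nm_St (I.bot L.inj) hZ (cm_Zo _ _))
  have hz : ∀ z, ι z ∈ Zo p G → ∀ y, y * z = z * y := fun z hz y =>
    L.inj (by rw [map_mul, map_mul]; exact Subgroup.mem_center_iff.1 hz.1 _)
  have k1 : ∀ β ∈ St hZ hC.i ⊓ St (I.bot L.inj) hZ, ∀ z, ι z ∈ Zo p G → β z = z := fun β hβ z hz =>
    L.inj (inv_mul_eq_one.1 ((mem_St.1 hβ.2).2 z hz)).symm
  have k2 : ∀ β ∈ St hZ hC.i ⊓ St (I.bot L.inj) hZ, ∀ c, ι c ∈ C → ∃ z, ι z ∈ Zo p G ∧ β c = c * z :=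
    fun β hβ c hc => ⟨c⁻¹ * β c, by simpa using (mem_St.1 hβ.1).2 c hc, by simp⟩
  obtain ⟨x, y, t1, t2, t3, t4, t5⟩ := L.tor h hC h𝒦
  obtain ⟨β, hβ, -, b1⟩ := L.neg' h hC h𝒦
  have k3 : ∀ e, ∀ c ∈ C, ⁅c, ι (e⁻¹ * β e)⁆ = 1 := fun e c hc' => by
    obtain ⟨c, rfl⟩ := hC.i.le hc'
    obtain ⟨z, z1, z2⟩ := k2 β hβ c hc'
    have := k1 β hβ ⁅e, c⁆ (by rw [map_commutatorElement]; exact cm_mem hc trivial hc')
    rw [map_commutatorElement, z2, commutatorElement_def, commutatorElement_def, ← mul_assoc,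
      mul_assoc _ z, ← hz z z1, mul_inv_rev] at this
    rw [← map_commutatorElement, ← map_one ι, commutatorElement_eq_one_iff_mul_comm.2]
    calc c * (e⁻¹ * β e) = e⁻¹ * (e * c * e⁻¹ * c⁻¹) * c * β e := by group
      _ = _ := by rw [← this]; group
  have hEC := h.r1 hC.i.le hC.c hC.w hC.l.ge ⟨_, rfl⟩ ⟨_, rfl⟩ (L.gen_neg h hC b1 t3) (k3 x) (k3 y)
  obtain ⟨a, ha⟩ := exists_inv_int (p := p) (b := 2) fun e => absurd h.odd (by
    simp [(Nat.prime_dvd_prime_iff_eq hp.out Nat.prime_two).1 (Int.natCast_dvd_natCast.1 e)])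
  obtain ⟨β, hβ, b1, b2, b3⟩ := t5 a 2 ha
  obtain ⟨g, -, hg⟩ := exists_of_lg L.pg (U := ι.range) (V := ⊤) (by have := L.lg_top; omega)
  obtain ⟨g', e⟩ := L.mem_T.1 (b1 _ (L.cj_T g))
  by_cases hg' : g⁻¹ * g' ∈ ι.range
  · exfalso
    have hX : (C ⊔ zpowers (ι x)).Normal := Grp.PChain.normal_sup_zpowers t1
    have hx : ι x ∉ C := fun e => hp.out.one_lt.ne' (Int.natCast_dvd_natCast.1
      (t4 1 0 (by simpa using e)).1 |> Nat.dvd_one.1)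
    have l1 := lg_lt' L.pg (le_sup_left : C ≤ _) (mem_sup_right (mem_zpowers _)) hx
    have c1 := (lg_step L.pg (sup_le hC.i.le (zpowers_le.2 ⟨x, rfl⟩)) (by have := hC.l; omega)).1
    have c2 : ∀ u ∈ C ⊔ zpowers (ι x), ∀ g, ⁅g, u⁆ ∈ C := fun u hu g =>
      comm_symm (Grp.PChain.commutator_mem_of_mem_sup_zpowers t1 hu g)
    have w1 := comm_wt (U := C) (X := ⊤) (Y := ι.range) (fun x _ y hy => c2 _ (cm_mem c1 trivial hy))
      (mem_top g) (mem_top g') ⟨y, rfl⟩ ⟨β y, rfl⟩ (a := 1) (b := 2)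
      (fun y hy => cm_mem hC.c (by simpa using hg') hy) fun u _ =>
        cm_mem (cm_top C) trivial (by simpa using mem_comap.1 b3)
    have e1 : ι (L.cj g y * y⁻¹) = ⁅g, ι y⁆ := by simp [L.cj_ap, commutatorElement_def]
    have e2 : ⁅g', ι (β y)⁆ = ι (β (L.cj g y * y⁻¹)) := by
      have := L.cj_ap g' (β y)
      simp [e] at this
      simp [this, commutatorElement_def]
    have w2 := wt_sup (hC.i.inv β hβ.1.1) b2 (L.cj g y * y⁻¹) (by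
      rw [← comap_map_eq_self_of_injective L.inj (_ ⊔ _), Subgroup.map_sup,
        map_comap_eq_self hC.i.le, MonoidHom.map_zpowers, mem_comap, e1]
      exact cm_mem c1 trivial ⟨y, rfl⟩)
    rw [mem_comap, map_mul, map_inv, map_zpow, e1, ← e2] at w2
    have := dvd_sub_of_wt (fun e => hg (t2 g (comm_symm e)))
      (hC.w _ (cm_mem (cm_top _) trivial ⟨y, rfl⟩)) w1 w2
    exact hp3 ((Nat.prime_dvd_prime_iff_eq hp.out Nat.prime_three).1 (Int.natCast_dvd_natCast.1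
      (Dvd.dvd.trans (dvd_add (this.mul_right 2) ha) (dvd_of_eq (by push_cast; ring)))))
  intro c hc'
  refine L.mem_center (fun x hx => cm_mem hEC hx hc') hg' ?_
  obtain ⟨c, rfl⟩ := hC.i.le hc'
  obtain ⟨z, z1, z2⟩ := k2 β⁻¹ (inv_mem hβ) c hc'
  obtain ⟨u, u1, u2⟩ := k2 _ (h𝒦.tle (L.cj_T g)) c hc'
  have e1 : L.cj g' c = L.cj g c := by
    rw [e, MulAut.mul_apply, MulAut.mul_apply, z2, map_mul, k1 _ (h𝒦.tle (L.cj_T g)) z z1, u2,
      mul_assoc, hz z z1, ← mul_assoc, ← z2, map_mul, k1 β hβ u u1, MulAut.apply_inv_self]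
  have e2 := congrArg ι e1
  rw [L.cj_ap, L.cj_ap] at e2
  rw [commutatorElement_def]
  calc _ = g⁻¹ * (g' * ι c * g'⁻¹) * g * (ι c)⁻¹ := by group
    _ = 1 := by rw [e2]; group

omit h in
theorem exists_sq (hH : HH p G) (hn : ¬ I ι 𝒜 (Zo p G)) : ∃ C, Sq p ι 𝒜 C ∧ C ≤ center G := by
  obtain ⟨z, z1, z2, z3, -⟩ := exists_z ((lg_of_index L.pg).2 hH)
  have hz : z ∈ Zo p G := ⟨z2, z1 ▸ pow_orderOf_eq_one z⟩
  have l1 := L.lg_top
  unfold HH at hH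
  obtain ⟨x, hx, hx'⟩ := exists_of_lg L.pg (U := center G) (V := ι.range) (by omega)
  obtain ⟨g, -, hg⟩ := exists_of_lg L.pg (U := ι.range) (V := ⊤) (by omega)
  have hc : ⁅ι.range, ι.range⁆ ≤ ⊥ := two_gen (C := center G) (a := x) (b := x)
    ((eq_sup L.pg L.center_le (by omega) hx hx').le.trans le_sup_left) L.center_le hx hx
    le_normalizer_of_normal (cm_mono (cm_center.2 le_rfl) le_top le_rfl) (by simp)
  obtain ⟨D, w, d1, d2, d3, d4, d5, d6, d7⟩ := L.exists_D I.top hc (fun e => hn (by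
    convert e.om (I.bot L.inj) (reg_of_comm (cm_mono hc inf_le_left inf_le_left)) using 1
    exact le_antisymm (fun y hy => ⟨⟨L.Zo_le' hy, hy.1⟩, hy.2⟩) fun y hy => ⟨hy.1.2, hy.2⟩)) hg hz
    (L.Zo_le' hz) fun a _ => z3 a g
  have := normal_of_le_center' d2
  have := normal_of_le_center' (zpowers_le.2 z2)
  have l2 := lg_sup_zp L.pg (A := D) (hz.2.symm ▸ one_mem D)
  have l3 := lg_sup_zp L.pg (A := D ⊔ zpowers z) (d4.symm ▸ one_mem _)
  have l4 := lg_lt' L.pg (le_sup_left : D ≤ _) (mem_sup_right (mem_zpowers z)) d6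
  have l5 := lg_lt' L.pg (le_sup_left : D ⊔ zpowers z ≤ _) (mem_sup_right (mem_zpowers w))
    fun e => d5 (sup_le d2 (zpowers_le.2 z2) e)
  rw [← d7] at l3 l5
  refine ⟨D, ⟨d1, by omega, hc.trans bot_le, ?_⟩, d2⟩
  have hr := reg_of_comm (p := p) hc
  rw [d7] at hr ⊢
  exact hr.sup (Reg.sup (fun x hx y hy => hr x (mem_sup_left hx) y (mem_sup_left hy))
    (fun x hx => pow_mem hx p) (pow_mem_of_zp (hz.2.symm ▸ one_mem _)))
    (pow_mem_of_zp (d4.symm ▸ one_mem _))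

end Loc

theorem pu (hp3 : p ≠ 3) (n : ℕ) : ∀ {G : Type u} {H : Type v} [Group G] [Group H] [Finite G]
    {ι : H →* G} {𝒜 : Subgroup (MulAut H)}, R3 p G → Loc p ι 𝒜 → ∀ σ : MulAut G,
    ι.range.map σ.toMonoidHom ≠ ι.range → Nat.card G < n → ∃ C, Sq p ι 𝒜 C ∧ C ≤ center G := by
  induction n with
  | zero => intros; omega
  | succ n ih =>
  intro G H _ _ _ ι 𝒜 h L σ hσ hn
  have hZ := map_eq_of_inv (ℬ := ⊤) (U := Zo p G) (fun β _ _ => map_Zo β) (mem_top σ)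
  by_cases hI : I ι 𝒜 (Zo p G)
  swap
  · refine L.exists_sq (L.am0 h (L.twist σ) hI (fun e => hI ((I_congr (MulEquiv.refl H) σ
      (fun _ => rfl) (fun _ => Iff.rfl) _).1 (hZ.symm ▸ e))) ?_) hI
    rw [MonoidHom.range_comp]; exact hσ.symm
  obtain ⟨ℬ, L', hB⟩ := L.quot hI Zo_le
  have hk := QuotientGroup.ker_mk' (Zo p G)
  have hr : (QuotientGroup.map ((Zo p G).comap ι) (Zo p G) ι le_rfl).range =
      ι.range.map (QuotientGroup.mk' _) := by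
    ext x
    refine ⟨fun ⟨y, e⟩ => ?_, fun ⟨_, ⟨y, rfl⟩, e⟩ => ⟨y, e⟩⟩
    obtain ⟨y, rfl⟩ := QuotientGroup.mk_surjective y
    exact ⟨_, ⟨y, rfl⟩, e⟩
  obtain ⟨C, hC, hC'⟩ := ih ⟨h.pg.to_quotient _, h.odd, FGS.SecRank.quotient h.rk _⟩ L'
    (QuotientGroup.congr _ _ σ hZ) (fun e => hσ (by
      rw [hr, Subgroup.map_map] at e
      change ι.range.map ((QuotientGroup.mk' _).comp σ.toMonoidHom) = _ at e
      rw [← Subgroup.map_map] at e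
      exact map_injective_of_ker_le _ (hk.le.trans (hZ.ge.trans (map_mono hI.le)))
        (hk.le.trans hI.le) e)) (by
      have e := (Zo p G).card_mul_index
      have := Nat.one_lt_pow L.lg_Zo.ne' hp.out.one_lt
      rw [← card_lg h.pg] at this
      have : 0 < (Zo p G).index := Nat.pos_of_ne_zero index_ne_zero_of_finite
      change (Zo p G).index < n
      nlinarith)
  have hS : Sq p ι 𝒜 (C.comap (QuotientGroup.mk' _)) := ⟨hB C hC.i, lg_of_relIndex h.pg (hB C hC.i).le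
    (by rw [relIndex_comap, ← hr]; exact relIndex_lg L'.pg hC.i.le hC.l),
    commutator_le.2 fun x hx y hy => cm_mem hC.c (hr.ge ⟨x, hx, rfl⟩) (hr.ge ⟨y, hy, rfl⟩),
    fun x hx => hC.w _ (hr.ge ⟨x, hx, rfl⟩)⟩
  exact ⟨_, hS, L.lift h hp3 hS hI (commutator_le.2 fun g _ c hc => (QuotientGroup.eq_one_iff _).1
    (cm_mem (cm_center.2 hC') (mem_top (g : G ⧸ Zo p G)) hc))⟩

end Cfsg.Agent.Fus.SR3
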