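import Mathlib
import Cfsg.Agent.Fus.SR3Pu

/-! Non-normal essential subgroups in sectional rank three are pearls. -/

set_option autoImplicit false
set_option linter.unusedSectionVars false
set_option linter.unusedVariables false

namespace Cfsg.Agent.Fus.SR3

open Subgroup Cfsg.FusionSystem Cfsg.Agent.Fus.AC Cfsg.Agent.Fus.P5
open scoped commutatorElement

variable {G H : Type*} [Group G] [Group H] {p : ℕ} [hp : Fact p.Prime] [Finite G] {ι : H →* G}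
  {𝒜 : Subgroup (MulAut H)} {C : Subgroup G}

theorem Loc.pow_neg (L : Loc p ι 𝒜) (hC : Sq p ι 𝒜 C) (hc : C ≤ center G) {β : MulAut H}
    (h1 : β ∈ St (I.bot L.inj) hC.i) (h2 : ∀ z, z * β z ∈ C.comap ι) (z : H) :
    ι (z⁻¹ * β z) ^ p = 1 := by
  have e : Commute (ι z) (ι (β z)) := by
    have := Subgroup.mem_center_iff.1 (hc (h2 z)) (ι z)
    rw [map_mul, mul_assoc] at this
    exact mul_left_cancel this
  have := mem_bot.1 ((mem_St.1 h1).2 (z ^ p) (hC.wH z))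
  rw [map_mul, map_inv, e.inv_left.mul_pow, inv_pow]
  simpa using this

theorem Loc.cm_Zo (L : Loc p ι 𝒜) (hC : Sq p ι 𝒜 C) (hc : C ≤ center G) :
    ⁅ι.range, ι.range⁆ ≤ Zo p G := commutator_le.2 fun x hx y hy => ⟨hc (cm_mem hC.c hx hy), by
  rw [← Grp.CommPow.commutator_pow_left (Subgroup.mem_center_iff.1 (hc (cm_mem hC.c hx hy)) x).symm]
  exact cm_mem (cm_symm (cm_center.2 hc)) (hC.w x hx) trivial⟩

theorem Loc.pearl (L : Loc p ι 𝒜) (h : R3 p G) (hC : Sq p ι 𝒜 C) (hc : C ≤ center G)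
    (hΦ : (frattini H).index ≠ p ^ 3) :
    (((∀ x y : H, x * y = y * x) ∧ ∀ x : H, x ^ p = 1) ∧ Nat.card H = p ^ 2) ∨
      (IsExtraspecial p H ∧ Nat.card H = p ^ 3 ∧ ∀ x : H, x ^ p = 1) := by
  have := L.fin
  have h𝒦 := L.nm_St (I.bot L.inj) hC.i (cm_center.2 hc)
  obtain ⟨x, y, -, -, t3, -⟩ := L.tor h hC h𝒦
  obtain ⟨β, hβ, -, b1⟩ := L.neg' h hC h𝒦
  have l1 := lg_comap (p := p) L.inj hC.i.le
  have l2 := lg_range (p := p) L.inj
  have l3 := hC.l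
  have l4 := (L.r3H h).sec (X := ⊤) (Grp.PFrattini.commutator_le_frattini L.pgH)
    fun x _ => Grp.PFrattini.pow_mem_frattini L.pgH x
  have l5 := mt (lg_of_index L.pgH).2 hΦ
  have l6 := lg_mono (p := p) hC.frattini_le
  have e : zpowers (x⁻¹ * β x) ⊔ zpowers (y⁻¹ * β y) = ⊤ := frattini_nongenerating (by
    refine map_injective L.inj (le_antisymm (map_mono le_top) ?_)
    rw [← MonoidHom.range_eq_map, Subgroup.map_sup, Subgroup.map_sup, MonoidHom.map_zpowers,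
      MonoidHom.map_zpowers, sup_comm, ← sup_assoc]
    exact (L.gen_neg h hC b1 t3).trans (sup_le_sup_right (sup_le_sup_right
      ((map_comap_eq_self hC.i.le).ge.trans (map_mono (le_of_lg L.pgH hC.frattini_le (by omega)))) _) _))
  have k : ∀ z, (z⁻¹ * β z) ^ p = 1 := fun z => L.inj (by
    rw [map_pow, map_one]; exact L.pow_neg hC hc hβ b1 z)
  set a := x⁻¹ * β x
  set b := y⁻¹ * β y
  have z1 := cm_mem (L.cm_Zo hC hc) (⟨a, rfl⟩ : ι a ∈ ι.range) ⟨b, rfl⟩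
  rw [← map_commutatorElement] at z1
  have := normal_of_le_center' (zpowers_le.2 (Subgroup.mem_center_iff.2 fun g => L.inj (by
    rw [map_mul, map_mul]; exact Subgroup.mem_center_iff.1 z1.1 _) : ⁅a, b⁆ ∈ center H))
  have c1 := two_gen (X := ⊤) (C := ⊥) (A := zpowers ⁅a, b⁆) (by rw [bot_sup_eq, e]) bot_le
    (mem_top a) (mem_top b) le_normalizer_of_normal (by simp) (mem_zpowers _)
  have : (zpowers ⁅a, b⁆ ⊔ zpowers a).Normal :=
    normal_of_cm ((cm_mono c1 le_rfl le_top).trans le_sup_left)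
  have m1 := lg_zp L.pgH (u := ⁅a, b⁆) (L.inj (by rw [map_pow, map_one]; exact z1.2))
  have m2 := lg_sup_zp L.pgH (A := zpowers ⁅a, b⁆) (u := a) ((k x).symm ▸ one_mem _)
  have m3 := lg_sup_zp L.pgH (A := zpowers ⁅a, b⁆ ⊔ zpowers a) (u := b) ((k y).symm ▸ one_mem _)
  rw [sup_assoc, e, sup_top_eq] at m3
  have hcard := card_top.symm.trans (card_lg L.pgH ⊤)
  by_cases e3 : lg p (⊤ : Subgroup H) = 3
  · rw [e3] at hcard
    rcases L.ess.cube hcard with ⟨e1, e2⟩ | ⟨-, e1, e2⟩ | ⟨e1, -⟩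
    · have := lg_mono (p := p) (Grp.PFrattini.frattini_le (N := ⊥) (commutator_le.2
        fun x _ y _ => commutatorElement_eq_one_iff_mul_comm.2 (e1 x y)) e2)
      rw [lg_bot] at this; omega
    · exact Or.inr ⟨e1, hcard, e2⟩
    · exact absurd h.odd (by simp [e1])
  · have e4 := le_of_lg L.pgH (bot_le (a := frattini H)) (by rw [lg_bot]; omega)
    exact Or.inl ⟨⟨fun x y => commutatorElement_eq_one_iff_mul_comm.1 (e4
      (Grp.PFrattini.commutator_le_frattini L.pgH (commutator_mem_commutator trivial trivial))),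
      fun x => e4 (Grp.PFrattini.pow_mem_frattini L.pgH x)⟩, by rw [hcard]; congr 1; omega⟩

theorem exists_nu (hp5 : 5 ≤ p) :
    ∃ n : ℤ, ¬ (p : ℤ) ∣ n ∧ ¬ (p : ℤ) ∣ n ^ 2 - 1 ∧ ¬ (p : ℤ) ∣ n ^ 3 - 1 := by
  by_cases e : p = 7
  · subst e; exact ⟨3, by norm_num, by norm_num, by norm_num⟩
  have k : ∀ q : ℕ, q.Prime → p ≠ q → ¬ (p : ℤ) ∣ (q : ℕ) := fun q hq h e =>
    h ((Nat.prime_dvd_prime_iff_eq hp.out hq).1 (Int.natCast_dvd_natCast.1 e))
  exact ⟨2, k 2 Nat.prime_two (by omega), k 3 Nat.prime_three (by omega), k 7 (by norm_num) e⟩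

theorem fc (h : R3 p G) (hp5 : 5 ≤ p) (hcard : Nat.card G = p ^ 5) {N Z L : Subgroup G} [N.Normal]
    [Z.Normal] [L.Normal] (hN : N.index = p) (hZ : Nat.card Z = p ^ 2) (hL : Nat.card L = p)
    (hLZ : L ≤ Z) (hZN : Z ≤ N) (hcen : ∀ u ∈ Z, ∀ g ∈ N, ⁅g, u⁆ = 1)
    (hcom : ∀ a ∈ N, ∀ b ∈ N, ⁅a, b⁆ ∈ L) (hexp : ∀ a ∈ N, a ^ p ∈ Z) (he : ∀ u ∈ Z, u ^ p = 1)
    (hna : ¬ ⁅N, N⁆ ≤ ⊥) {s w : G} (hs : s ∉ N) (hw : w ∈ N) (hy : ⁅s, w⁆ ∉ Z)
    (hT : ∀ b : ℤ, ¬ (p : ℤ) ∣ b → ∃ (γ : MulAut G) (l : ℤ), (∀ g ∈ N, γ g ∈ N) ∧ (w ^ b)⁻¹ * γ w ∈ Z ∧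
      (∀ u ∈ Z, u⁻¹ * γ u ∈ L) ∧ (∀ u ∈ L, (u ^ l)⁻¹ * γ u = 1) ∧
      ((p : ℤ) ∣ l - 1 ∨ (p : ℤ) ∣ l * b - 1)) : False := by
  by_cases hNA : ∀ A : Subgroup G, A.index = p → ¬ ∀ a ∈ A, ∀ b ∈ A, a * b = b * a
  · have := (a3_core hcard (by omega) hN hZ hL hLZ hZN hcen hcom hexp hNA hs hw hy fun b hb => by
      obtain ⟨γ, l, g1, g2, g3, -⟩ := hT b hb; exact ⟨γ, g1, g2, g3⟩).1
    omega
  push Not at hNA
  obtain ⟨B, hB, hB'⟩ := hNA
  have cB : ⁅B, B⁆ ≤ ⊥ := commutator_le.2 fun a ha b hb =>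
    commutatorElement_eq_one_iff_mul_comm.2 (hB' a ha b hb)
  have := normal_of_index h.pg hB
  obtain ⟨l1, c1, -⟩ := idx_step h.pg hN
  obtain ⟨l2, c2, -⟩ := idx_step h.pg hB
  have l0 := lg_eq (U := ⊤) (card_top.trans hcard)
  have l3 := lg_eq hZ
  have l4 := lg_eq (hL.trans (pow_one p).symm)
  have l5 := lg_inf h.pg hN B
  have cZ : ⁅N, Z⁆ ≤ ⊥ := commutator_le.2 fun g hg u hu => hcen u hu g hg
  obtain ⟨t, ht, ht'⟩ := SetLike.not_le_iff_exists.1 fun e : B ≤ N =>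
    hna (cm_mono cB (le_of_lg h.pg e (by omega)) (le_of_lg h.pg e (by omega)))
  have l6 := lg_lt' h.pg (inf_le_left : B ⊓ N ≤ B) ht fun e => ht' e.2
  have top : ∀ {g y}, g ∉ B → y ∈ B → ⁅g, y⁆ = 1 → ∀ x, ⁅x, y⁆ = 1 := fun hg hy e x => mem_cm.1
    ((Grp.eq_top_of_index_prime hp.out hB (H := cm ⊥ _) (fun b hb => mem_cm.2 (cm_mem cB hb hy)) hg
      (mem_cm.2 e)).ge (mem_top x))
  have hZB : Z ≤ B ⊓ N := le_inf (fun z hz => by
    by_contra e
    obtain ⟨n, hn, hn'⟩ := exists_of_lg h.pg (U := B ⊓ N) (V := N) (by omega)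
    exact hna (two_gen (C := B ⊓ N) (a := n) (b := n) ((eq_sup h.pg inf_le_right (by omega) hn
      hn').le.trans le_sup_left) inf_le_right hn hn le_normalizer_of_normal (commutator_le.2
      fun x _ a ha => top e ha.1 (comm_symm (B := ⊥) (hcen z hz a ha.2)) x) (by simp))) hZN
  have y1 : ⁅t, w⁆ ∉ Z := fun e => hy (mem_cm.1 ((Grp.eq_top_of_index_prime hp.out hN (H := cm Z w)
    (fun g hg => mem_cm.2 (hLZ (hcom g hg w hw))) ht' (mem_cm.2 e)).ge (mem_top s)))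
  have cA := le_inf c2 c1
  have y2 := cm_mem cA (mem_top t) (mem_top w)
  have hwA : w ∉ B ⊓ N := fun e => y1 (bot_le (a := Z) (cm_mem cB ht e.1))
  have eA := eq_sup h.pg hZB (by omega) y2 y1
  have eB := eq_sup h.pg inf_le_left (by omega) ht fun e => ht' e.2
  have z1 : ⁅w, ⁅t, w⁆⁆ ≠ 1 := fun e => hna (two_gen (C := Z) (by
    rw [← eA]; exact (eq_sup h.pg inf_le_right (by omega) hw hwA).le) hZN y2.2 hw
    le_normalizer_of_normal cZ (comm_symm (B := ⊥) e))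
  obtain ⟨n, n1, n2, n3⟩ := exists_nu hp5
  obtain ⟨γ, l, g1, g2, g3, g4, g5⟩ := hT n n1
  have gZ : ∀ u ∈ Z, γ u ∈ Z := fun u hu => mem_of_inv_mul_mem hu (hLZ (g3 u hu))
  have y3 : γ ⁅t, w⁆ ∈ B ⊓ N := by rw [map_commutatorElement]; exact cm_mem cA trivial trivial
  obtain ⟨σ, hσ⟩ := exists_wt (eB.le (show γ t ∈ B by
    by_contra e
    refine z1 (γ.injective ?_)
    rw [map_commutatorElement, map_one]
    exact top e y3.1 (by rw [← map_commutatorElement, cm_mem cB ht y2.1, map_one]) _))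
  obtain ⟨a1, a1'⟩ := lg_step h.pg hZB (by omega)
  have a2 := (lg_step h.pg (inf_le_right : B ⊓ N ≤ N) (by omega)).1
  obtain ⟨a3, a3'⟩ := lg_step h.pg hLZ (by omega)
  obtain ⟨a4, a4'⟩ := lg_step h.pg (bot_le (a := L)) (by omega)
  have w1 := comm_wt (U := Z) (X := ⊤) (Y := N) (fun x _ y hy g => cm_mem a1 trivial
    (cm_mem a2 trivial hy)) (mem_top t) (mem_top (γ t)) hw (g1 w hw)
    (fun y hy => hLZ (hcom _ hσ.2 y hy)) fun x _ => cm_mem (cm_top Z) trivial g2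
  rw [← map_commutatorElement] at w1
  have w2 := comm_wt (U := ⊥) (X := N) (Y := N) (fun x hx y hy g => cm_mem a4 trivial
    (hcom x hx y hy)) hw (g1 w hw) y2.2 y3.2 (fun y hy => comm_symm (hcen _ g2 y hy))
    fun x hx => hcen _ w1 x hx
  rw [← map_commutatorElement] at w2
  have d1 := dvd_sub_of_wt (B := ⊥) z1 (a4' _ (hcom w hw _ y2.2)) w2 (g4 _ (hcom w hw _ y2.2))
  have ev : ∀ q ∈ Z, q ≠ 1 → ∀ k : ℤ, γ q = q ^ k → (p : ℤ) ∣ k - 1 ∨ (p : ℤ) ∣ k - l :=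
    fun q hq q1 k e => by
      by_cases e' : q ∈ L
      · exact Or.inr (dvd_sub_of_wt (B := ⊥) q1 (he q hq) (by simp [e]) (g4 q e'))
      · exact Or.inl (dvd_sub_of_wt e' (a3' q hq) (y' := γ q) (by simp [e]) (by simpa using g3 q hq))
  have pw : ∀ {q u : G} {k : ℤ}, q ∈ B → u = (q ^ k)⁻¹ * γ q → u ∈ B → u ^ p = 1 →
      γ (q ^ p) = (q ^ p) ^ k := fun {q u k} hq e hu hu' => by
    rw [map_pow, eq_inv_mul_iff_mul_eq.1 e |>.symm, reg_of_comm cB _ (zpow_mem hq k) u hu, hu',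
      mul_one, ← zpow_natCast, ← zpow_natCast, ← zpow_mul, ← zpow_mul, mul_comm]
  simp only [← ZMod.intCast_zmod_eq_zero_iff_dvd] at n1 n2 n3 g5 d1 ev
  push_cast at n2 n3 g5 d1 ev
  have y4 : ⁅t, w⁆ ^ p = 1 := by
    by_contra e
    have := ev _ (a1' _ y2) e _ (pw y2.1 rfl (hZB w1).1 (he _ w1))
    push_cast at this
    grind
  have elA : ∀ x ∈ B ⊓ N, x ^ p = 1 := by
    have hr := reg_of_comm (p := p) (cm_mono cB (inf_le_left (b := N)) inf_le_left)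
    rw [eA] at hr ⊢
    exact hr.sup (B := ⊥) he (pow_mem_of_zp y4)
  have t1 := (lg_step h.pg (inf_le_left : B ⊓ N ≤ B) (by omega)).2 t ht
  have t2 : t ^ p ≠ 1 := fun e => by
    have hr := reg_of_comm (p := p) cB
    have := h.el (W := B) ⟨cB, by
      rw [eB] at hr ⊢; exact hr.sup (B := ⊥) elA (pow_mem_of_zp e)⟩
    omega
  have t3 := pw ht rfl hσ.1 (elA _ hσ)
  by_cases e : t ^ p ∈ Z
  · have := ev _ e t2 _ t3
    grind
  · have := (ZMod.intCast_zmod_eq_zero_iff_dvd _ _).2 (dvd_sub_of_wt e (a1' _ t1) (b := σ)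
      (wt_sup gZ w1 _ (eA.le t1)) (by simp [t3]))
    push_cast at this
    grind

theorem Loc.foc (L : Loc p ι 𝒜) (h : R3 p G) (hC : Sq p ι 𝒜 C) (hCZ : C ≤ center G) {x : H}
    (t1 : ∀ g, ⁅ι x, g⁆ ∈ C) (u : G) : ⁅u, ι x⁆ ∈ ⁅ι.range, ι.range⁆ := by
  have := L.nor
  have := L.normal hC.i
  obtain ⟨β, hβ, b0, b1⟩ := L.neg' h hC (L.nm_St (I.bot L.inj) hC.i (cm_center.2 hCZ))
  obtain ⟨u', e⟩ := L.mem_T.1 (b0 _ (L.cj_T u))
  obtain ⟨v, hv⟩ : u⁻¹ * u' ∈ ι.range := L.rad2 hC.i (by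
    rintro _ ⟨y, rfl⟩
    rw [← cm_inv, ← L.cj_cm, map_mul L.cj, map_inv L.cj, e]
    have e1 := hC.i.inv _ (inv_mem (L.cj_mem u)) _ (b1 (L.cj u (β⁻¹ y)))
    have := mul_mem (inv_mem (b1 (β⁻¹ y))) e1
    simp only [map_mul (L.cj u)⁻¹, MulAut.apply_inv_self, MulAut.inv_apply_self, mul_inv_rev,
      mul_assoc, inv_mul_cancel_left] at this
    exact this)
    fun c hc => cm_mem (cm_symm (cm_center.2 hCZ)) hc trivial
  obtain ⟨d, hd⟩ : ∃ d, d = x⁻¹ * L.cj u x := ⟨_, rfl⟩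
  have hdC : ι d ∈ C := by rw [hd, L.cj_cm]; exact cm_inv.2 (t1 u)
  have cd : ∀ z, ι z ∈ C → ∀ g, g * ι z = ι z * g := fun z hz => Subgroup.mem_center_iff.1 (hCZ hz)
  have e1 : u * ι x * u⁻¹ = ι x * ι d := by rw [hd, ← L.cj_ap]; simp
  have e2 : u' * ι (β x) * u'⁻¹ = ι (β x) * ι d := by
    rw [← L.cj_ap, e, ← L.inj (inv_mul_eq_one.1 ((mem_St.1 hβ).2 d hdC)).symm, hd]; simp
  have e3 : ι (β x) = (ι x)⁻¹ * ι (x * β x) := by simp
  have e4 : ι d ^ p = 1 := by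
    have := congrArg (· ^ p) e1
    simp only [conj_pow] at this
    rw [Commute.mul_pow (cd d hdC _), ← map_pow ι x, cd _ (hC.wH x) u, mul_inv_cancel_right] at this
    exact (mul_eq_left.1 this.symm)
  have e5 : u * ⁅ι v, (ι x)⁻¹⁆ * u⁻¹ = ι d * ι d := by
    have hr := cd _ (b1 x)
    rw [e3, ← mul_inv_cancel_left u u', ← hv] at e2
    generalize ι (x * β x) = r at e2 hr
    rw [← mul_assoc, mul_assoc _ r, ← hr, mul_assoc _ r, ← hr, ← mul_assoc, ← mul_assoc,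
      mul_left_inj] at e2
    calc _ = u * ι v * (ι x)⁻¹ * (u * ι v)⁻¹ * (u * ι x * u⁻¹) := by
          rw [commutatorElement_def]; group
      _ = _ := by rw [e2, e1, cd d hdC, mul_assoc, inv_mul_cancel_left]
  rw [commutatorElement_def, e1, cd d hdC, mul_inv_cancel_right]
  exact mem_of_sq h.odd (e4.symm ▸ one_mem _) (e5 ▸ Normal.conj_mem inferInstance _
    (commutator_mem_commutator (ι.mem_range.2 ⟨v, rfl⟩) (ι.range.inv_mem ⟨x, rfl⟩)) u)

theorem noext {Γ : Type*} [Group Γ] [Finite Γ] (hΓ : R3 p Γ) (hp5 : 5 ≤ p) {κ : G →* Γ}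
    (hκ : Function.Injective κ) (c : Γ → MulAut G) (hc : ∀ g x, κ (c g x) = g * κ x * g⁻¹)
    (L : Loc p ι 𝒜) (hΦ : (frattini H).index = p ^ 3)
    (hN : ∀ g, (∀ x ∈ ι.range, c g x ∈ ι.range) → g ∈ κ.range) {s : Γ} (hs : s ∉ κ.range)
    {ℬ : Subgroup (MulAut G)} (e1 : ∀ β ∈ 𝒜, (∀ t ∈ Tg ι, β * t * β⁻¹ ∈ Tg ι) →
      ∃ α ∈ ℬ, ∀ x, α (ι x) = ι (β x)) (e2 : ∀ α ∈ ℬ, (∀ t ∈ Tg κ, α * t * α⁻¹ ∈ Tg κ) →
      ∃ γ : MulAut Γ, ∀ x, γ (κ x) = κ (α x))
    (e3 : κ.range.index = p → Loc p κ ℬ ∨ ∀ α ∈ ℬ, ∀ t ∈ Tg κ, α * t * α⁻¹ ∈ Tg κ) : False := by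
  have := L.fin
  have := L.nor
  have h : R3 p G := ⟨L.pg, hΓ.odd, FGS.SecRank.of_injective hΓ.rk _ hκ⟩
  have hσ : ¬ ι.range.map (c s).toMonoidHom ≤ ι.range := fun e => hs (hN s fun x hx => e ⟨x, hx, rfl⟩)
  obtain ⟨C, hC, hCZ⟩ := pu (by omega) _ h L (c s) (fun e => hσ e.le) (Nat.lt_succ_self _)
  have := normal_of_le_center' hCZ
  have h𝒦 := L.nm_St (I.bot L.inj) hC.i (cm_center.2 hCZ)
  obtain ⟨x, y, t1, t2, t3, t4, t5⟩ := L.tor h hC h𝒦
  obtain ⟨β, hβ, b0, b1⟩ := L.neg' h hC h𝒦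
  have fx : ∀ β ∈ St (I.bot L.inj) hC.i, ∀ z, ι z ∈ C → β z = z := fun β hβ z hz =>
    L.inj (inv_mul_eq_one.1 ((mem_St.1 hβ).2 z hz)).symm
  have l1 := L.lg_top
  have l2 := hC.l
  obtain ⟨g, -, hg⟩ := exists_of_lg L.pg (U := ι.range) (V := ⊤) (by omega)
  have hX : (C ⊔ zpowers (ι x)).Normal := Grp.PChain.normal_sup_zpowers t1
  have hx : ι x ∉ C := fun e => hp.out.one_lt.ne' (Int.natCast_dvd_natCast.1
    (t4 1 0 (by simpa using e)).1 |> Nat.dvd_one.1)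
  have l3 := lg_lt' L.pg (le_sup_left : C ≤ _) (mem_sup_right (mem_zpowers _)) hx
  have l4 := lg_sup_zp L.pg (hC.w _ ⟨x, rfl⟩)
  have xE : C ⊔ zpowers (ι x) ≤ ι.range := sup_le hC.i.le (zpowers_le.2 ⟨x, rfl⟩)
  have d1 := cm_mem (cm_symm (lg_step L.pg xE (by omega)).1) ⟨y, rfl⟩ (mem_top g)
  have d2 : ⁅ι y, g⁆ ∉ C := fun e => hg (t2 g e)
  obtain ⟨M, hM⟩ : ∃ M, M = center G ⊔ commutator G := ⟨_, rfl⟩
  have iM : Inv ⊤ M := hM ▸ (inv_of_char _ _).sup (inv_of_char _ _)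
  have := normal_of_inv le_top iM
  have L' := L.twist (c s)
  have l5 := L'.lg_top
  rw [MonoidHom.range_comp] at l5
  have l6 := lg_lt L.pg (inf_le_right (a := ι.range) (b := ι.range.map (c s).toMonoidHom))
    fun e => hσ (e.trans inf_le_left)
  have mE : M ≤ ι.range ⊓ ι.range.map (c s).toMonoidHom := hM ▸ sup_le (le_inf L.center_le
    (MonoidHom.range_comp (c s).toMonoidHom ι ▸ L'.center_le)) (le_inf (idx_step L.pg L.idx).2.1
    (MonoidHom.range_comp (c s).toMonoidHom ι ▸ (idx_step L.pg L'.idx).2.1))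
  have l7 := lg_mono (p := p) mE
  have xM : C ⊔ zpowers (ι x) ≤ M := by
    rw [eq_sup L.pg le_sup_left l4 d1 d2, hM]
    exact sup_le_sup hCZ (zpowers_le.2 (commutator_mem_commutator trivial trivial))
  have eM := le_antisymm (le_of_lg L.pg xM (by omega)) xM
  rw [← eM] at l3 l4 xE d1
  have gM : commutator G ≤ M := hM ▸ le_sup_right
  have pM : ∀ u : G, u ^ p ∈ M := fun u => le_of_lg L.pg mE (by omega) ⟨(idx_step L.pg L.idx).2.2 u,
    (MonoidHom.range_comp (c s).toMonoidHom ι).le ((idx_step L.pg L'.idx).2.2 u)⟩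
  have hyM : ι y ∉ M := fun e => by
    obtain ⟨i, hi⟩ := exists_wt (eM.le e)
    exact hp.out.one_lt.ne' (Int.natCast_dvd_natCast.1
      (t4 (-i) 1 (by simpa using hi)).2 |> Nat.dvd_one.1)
  have eE := eq_sup L.pg xE (by omega) ⟨y, rfl⟩ hyM
  have hCM : C ≤ M := eM.ge.trans' le_sup_left
  have cM : ⁅(⊤ : Subgroup G), M⁆ ≤ ⁅ι.range, ι.range⁆ := eM ▸ cm_sup
    ((cm_center.2 hCZ).trans bot_le) (cm_zp fun u _ => L.foc h hC hCZ t1 u)
  obtain ⟨K, hK⟩ : ∃ K, K = ⁅(⊤ : Subgroup G), M⁆ ⊔ closure ((· ^ p) '' M) := ⟨_, rfl⟩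
  have iK : Inv ⊤ K := hK ▸ ((inv_top _).commutator iM).sup (inv_closure (by
    rintro a - _ ⟨m, hm, rfl⟩; exact ⟨a m, iM a trivial m hm, (map_pow _ _ _).symm⟩))
  have := normal_of_inv le_top iK
  have k1 : ⁅(⊤ : Subgroup G), M⁆ ≤ K := hK ▸ le_sup_left
  have k2 : ∀ m ∈ M, m ^ p ∈ K := fun m hm => hK ▸ mem_sup_right (subset_closure ⟨m, hm, rfl⟩)
  have eK : K = (frattini H).map ι := le_antisymm (by
    rw [hK]
    refine sup_le (cM.trans ?_) ((closure_le _).2 ?_)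
    · rw [MonoidHom.range_eq_map, ← map_commutator]
      exact map_mono (Grp.PFrattini.commutator_le_frattini L.pgH)
    · rintro _ ⟨m, hm, rfl⟩
      obtain ⟨m, rfl⟩ := xE hm
      exact ⟨_, Grp.PFrattini.pow_mem_frattini L.pgH m, map_pow _ _ _⟩) (by
    have e : ι.range ≤ M ⊔ zpowers (ι (y⁻¹ * β y)) := (L.gen_neg h hC b1 t3).trans
      (sup_le_sup_right (sup_le hCM (zpowers_le.2 (by
        have e := eM.ge (mem_sup_right (mem_zpowers _))
        simpa [mul_assoc] using mul_mem (inv_mem (mul_mem e e)) (hCM (b1 x))))) _)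
    have c1 := two_gen (a := ι (y⁻¹ * β y)) (b := ι (y⁻¹ * β y)) (e.trans le_sup_left) xE ⟨_, rfl⟩
      ⟨_, rfl⟩ le_normalizer_of_normal (cm_mono k1 le_top le_rfl) (by simp)
    have hr := reg_of h.odd (L.cm_Zo hC hCZ) (cm_Zo _ _) el_Zo.pw
    rw [le_antisymm e (sup_le xE (zpowers_le.2 ⟨_, rfl⟩))] at hr
    refine map_le_iff_le_comap.2 (Grp.PFrattini.frattini_le (p := p) (commutator_le.2 fun a _ b _ => ?_)
      fun a => ?_)
    · rw [mem_comap, map_commutatorElement]; exact cm_mem c1 ⟨a, rfl⟩ ⟨b, rfl⟩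
    · rw [mem_comap, map_pow]
      exact hr.sup k2 (pow_mem_of_zp ((L.pow_neg hC hCZ hβ b1 y).symm ▸ one_mem _)) _ (e ⟨a, rfl⟩))
  have l8 : lg p ι.range = lg p K + 3 := by
    rw [← lg_range L.inj, (lg_of_index L.pgH).1 hΦ, eK, lg, lg, card_map_of_injective L.inj]
  have kC : K ≤ C := eK ▸ map_le_iff_le_comap.2 hC.frattini_le
  have iL := iK.sup (inv_of_char ⊤ (commutator G))
  have hd : ⁅ι y, g⁆ ∈ K ⊔ commutator G := mem_sup_right (commutator_mem_commutator trivial trivial)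
  have eL : K ⊔ commutator G = K ⊔ zpowers ⁅ι y, g⁆ := le_antisymm (sup_le le_sup_left (by
    have := Grp.PChain.normal_sup_zpowers fun u => cm_mem (cm_symm k1) d1 (mem_top u)
    exact two_gen (X := ⊤) (C := M) (by rw [← eE]; exact (eq_sup L.pg le_top l1.le trivial hg).le)
      le_top trivial trivial le_normalizer_of_normal (k1.trans le_sup_left)
      (mem_sup_right (mem_zpowers _)))) (sup_le le_sup_left (zpowers_le.2 hd))
  have l9 := lg_sup_zp L.pg (k2 _ d1)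
  have l10 := lg_lt' L.pg le_sup_left hd fun e => d2 (kC e)
  rw [← eL] at l9
  have lM : K ⊔ commutator G ≤ M := sup_le (kC.trans hCM) gM
  have nm : ∀ U, Inv ⊤ U → (U.map κ).Normal := fun U hU => ⟨by
    rintro _ ⟨u, hu, rfl⟩ g; exact ⟨_, hU _ trivial u hu, hc g u⟩⟩
  have lm : ∀ U : Subgroup G, lg p (U.map κ) = lg p U := fun U => by
    rw [lg, lg, card_map_of_injective hκ]
  have := nm _ iM
  have := nm _ iK
  have := nm _ iL
  have := nm _ (inv_top _)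
  have hcz : ∀ g, (∀ e ∈ ι.range, ⁅κ e, g⁆ ∈ M.map κ) → g ∈ κ.range := fun g hg => hN g fun e he => by
    obtain ⟨m, hm, e'⟩ := comm_symm (hg e he)
    have : c g e = m * e := hκ (by rw [hc, map_mul, e', commutatorElement_def]; simp)
    exact this ▸ mul_mem (xE hm) he
  have hi : κ.range.index = p := by
    obtain ⟨A, _, a1, a2, a3⟩ := exists_between hΓ.pg (map_mono (f := κ) (le_top (a := M))) (by
      rw [lm, lm]; omega)
    have m1 := lm M
    have m2 := lm ⊤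
    obtain ⟨u, hu, hu'⟩ := exists_of_lg hΓ.pg (U := A) (V := (⊤ : Subgroup G).map κ) (by omega)
    have m3 := lg_cm hΓ.pg a1 (K := ⊤) fun k _ => cm_mem (lg_step hΓ.pg a2 (by omega)).1 trivial hu
    have m4 := lg_mono (p := p) (U := ⊤ ⊓ cm (M.map κ) u) (V := κ.range) fun g hg => hcz g fun e _ =>
      comm_sup (fun a ha => cm_mem (cm_symm (lg_step hΓ.pg a1 a3.le).1) ha trivial)
        (comm_symm (mem_cm.1 hg.2)) _ ((eq_sup hΓ.pg a2 (by omega) hu hu').le ⟨e, trivial, rfl⟩)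
    have m5 := lg_lt' hΓ.pg le_top (mem_top s) hs
    rw [← pow_one p]
    exact (lg_of_index hΓ.pg).2 (by omega)
  have key : ∀ w, ⁅κ w, s⁆ ∉ M.map κ → (∀ b : ℤ, ¬ (p : ℤ) ∣ b → ∃ (α : MulAut G) (l : ℤ),
      (∃ γ : MulAut Γ, ∀ x, γ (κ x) = κ (α x)) ∧ (w ^ b)⁻¹ * α w ∈ M ∧
      (∀ u ∈ M, u⁻¹ * α u ∈ K ⊔ commutator G) ∧ (∀ u ∈ K ⊔ commutator G, (u ^ l)⁻¹ * α u ∈ K) ∧
      ((p : ℤ) ∣ l - 1 ∨ (p : ℤ) ∣ l * b - 1)) → False := fun w hw hT => by
    let f := (QuotientGroup.mk' (K.map κ)).comp κ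
    have f1 : ∀ x, f x = 1 ↔ x ∈ K := fun x => (QuotientGroup.eq_one_iff _).trans (mem_map_iff_mem hκ)
    have f2 : ∀ U k, K ≤ U → lg p U = lg p K + k → Nat.card (U.map f) = p ^ k := fun U k h1 h2 => by
      rw [← relIndex_ker, show f.ker = K from Subgroup.ext f1, relIndex_lg L.pg h1 h2]
    have f3 : ∀ U : Subgroup G, (U.map κ).Normal → (U.map f).Normal := fun U hU =>
      (Subgroup.map_map U (QuotientGroup.mk' (K.map κ)) κ) ▸ hU.map _ (QuotientGroup.mk'_surjective _)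
    have f4 : ∀ U, K ≤ U → ∀ x : Γ, (x : Γ ⧸ K.map κ) ∈ U.map f → x ∈ U.map κ := fun U hU x hx => by
      rwa [← Subgroup.map_map, ← QuotientGroup.mk'_apply, ← mem_comap, comap_map_eq_self
        ((QuotientGroup.ker_mk' _).le.trans (map_mono hU))] at hx
    have := f3 M ‹_›
    have := f3 ⊤ ‹_›
    have := f3 (K ⊔ commutator G) ‹_›
    have m1 := (idx_step hΓ.pg hi).1
    have m2 := lm K
    have m3 := lg_range (p := p) hκ
    have hcard : Nat.card (Γ ⧸ K.map κ) = p ^ 5 := (lg_of_index hΓ.pg).2 (by omega)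
    refine fc ⟨hΓ.pg.to_quotient _, h.odd, FGS.SecRank.quotient hΓ.rk _⟩ hp5 hcard
      (N := (⊤ : Subgroup G).map f) (Z := M.map f) (L := (K ⊔ commutator G).map f)
      ((card_of_index hcard).2 (f2 _ _ le_top (by omega))) (f2 _ _ (kC.trans hCM) (by omega))
      ((f2 _ 1 le_sup_left (by omega)).trans (pow_one p)) (map_mono lM) (map_mono le_top) ?_ ?_ ?_ ?_
      (fun e => d2 (kC ((f1 _).1 ?_))) (s := s) (w := f w)
      (fun e => hs (MonoidHom.range_eq_map κ ▸ f4 _ le_top s e)) ⟨w, trivial, rfl⟩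
      (fun e => hw (comm_symm (f4 _ (kC.trans hCM) _ e))) fun b hb => ?_
    · rintro _ ⟨u, hu, rfl⟩ _ ⟨g, -, rfl⟩
      rw [← map_commutatorElement, f1]; exact cm_mem k1 trivial hu
    · rintro _ ⟨u, -, rfl⟩ _ ⟨g, -, rfl⟩
      exact ⟨_, mem_sup_right (commutator_mem_commutator trivial trivial), map_commutatorElement _ _ _⟩
    · rintro _ ⟨u, -, rfl⟩; exact ⟨_, pM u, map_pow _ _ _⟩
    · rintro _ ⟨u, hu, rfl⟩; rw [← map_pow, f1]; exact k2 u hu
    · rw [map_commutatorElement]; exact cm_mem e ⟨_, trivial, rfl⟩ ⟨_, trivial, rfl⟩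
    obtain ⟨α, l, ⟨γ, hγ⟩, a1, a2, a3, a4⟩ := hT b hb
    obtain ⟨ρ, hρ⟩ := exists_quotHom (inv_zpowers (α := γ) (U := K.map κ) (by
      rintro _ ⟨u, hu, rfl⟩; exact ⟨_, iK α trivial u hu, (hγ u).symm⟩))
    have r : ∀ x, ρ ⟨γ, mem_zpowers γ⟩ (f x) = f (α x) := fun x =>
      (hρ _ _).trans (congrArg QuotientGroup.mk (hγ x))
    refine ⟨ρ ⟨γ, mem_zpowers γ⟩, l, ?_, ⟨_, a1, by simp [r]⟩, ?_, ?_, a4⟩
    · rintro _ ⟨u, -, rfl⟩; exact ⟨_, trivial, (r u).symm⟩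
    · rintro _ ⟨u, hu, rfl⟩; exact ⟨_, a2 u hu, by simp [r]⟩
    · rintro _ ⟨u, hu, rfl⟩
      rw [r, ← map_zpow, ← map_inv, ← map_mul, f1]; exact a3 u hu
  rcases e3 hi with L2 | e4
  · have iI : ∀ U, Inv ⊤ U → I κ ℬ (U.map κ) := fun U hU => I.map hκ (hU.mono le_top)
    have m1 := lm K
    have m2 := lm M
    have m3 := lm (K ⊔ commutator G)
    have m4 := lg_range (p := p) hκ
    obtain ⟨x', y', -, s2, -, -, s5⟩ := L2.tor hΓ ⟨iI M iM, by omega, by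
      rw [MonoidHom.range_eq_map, ← map_commutator]; exact map_mono gM, by
      rintro _ ⟨u, rfl⟩; exact ⟨_, pM u, map_pow _ _ _⟩⟩
      ((L2.nm_St (iI _ iL) (iI _ iM) (lg_step hΓ.pg (map_mono lM) (by omega)).1).inf
      (L2.nm_St (iI _ iK) (iI _ iL) (lg_step hΓ.pg (map_mono le_sup_left) (by omega)).1))
    refine key y' (fun e => hs (s2 s e)) fun b hb => ?_
    obtain ⟨a, ha⟩ := exists_inv_int hb
    obtain ⟨α, a1, a2, -, a3⟩ := s5 a b ha
    refine ⟨α, 1, e2 α a1.1.1 a2, (mem_map_iff_mem hκ).1 a3, fun u hu => (mem_map_iff_mem hκ).1 ?_,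
      fun u hu => (mem_map_iff_mem hκ).1 ?_, Or.inl (by simp)⟩
    · simpa using (mem_St.1 a1.1).2 u ⟨u, hu, rfl⟩
    · simpa using (mem_St.1 a1.2).2 u ⟨u, hu, rfl⟩
  refine key (ι y) (fun e => hs (hcz s fun u hu => ?_)) fun b hb => ?_
  · rw [eE] at hu
    have := mem_map_of_mem κ hu
    rw [Subgroup.map_sup, MonoidHom.map_zpowers] at this
    exact comm_sup (fun g hg => cm_mem (cm_symm (cm_top _)) hg trivial) e _ this
  obtain ⟨a, ha⟩ := exists_inv_int hb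
  obtain ⟨β, b1, b2, b3, b4⟩ := t5 a b ha
  obtain ⟨α, a1, a2⟩ := e1 β b1.1 b2
  have a3 : ∀ u ∈ C, α u = u := fun u hu => by
    obtain ⟨u, rfl⟩ := hC.i.le hu
    rw [a2, fx β b1 u hu]
  obtain ⟨l, hl⟩ := exists_wt (eL.le (iL α trivial _ hd))
  have := normal_of_inv le_top iL
  refine ⟨α, l, e2 α a1 (e4 α a1), hCM (by simpa [a2] using mem_comap.1 b4), fun u hu => ?_,
    fun u hu => wt_sup (iK α trivial) hl u (eL.le hu), Or.inr ?_⟩
  · rw [eq_sup L.pg hCM l4 d1 d2] at hu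
    exact mem_fixMod.1 ((sup_le (fun u hu => mem_fixMod.2 (by simp [a3 u hu]))
      (zpowers_le.2 (le_fixMod _ hd)) : _ ≤ fixMod α _ (iL α trivial)) hu)
  · have := dvd_sub_of_wt d2 (hC.w _ (xE d1)) (kC hl) (wt_sup (fun u hu => (a3 u hu).symm ▸ hu)
      (x := ι x) (a := a) (by simpa [a2] using mem_comap.1 b3) _ (eM.le d1))
    exact (dvd_add (this.mul_right b) ha).trans (dvd_of_eq (by ring))

variable {Ω : Type*} [Group Ω] {S : Subgroup Ω} {F : FusionSystem S} {E N : Subgroup Ω} [Finite S]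

theorem exists_move (hS : IsPGroup p S) (hE : E ≤ S) (hn : ¬ S ≤ normalizer (E : Set Ω)) :
    ∃ s : normalizerIn S (normalizerIn S E), s.1 ∉ normalizerIn S E := by
  obtain ⟨s, h1, h2⟩ := exists_mem_normalizerIn_not_mem hS (T := normalizerIn S E)
    (lt_of_le_of_ne (normalizerIn_le S E) fun e => hn fun x hx => (e.ge hx).2)
  exact ⟨⟨s, h1⟩, h2⟩

theorem mem_of_normAut (hE : E ≤ S) (g : normalizerIn S (normalizerIn S E))
    (h : ∀ x ∈ (inclusion (le_normalizerIn hE)).range,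
      normAut S _ g x ∈ (inclusion (le_normalizerIn hE)).range) : g.1 ∈ normalizerIn S E := by
  rw [inclusion_range] at h
  have := finite_of_le hE
  exact mem_normalizerIn_of_conj g.2.1 fun x hx => h ⟨x, le_normalizerIn hE hx⟩ hx

theorem norm_of_not_essential (hS : IsPGroup p S) (hF : F.IsSaturated p) (hlt : N < S)
    (hN : F.IsFullyNormalized N) (hi : N.relIndex (normalizerIn S N) = p) (hn : ¬ F.IsEssential p N) :
    ∀ α ∈ F.autGroup N, ∀ t ∈ autInducedBy S N, α * t * α⁻¹ ∈ autInducedBy S N := fun α hα => by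
  have := finite_mulAut hlt.le
  refine fun t ht => (mem_normalizer_iff.1 ((closure_le (normalizer (autInducedBy S N : Set _))).2
    (fun β hβ => mem_normalizer_fintype fun t ht => ?_)
    (not_not.1 (mt (essential_iff hS hF hlt hN).2 hn) hα)) t).1 ht
  obtain ⟨g, hg, rfl⟩ := exists_conjAut_eq ht
  obtain ⟨u, hu, hu'⟩ := SetLike.not_le_iff_exists.1 hβ.2
  obtain ⟨-, k, hk, e⟩ : g ∈ Nf S N (afn β) := (Grp.eq_top_of_index_prime hp.out hi
    (subgroupOf_mono _ ((mem_autGroup hlt.le).1 hβ.1).le_Nf) (x := ⟨u, hu.1⟩) hu' hu).ge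
    (mem_top (⟨g, hg⟩ : normalizerIn S N))
  refine mem_autInducedBy.2 ⟨k, hk, fun x hx => ?_⟩
  rw [afn_mul _ _ hx, afn_mul _ _ (afn_mem _ hx), afn_conjAut _ (afn_mem _ hx), e _ (afn_mem _ hx),
    afn_afn_inv _ hx]

theorem normal_of_rank_three (h : R3 p S) (hp5 : 5 ≤ p) (hF : F.IsSaturated p)
    (hE : F.IsEssential p E) (hΦ : (frattini E).index = p ^ 3) : S ≤ normalizer (E : Set Ω) := by
  by_contra hn
  wlog hN : F.IsFullyNormalized (normalizerIn S E) generalizing E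
  · obtain ⟨s, hs⟩ := exists_move h.pg hE.1.1 hn
    obtain ⟨f, hf, hf'⟩ := sat_exists_fullyNormalized_map h.pg hF (normalizerIn_le S E)
    have n1 := le_normalizerIn hE.1.1
    have n2 := le_normalizerIn (normalizerIn_le S E)
    have hfE := hf.mono (n1.trans n2)
    have hfin := finite_of_le (normalizerIn_le S (img E f))
    have e1 : img (normalizerIn S E) f ≤ normalizerIn S (img E f) := img_le_iff.2 fun x hx =>
      hf.mem_normalizerIn_img (n1.trans n2) (n2 hx) hx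
    have e2 := (hf.mono n2).card_img
    have e3 := hE.2.1.2 _ hfE.isConj
    have e4 := eq_of_le_of_card_ge e1 (e2 ▸ e3)
    obtain ⟨e, -⟩ := hfE.exists_isIso rfl
    refine this (essential_of_isConj hE hfE.isConj ⟨hfE.img_le, fun Q hQ => (hE.2.1.2 Q
      (isConj_trans hfE.isConj hQ)).trans (by rw [← e4, e2])⟩) (by
        rw [← hΦ, ← index_comap_of_surjective _ (f := e.toMonoidHom) e.surjective]
        congr 1
        exact le_antisymm (fun x hx => by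
          simpa using frattini_le_comap_frattini_of_surjective (φ := e.symm.toMonoidHom)
            e.symm.surjective hx) (frattini_le_comap_frattini_of_surjective e.surjective))
      (fun e => hs ?_) (e4 ▸ hf')
    obtain ⟨y, hy, e'⟩ := (hf.mono n2).mem_img.1 (e4.ge ⟨hf.mem s.2, e (hf.mem s.2)⟩)
    exact hf.injOn (n2 hy) s.2 e' ▸ hy
  obtain ⟨s, hs⟩ := exists_move h.pg hE.1.1 hn
  have n0 := normalizerIn_le S E
  have n1 := le_normalizerIn hE.1.1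
  have n2 := le_normalizerIn n0
  have := finite_of_le n0
  have := finite_of_le (normalizerIn_le S (normalizerIn S E))
  refine noext (r3_of_le h (normalizerIn_le S _)) hp5 (inclusion_injective n2) (normAut S _)
    (fun _ _ => rfl) (loc_of_essential h hF hE rfl n1) hΦ
    (fun g hg => ⟨⟨g, mem_of_normAut hE.1.1 g hg⟩, rfl⟩)
    (s := s) (fun ⟨y, e⟩ => hs (e ▸ y.2)) (fun β hβ => ext_norm' h.pg hF hE.1 rfl n1 hβ)
    (fun α hα e => (ext_norm' h.pg hF (isCentric_of_le hE.1 n1 n0) rfl n2 hα e).imp fun _ e => e.2)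
    fun hi => ?_
  by_cases e : F.IsEssential p (normalizerIn S E)
  · exact Or.inl (loc_of_essential h hF e rfl n2)
  · rw [Tg_eq rfl]
    exact Or.inr (norm_of_not_essential h.pg hF (lt_of_le_of_ne n0 fun e => hs (e.ge s.2.1)) hN
      (by rwa [inclusion_range] at hi) e)

theorem exists_pearl (h : R3 p S) (h2 : ¬ SectionalPRankLE p 2 S) (hp5 : 5 ≤ p)
    (hF : F.IsSaturated p) (hO : F.core = ⊥) : ∃ E : Subgroup Ω, F.IsEssential p E ∧
      ((IsElementaryAbelian p E ∧ Nat.card E = p ^ 2) ∨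
        (IsExtraspecial p E ∧ Nat.card E = p ^ 3 ∧ ∀ x ∈ E, x ^ p = 1)) := by
  by_cases hN : ∀ E, F.IsEssential p E → S ≤ normalizer (E : Set Ω)
  · obtain ⟨_, E, -, hE, -, i2, hs⟩ := all_normal h h2 hF hO hN
    have := finite_of_le hE.1.1
    have hc : Nat.card E = p ^ 3 := by
      have := (idx_step h.pg i2).1
      rw [← Nat.card_congr (subgroupOfEquivOfLe hE.1.1).toEquiv, card_lg h.pg,
        show lg p (E.subgroupOf S) = 3 by have := hs.l4; omega]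
    refine ⟨E, hE, Or.inr ?_⟩
    rcases (ess_of_essential h.pg hF hE).cube hc with ⟨e1, -⟩ | ⟨-, e1, e2⟩ | ⟨e1, -⟩
    · exact (hs.na (commutator_le.2 fun x hx y hy => commutatorElement_eq_one_iff_mul_comm.2
        (Subtype.ext (congrArg Subtype.val (e1 ⟨x, hx⟩ ⟨y, hy⟩) :)))).elim
    · exact ⟨e1, hc, fun x hx => congrArg Subtype.val (e2 ⟨x, hx⟩)⟩
    · omega
  push Not at hN
  obtain ⟨E, hE, hn⟩ := hN
  obtain ⟨s, hs⟩ := exists_move h.pg hE.1.1 hn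
  have := finite_of_le (normalizerIn_le S E)
  have L := loc_of_essential h hF hE rfl (le_normalizerIn hE.1.1)
  have h' := r3_of_le h (normalizerIn_le S E)
  obtain ⟨C, hC, hCZ⟩ := pu (by omega) _ h' L (normAut S _ s)
    (fun e => hs (mem_of_normAut hE.1.1 s fun x hx => e.le ⟨x, hx, rfl⟩)) (Nat.lt_succ_self _)
  refine ⟨E, hE, (L.pearl h' hC hCZ fun e => hn (normal_of_rank_three h hp5 hF hE e)).imp
    (fun e => ⟨⟨⟨⟨e.1.1⟩⟩, fun x hx => congrArg Subtype.val (e.1.2 ⟨x, hx⟩)⟩, e.2⟩)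
    fun e => ⟨e.1, e.2.1, fun x hx => congrArg Subtype.val (e.2.2 ⟨x, hx⟩)⟩⟩

end Cfsg.Agent.Fus.SR3
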