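import Mathlib
import Cfsg.Agent.Fus.SR3Fin

/-! Quotients and involutions for essential subgroups of index `p`. -/

set_option autoImplicit false
set_option linter.unusedSectionVars false
set_option linter.unusedVariables false

namespace Cfsg.Agent.Fus.SR3

open Subgroup Cfsg.Agent.Fus.AC Cfsg.Agent.Fus.P5
open scoped commutatorElement

variable {G H : Type*} [Group G] [Group H] {p : ℕ} [hp : Fact p.Prime] [Finite G] {ι : H →* G}
  {𝒜 𝒦 : Subgroup (MulAut H)} {C N U V Y K M : Subgroup G}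

theorem range_qmap (ι : H →* G) (N : Subgroup G) [N.Normal] :
    (QuotientGroup.map (N.comap ι) N ι le_rfl).range = ι.range.map (QuotientGroup.mk' N) := by
  ext x
  refine ⟨fun ⟨y, e⟩ => ?_, fun ⟨_, ⟨y, rfl⟩, e⟩ => ⟨y, e⟩⟩
  obtain ⟨y, rfl⟩ := QuotientGroup.mk_surjective y
  exact ⟨_, ⟨y, rfl⟩, e⟩

theorem I.pw (hι : Function.Injective ι) (h : I ι 𝒜 U) : I ι 𝒜 (closure ((· ^ p) '' U)) := by
  have := I.map hι (inv_closure (𝒜 := 𝒜) (s := (· ^ p) '' U.comap ι) (by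
    rintro a ha _ ⟨x, hx, rfl⟩; exact ⟨a x, h.ap ha hx, (map_pow _ _ _).symm⟩))
  rw [MonoidHom.map_closure] at this
  convert this using 2
  ext x
  refine ⟨fun ⟨y, hy, e⟩ => ?_, fun ⟨_, ⟨y, hy, rfl⟩, e⟩ => ⟨ι y, hy, (map_pow _ _ _).symm.trans e⟩⟩
  obtain ⟨y, rfl⟩ := h.le hy
  exact ⟨_, ⟨y, hy, rfl⟩, (map_pow _ _ _).trans e⟩

namespace Loc

variable (L : Loc p ι 𝒜)
include L

theorem quot' [N.Normal] (hN : I ι 𝒜 N) (hne : ∀ 𝒦, Nm ι 𝒜 𝒦 → (∀ τ ∈ 𝒦, (orderOf τ).Coprime p →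
    ∀ y, (ι y)⁻¹ * ι (τ y) ∈ N) → False) :
    ∃ ℬ, Loc p (QuotientGroup.map (N.comap ι) N ι le_rfl) ℬ ∧ (∀ C,
      I (QuotientGroup.map (N.comap ι) N ι le_rfl) ℬ C ↔ I ι 𝒜 (C.comap (QuotientGroup.mk' N))) ∧
      ∀ C, C.Normal → NI ι 𝒜 (C.comap (QuotientGroup.mk' N)) →
        NI (QuotientGroup.map (N.comap ι) N ι le_rfl) ℬ C := by
  have := L.fin
  obtain ⟨ρ, hρ⟩ := exists_quotHom hN.inv
  let φ : G →* _ := ρ.comp (L.cj.codRestrict 𝒜 L.cj_mem)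
  have hr := range_qmap ι N
  set f := QuotientGroup.map (N.comap ι) N ι le_rfl
  have hf : Function.Injective f := (injective_iff_map_eq_one f).2 fun x hx => by
    obtain ⟨x, rfl⟩ := QuotientGroup.mk_surjective x
    exact (QuotientGroup.eq_one_iff _).2 ((QuotientGroup.eq_one_iff (ι x)).1 hx)
  have hφ : ∀ x y, f (φ x y) = x * f y * (x : G ⧸ N)⁻¹ := fun x y => by
    obtain ⟨y, rfl⟩ := QuotientGroup.mk_surjective y
    exact (congrArg f (hρ _ y)).trans (congrArg QuotientGroup.mk (L.cj_ap x y))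
  have hT : Tg f = φ.range := by
    ext t
    refine ⟨fun ⟨g, hg⟩ => ?_, fun ⟨g, hg⟩ => ⟨g, hg ▸ hφ g⟩⟩
    obtain ⟨g, rfl⟩ := QuotientGroup.mk_surjective g
    exact ⟨g, MulEquiv.ext fun y => hf (by rw [hφ, hg])⟩
  have hin : ∀ x, φ (ι x) = MulAut.conj (x : H ⧸ N.comap ι) := fun x =>
    MulEquiv.ext fun y => hf (by simp [hφ, f])
  have hI : Inn (H ⧸ N.comap ι) ≤ φ.range := by
    rintro _ ⟨x, rfl⟩
    obtain ⟨x, rfl⟩ := QuotientGroup.mk_surjective x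
    exact ⟨_, hin x⟩
  have hle : φ.range ≤ ρ.range := by rintro _ ⟨g, rfl⟩; exact ⟨_, rfl⟩
  have hs := L.img ρ φ fun _ => rfl
  have k1 : (φ.range.comap ρ).map 𝒜.subtype ≤ 𝒜 := map_subtype_le _
  have k2 : Tg ι ≤ (φ.range.comap ρ).map 𝒜.subtype := fun t ht => by
    obtain ⟨g, rfl⟩ := L.mem_T.1 ht; exact ⟨⟨_, L.cj_mem g⟩, ⟨g, rfl⟩, rfl⟩
  have k3 : ∀ α : 𝒜, (∀ t ∈ φ.range, ρ α * t * (ρ α)⁻¹ ∈ φ.range) → ∀ κ ∈ (φ.range.comap ρ).map
      𝒜.subtype, α.1 * κ * α.1⁻¹ ∈ (φ.range.comap ρ).map 𝒜.subtype := by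
    rintro α h _ ⟨κ, hκ, rfl⟩
    exact ⟨α * κ * α⁻¹, by simpa using h _ hκ, rfl⟩
  have hnn : ∀ g, g ∉ ι.range → (∀ a ∈ ρ.range, a * φ g * a⁻¹ ∈ φ.range) → False := fun g hg h => by
    refine hne _ ⟨k1, k2, fun α hα => k3 ⟨α, hα⟩ ?_⟩ ?_
    · rintro _ ⟨x, rfl⟩
      exact (L.eq_top (K := (φ.range.comap (MulAut.conj (ρ ⟨α, hα⟩)).toMonoidHom).comap φ) (by
        rintro _ ⟨y, rfl⟩; exact hI (conj_mem_inn _ ⟨_, (hin y).symm⟩)) hg (h _ ⟨_, rfl⟩)).ge (mem_top x)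
    · rintro _ ⟨τ, hτ, rfl⟩ hc y
      obtain ⟨k, hk⟩ := exists_pow_of_mem (hs.isPGroup hle) hτ
      have e : ρ τ = 1 := orderOf_eq_one_iff.1 (Nat.eq_one_of_dvd_coprimes ((orderOf_coe τ ▸ hc).pow_right k)
        (orderOf_map_dvd ρ τ) (orderOf_dvd_of_pow_eq_one hk))
      simpa using QuotientGroup.eq.1 ((hρ _ y).symm.trans (by rw [e]; rfl)).symm
  refine ⟨ρ.range, ⟨L.pg.to_quotient N, hf, ?_, ⟨⟨hI.trans hle, fun K k1 k2 k3 t ht => ?_⟩, ?_⟩,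
    hT ▸ hle, hT ▸ hs⟩, fun C => ⟨fun hC => ⟨fun x hx => ?_, fun α hα x hx => ?_⟩,
    fun hC => ⟨fun x hx => ?_, ?_⟩⟩, fun C _ hC => ?_⟩
  · rw [hr, index_map_eq _ (QuotientGroup.mk'_surjective N)
      ((QuotientGroup.ker_mk' N).le.trans hN.le), L.idx]
  · have k4 : K ≤ φ.range := fun κ hκ => by
      obtain ⟨a, ha, e⟩ := hs.exists_conj k1 k2
      simpa [mul_assoc] using e _ (k3 _ (inv_mem ha) κ hκ)
    obtain ⟨g, rfl⟩ := k4 ht
    by_cases hg : g ∈ ι.range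
    · obtain ⟨x, rfl⟩ := hg; exact ⟨x, (hin x).symm⟩
    exact (hnn g hg fun a ha => k4 (k3 a ha _ ht)).elim
  · obtain ⟨g, -, hg⟩ := exists_of_lg L.pg (U := ι.range) (V := ⊤) (by have := L.lg_top; omega)
    exact ⟨φ g, hle ⟨g, rfl⟩, fun e => hnn g hg fun a _ => hI (conj_mem_inn a e), _,
      by rw [← map_pow, (L.pg g).choose_spec, map_one]⟩
  · have := hC.le hx
    rwa [hr, ← mem_comap, comap_map_eq_self ((QuotientGroup.ker_mk' N).le.trans hN.le)] at this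
  · have := hC.ap (α := ρ ⟨α, hα⟩) ⟨_, rfl⟩ (x := x) hx
    rwa [hρ] at this
  · obtain ⟨x, rfl⟩ := QuotientGroup.mk_surjective x
    exact hr.ge ⟨x, hC.le hx, rfl⟩
  · rintro _ ⟨α, rfl⟩ x hx
    obtain ⟨x, rfl⟩ := QuotientGroup.mk_surjective x
    rw [hρ]; exact hC.ap α.2 hx
  · rintro _ ⟨α, rfl⟩ h x hx
    obtain ⟨x, rfl⟩ := QuotientGroup.mk_surjective x
    obtain ⟨_, ⟨n, ⟨g, hg⟩, rfl⟩, e⟩ := (L.syl.of_le k2 k1).frattini k2 (g := α)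
      (mem_normalizer_fintype (k3 α (hT ▸ h)))
    have e1 := hC _ (mul_mem n.2 α.2) (fun t ht => (mem_normalizer_iff.1 e t).1 ht) x hx
    have e2 := hφ g (ρ α x)
    rw [hg, ← MulAut.mul_apply, ← map_mul, hρ (n * α)] at e2
    change f ((n * α).1 x : H) ∈ C at e1
    rw [e2] at e1
    simpa [mul_assoc] using Normal.conj_mem ‹_› _ e1 (g : G ⧸ N)⁻¹

theorem negc (ho : Odd p) (h : Nm ι 𝒜 𝒦) (hV : I ι 𝒜 V) (hY : I ι 𝒜 Y) (h1 : V ≤ U) (h2 : U ≤ Y)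
    [U.Normal] (l1 : lg p U = lg p V + 1) (l2 : lg p Y = lg p V + 2) (hc : ⁅Y, Y⁆ ≤ V)
    (he : ∀ y ∈ Y, y ^ p ∈ V) (h3 : NI ι 𝒜 U) (h4 : ¬ I ι 𝒜 U) :
    ∃ τ ∈ 𝒦, (orderOf τ).Coprime p ∧ ∀ y, ι y ∈ Y → ι y * ι (τ y) ∈ V := by
  have := L.fin
  have := L.normal hV
  obtain ⟨σ, s1, s3⟩ := L.neg h hV hY h1 h2 l1 l2 hc he h3 h4
  obtain ⟨k, hk⟩ := PLocal.Amb.exists_pow_coprime (p := p) σ
  obtain ⟨m, hm⟩ := ho.pow (n := k)
  have hσ := h.le s1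
  have s4 : σ ^ 2 ∈ St hV hY := mem_St.2 ⟨pow_mem hσ 2, fun y hy => by
    have := mul_mem (Normal.conj_mem inferInstance _ (inv_mem (s3 y hy)) (ι y)⁻¹)
      (s3 _ (hY.ap hσ hy))
    simpa [sq, mul_assoc] using this⟩
  refine ⟨_, pow_mem s1 _, hk, fun y hy => ?_⟩
  have := mul_mem (s3 y hy) (hV.ap hσ (x := y⁻¹ * ((σ ^ 2) ^ m) y) (by
    simpa using (mem_St.1 (pow_mem s4 m)).2 y hy))
  simpa [hm, pow_succ' σ (2 * m), pow_mul, mul_assoc] using this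

theorem kappa (ho : Odd p) (hZ : lg p (Zo p G) ≤ 1) (hN : I ι 𝒜 N) (hc : ⁅ι.range, N⁆ ≤ ⊥)
    (hZN : Zo p G ≤ N) {τ : MulAut H} (h0 : τ ∈ 𝒜) (h1 : (orderOf τ).Coprime p)
    (h2 : ∀ y, ι y ∈ N → ι y * ι (τ y) ∈ (⊥ : Subgroup G)) (h3 : ∀ y, (ι y)⁻¹ * ι (τ y) ∈ N) :
    ι.range ≤ N := by
  have := L.fin
  have k0 : ∀ y, ι y ∈ N → τ y = y⁻¹ := fun y hy =>
    L.inj (by rw [map_inv]; exact eq_inv_of_mul_eq_one_right (h2 y hy))
  have k1 : ∀ y, ι y ∈ N → τ y = y → y = 1 := fun y hy e => by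
    obtain ⟨k, hk⟩ := L.pgH y
    obtain ⟨m, hm⟩ := ho.pow (n := k)
    rwa [hm, pow_succ, pow_mul, sq, eq_inv_iff_mul_eq_one.1 (e.symm.trans (k0 y hy)), one_pow,
      one_mul] at hk
  have k2 : ∀ y, ι y ∈ N → ∀ x, x * y = y * x := fun y hy x => L.inj (by
    rw [map_mul, map_mul]; exact commutatorElement_eq_one_iff_mul_comm.1 (cm_mem hc ⟨x, rfl⟩ hy))
  have k3 : ∀ x, τ x = x * (x⁻¹ * τ x) := fun x => by simp
  have k4 : ∀ x, x⁻¹ * τ x ∈ N.comap ι := fun x => by simpa using h3 x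
  have hI : Inv 𝒜 (fix₁ τ) := fun α hα x hx => by
    have hs : ∀ y, y⁻¹ * (τ⁻¹ * (α * τ * α⁻¹)) y ∈ N.comap ι := fun y => by
      have := mul_mem (inv_mem (hN.inv _ (inv_mem h0) _ (k4 y)))
        (hN.inv _ (inv_mem h0) _ (hN.inv _ hα _ (k4 (α⁻¹ y))))
      simpa only [map_mul τ⁻¹, map_mul α, map_inv, MulAut.apply_inv_self, MulAut.inv_apply_self,
        mul_inv_rev, inv_inv, mul_assoc, mul_inv_cancel_left, MulAut.mul_apply] using this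
    obtain ⟨z, hz⟩ := L.ess.mem_inn_of_two L.pgH hN.inv (mul_mem (inv_mem h0) (mul_mem
      (mul_mem hα h0) (inv_mem hα))) hs fun y hy => by
      simp only [MulAut.mul_apply]
      rw [k0 _ (hN.ap (inv_mem hα) hy), map_inv, MulAut.apply_inv_self,
        show τ⁻¹ y⁻¹ = y by rw [← k0 y hy]; simp, inv_mul_cancel]
      exact one_mem _
    have e : ⁅(α x)⁻¹, z⁆ = 1 := k1 _ (by
      have := hs (α x)
      rw [← hz] at this
      simpa [commutatorElement_def, mul_assoc] using this) (by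
      rw [map_commutatorElement, k3 z, k3 (α x)⁻¹]
      generalize (α x)⁻¹ = w
      have e1 := k2 _ (k4 z)
      have e2 := k2 _ (k4 w)
      generalize z⁻¹ * τ z = a at e1
      generalize w⁻¹ * τ w = b at e2
      simp only [commutatorElement_def, mul_inv_rev]
      calc _ = w * (b * (z * a) * b⁻¹) * w⁻¹ * a⁻¹ * z⁻¹ := by group
        _ = w * z * (a * w⁻¹ * a⁻¹) * z⁻¹ := by rw [← e2, mul_inv_cancel_right]; group
        _ = _ := by rw [← e1, mul_inv_cancel_right])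
    have e1 := congrArg (fun β : MulAut H => τ (β (α x))) hz
    simp only [MulAut.mul_apply, MulAut.inv_apply_self, MulAut.apply_inv_self, mem_fix₁.1 hx,
      MulAut.conj_apply] at e1
    rwa [← (Commute.inv_left_iff.1 (commutatorElement_eq_one_iff_commute.1 e)).eq,
      mul_inv_cancel_right] at e1
  have := L.normal (I.map L.inj hI)
  rintro _ ⟨x, rfl⟩
  obtain ⟨c, c1, c2⟩ := exists_fixed_of_coset₁ h1 (L.pgH.to_subgroup _) (hN.inv τ h0) (k4 x)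
  by_cases e : (fix₁ τ).map ι ≤ ⊥
  · simpa [mem_bot.1 (e ⟨c, c1, rfl⟩)] using c2
  obtain ⟨u, ⟨y, hy, rfl⟩, u1, u2⟩ := exists_Zo L.pg e
  exact (u1 (by rw [k1 y (hZN u2) hy, map_one])).elim

theorem neg2 (h : R3 p G) (h𝒦 : Nm ι 𝒜 𝒦) (hM : I ι 𝒜 M) (hl : lg p ι.range = lg p M + 1) :
    ¬ M ≤ (frattini H).map ι ∧ ∃ τ ∈ 𝒦, (orderOf τ).Coprime p ∧
      ∀ y, ι y ∈ M → ι y * ι (τ y) ∈ (frattini H).map ι := by
  have := L.fin
  have := L.nor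
  have := L.normal hM
  have hF := I.map L.inj (inv_of_char 𝒜 (frattini H))
  have := L.normal hF
  have l1 := lg_comap (p := p) L.inj hM.le
  have l2 := lg_range (p := p) L.inj
  have l3 : lg p ((frattini H).map ι) = lg p (frattini H) := by
    rw [lg, lg, card_map_of_injective L.inj]
  have l4 := (L.r3H h).sec (X := ⊤) (Grp.PFrattini.commutator_le_frattini L.pgH)
    fun x _ => Grp.PFrattini.pow_mem_frattini L.pgH x
  have i1 : (M.comap ι).index = p := by rw [← pow_one p]; exact (lg_of_index L.pgH).2 (by omega)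
  obtain ⟨-, c1, c2⟩ := idx_step L.pgH i1
  have f1 : frattini H ≤ M.comap ι := Grp.PFrattini.frattini_le c1 c2
  have dv : ∀ {A B : Subgroup H}, A ≤ B → lg p B ≤ lg p A + 1 → A.relIndex B ∣ p := fun {A B} e1 e2 => by
    have := lg_mono (p := p) e1
    rw [relIndex_lg L.pgH e1 (k := lg p B - lg p A) (by omega)]
    exact (pow_dvd_pow p (by omega)).trans (pow_one p).dvd
  have l5 : lg p M = lg p (frattini H) + 2 := by
    by_contra e; exact L.ess.not_flag_two L.pgH hM.inv i1.dvd (dv f1 (by omega))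
  have f2 : (frattini H).map ι ≤ M := map_le_iff_le_comap.2 f1
  refine ⟨fun e => by have := lg_mono (p := p) e; omega, ?_⟩
  obtain ⟨U, _, u1, u2, u3⟩ := exists_between L.pg f2 (by omega)
  have l6 := lg_comap (p := p) L.inj (u2.trans hM.le)
  refine L.negc h.odd h𝒦 hF hM u1 u2 u3 (by omega) (commutator_le.2 fun x hx y hy => ?_)
    (fun x hx => ?_) (fun α hα hn x hx => ?_) fun e => L.ess.not_flag_three L.pgH e.inv hM.inv i1.dvd
    (dv (comap_mono u2) (by omega)) (dv (map_le_iff_le_comap.1 u1) (by omega))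
  · obtain ⟨x, rfl⟩ := hM.le hx
    obtain ⟨y, rfl⟩ := hM.le hy
    exact ⟨_, Grp.PFrattini.commutator_le_frattini L.pgH (commutator_mem_commutator trivial trivial),
      map_commutatorElement _ _ _⟩
  · obtain ⟨x, rfl⟩ := hM.le hx
    exact ⟨_, Grp.PFrattini.pow_mem_frattini L.pgH x, map_pow _ _ _⟩
  by_contra e
  have c3 := (lg_step L.pg u1 u3.le).1
  obtain ⟨g, -, hg⟩ := exists_of_lg L.pg (U := ι.range) (V := ⊤) (by have := L.lg_top; omega)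
  refine hg (L.mem_of_inn (L.ess.mem_inn_of_two L.pgH hM.inv (L.cj_mem g) (fun y => ?_) fun y hy => ?_))
  · rw [mem_comap, L.cj_cm]
    exact cm_mem (cm_symm (lg_step L.pg hM.le hl.le).1) (ι.range.inv_mem ⟨y, rfl⟩) trivial
  rw [← mem_map_iff_mem L.inj, L.cj_cm, cm_inv]
  refine comm_sup (fun u hu => cm_mem (cm_symm c3) hu trivial) ?_ _
    ((eq_sup L.pg u2 (by omega) (hM.ap hα (u2 hx)) e).le hy)
  obtain ⟨g', e'⟩ := L.mem_T.1 ((mem_normalizer_iff.1 (inv_mem (mem_normalizer_fintype hn)) _).1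
    (L.cj_T g))
  have := hF.ap hα (x := x⁻¹ * L.cj g' x) (by
    rw [L.cj_cm]; exact cm_mem (cm_symm c3) (inv_mem hx) trivial)
  rw [← cm_inv, ← L.cj_cm]
  simpa [e'] using this

theorem irr (h : R3 p G) {E' : Subgroup G} (hs : SP p ι.range E') (hn : ¬ I ι 𝒜 (Zo p G))
    (hK : I ι 𝒜 K) : K ≤ ⊥ ∨ ι.range ≤ K := by
  have := L.fin
  have := L.nor
  have := L.normal hK
  by_contra! e
  have l1 := (lg_mono (p := p) (Zo_le (p := p) (G := G))).trans hs.l1.le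
  have hZ := Zo_le_of_normal L.pg l1 e.1
  have l2 := lg_lt L.pg hZ fun e => hn (le_antisymm e hZ ▸ hK)
  have l3 := lg_lt L.pg hK.le e.2
  have l4 := L.lg_top
  have l5 := hs.l4
  have l6 := L.lg_Zo
  obtain ⟨-, τ, t1, t2, t3⟩ := L.neg2 h (L.nm_St hK I.top (lg_step L.pg hK.le (by omega)).1) hK
    (by omega)
  refine e.2 (L.kappa h.odd l1 hK (cm_mono hs.el.cm le_rfl hK.le) hZ t1.1 t2 (fun y hy =>
    map_le_iff_le_comap.2 (Grp.PFrattini.frattini_le (p := p) (commutator_le.2 fun a _ b _ => ?_)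
      fun a => ?_) (t3 y hy)) fun y => (mem_St.1 t1).2 y ⟨y, rfl⟩)
  · rw [mem_comap, map_commutatorElement]; exact cm_mem hs.el.cm ⟨a, rfl⟩ ⟨b, rfl⟩
  · rw [mem_comap, map_pow]; exact hs.el.pw _ ⟨a, rfl⟩

theorem sq_irr (h : R3 p G) (hC : Sq p ι 𝒜 C) (hK : I ι 𝒜 K) (hCK : C ≤ K) :
    K ≤ C ∨ ι.range ≤ K := by
  by_contra! e
  have := L.nor
  have := L.normal hK
  have := L.normal hC.i
  have l1 := lg_lt L.pg hCK e.1
  have l2 := lg_lt L.pg hK.le e.2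
  have l3 := hC.l
  obtain ⟨β, ⟨b1, b2⟩, -, b3⟩ := L.neg' h hC ((L.nm_St hK I.top
    (lg_step L.pg hK.le (by omega)).1).inf (L.nm_St hK hK (cm_top K)))
  refine e.2 ?_
  rintro _ ⟨y, rfl⟩
  refine mem_of_sq h.odd (hCK (hC.w _ ⟨y, rfl⟩)) ?_
  simpa [mul_assoc] using mul_mem (hCK (b3 y)) (inv_mem ((mem_St.1 b1).2 y ⟨y, rfl⟩))

theorem lift2 (h : R3 p G) (hC : Sq p ι 𝒜 C) (hN : I ι 𝒜 N) (hNZ : N ≤ center G)
    (hc : ⁅(⊤ : Subgroup G), C⁆ ≤ N) : ⁅ι.range, C⁆ ≤ ⊥ := by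
  have h𝒦 := (L.nm_St hN hC.i hc).inf (L.nm_St (I.bot L.inj) hN (cm_center.2 hNZ))
  obtain ⟨x, y, -, -, t3, -⟩ := L.tor h hC h𝒦
  obtain ⟨β, hβ, -, b1⟩ := L.neg' h hC h𝒦
  have k3 : ∀ e, ∀ c ∈ C, ⁅c, ι (e⁻¹ * β e)⁆ = 1 := fun e c hc' => by
    obtain ⟨c, rfl⟩ := hC.i.le hc'
    have e1 := Subgroup.mem_center_iff.1 (hNZ ((mem_St.1 hβ.1).2 c hc'))
    have e2 := (inv_mul_eq_one.1 ((mem_St.1 hβ.2).2 ⁅e, c⁆ (by
      rw [map_commutatorElement]; exact cm_mem hc trivial hc'))).symm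
    rw [map_commutatorElement, map_commutatorElement, map_commutatorElement,
      ← mul_inv_cancel_left (ι c) (ι (β c))] at e2
    generalize (ι c)⁻¹ * ι (β c) = z at e1 e2
    rw [commutatorElement_def, commutatorElement_def, ← mul_assoc, mul_assoc _ z, ← e1,
      mul_inv_rev] at e2
    rw [commutatorElement_eq_one_iff_mul_comm, map_mul, map_inv]
    calc ι c * ((ι e)⁻¹ * ι (β e)) = (ι e)⁻¹ * (ι e * ι c * (ι e)⁻¹ * (ι c)⁻¹) * ι c * ι (β e) := by group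
      _ = _ := by rw [← e2]; group
  exact h.r1 hC.i.le hC.c hC.w hC.l.ge ⟨_, rfl⟩ ⟨_, rfl⟩ (L.gen_neg h hC b1 t3) (k3 x) (k3 y)

end Loc

end Cfsg.Agent.Fus.SR3
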