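import Mathlib
import Cfsg.Agent.Fus.SR3Tq

/-! Local configurations of two essential subgroups of index `p`. -/

set_option autoImplicit false
set_option linter.unusedSectionVars false
set_option linter.unusedVariables false

namespace Cfsg.Agent.Fus.SR3

open Subgroup Cfsg.Agent.Fus.AC Cfsg.Agent.Fus.P5
open scoped commutatorElement

variable {G H H' : Type*} [Group G] [Group H] [Group H'] {p : ℕ} [hp : Fact p.Prime] [Finite G]
  {ι : H →* G} {ι' : H' →* G} {𝒜 𝒦 : Subgroup (MulAut H)} {𝒜' : Subgroup (MulAut H')}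
  {C N U V Y K M : Subgroup G}

theorem rot {A B X X' : Subgroup G} (h1 : ⁅B, C⁆ ≤ X) (h2 : ⁅A, X⁆ ≤ ⊥) (h3 : ⁅A, C⁆ ≤ X')
    (h4 : ⁅B, X'⁆ ≤ ⊥) : ⁅⁅A, B⁆, C⁆ ≤ ⊥ := (commutator_commutator_eq_bot_of_rotate
  (le_bot_iff.1 (cm_symm (cm_mono h2 le_rfl h1)))
  (le_bot_iff.1 (cm_symm (cm_mono h4 le_rfl (cm_symm h3))))).le

theorem lg_comap_mk (hG : IsPGroup p G) [N.Normal] (C : Subgroup (G ⧸ N)) :
    lg p (C.comap (QuotientGroup.mk' N)) = lg p N + lg p C := by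
  refine lg_of_relIndex hG (fun x hx => ?_) ?_
  · rw [mem_comap, QuotientGroup.mk'_apply, (QuotientGroup.eq_one_iff x).2 hx]; exact one_mem _
  · have e := relIndex_ker (C.comap (QuotientGroup.mk' N)) (QuotientGroup.mk' N)
    rw [QuotientGroup.ker_mk', map_comap_eq_self_of_surjective (QuotientGroup.mk'_surjective N)] at e
    rw [e, card_lg (hG.to_quotient N)]

theorem eq_one_of_sq (ho : Odd p) {q : G} (e1 : q ^ p = 1) (e2 : q * q = 1) : q = 1 :=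
  mem_of_sq (B := ⊥) ho e1 e2

namespace Loc

variable (L : Loc p ι 𝒜)
include L

theorem exists_out : ∃ g, g ∉ ι.range := by
  obtain ⟨g, -, hg⟩ := exists_of_lg L.pg (U := ι.range) (V := ⊤) (by have := L.lg_top; omega)
  exact ⟨g, hg⟩

theorem cm_out {A : Subgroup G} [A.Normal] (h : ⁅ι.range, K⁆ ≤ A) {E : Subgroup G}
    (hE : ¬ E ≤ ι.range) (h' : ⁅E, K⁆ ≤ A) : ⁅(⊤ : Subgroup G), K⁆ ≤ A := by
  obtain ⟨g, hg, hg'⟩ := SetLike.not_le_iff_exists.1 hE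
  exact L.eq_top (K := ι.range ⊔ E) le_sup_left hg' (mem_sup_right hg) ▸ cm_sup' h h'

theorem fix_step (hV : I ι 𝒜 V) {τ : MulAut H} (h0 : τ ∈ 𝒜) (hc : (orderOf τ).Coprime p)
    (h1 : ∀ v, ι v ∈ V → τ v = v) {y : H} (h2 : (ι y)⁻¹ * ι (τ y) ∈ V) : τ y = y := by
  have := L.fin
  obtain ⟨c, c1, c2⟩ := exists_fixed_of_coset₁ hc (L.pgH.to_subgroup (V.comap ι)) (hV.inv τ h0)
    (g := y) (by simpa using h2)
  have := h1 _ c2
  rwa [map_mul, map_inv, c1, mul_left_inj, inv_inj] at this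

theorem fix_bot (hV : I ι 𝒜 V) {τ : MulAut H} (h : τ ∈ St (I.bot L.inj) hV) (v : H) (hv : ι v ∈ V) :
    τ v = v := L.inj (inv_mul_eq_one.1 ((mem_St.1 h).2 v hv)).symm

theorem hne_chain (hN : I ι 𝒜 N) (hV : I ι 𝒜 V) (c1 : ⁅(⊤ : Subgroup G), V⁆ ≤ N)
    (c2 : ⁅(⊤ : Subgroup G), N⁆ ≤ ⊥) (𝒦 : Subgroup (MulAut H)) (h : Nm ι 𝒜 𝒦)
    (h1 : ∀ τ ∈ 𝒦, (orderOf τ).Coprime p → ∀ y, (ι y)⁻¹ * ι (τ y) ∈ V) : False := by
  have := L.fin
  have h' := h.inf ((L.nm_St hN hV c1).inf (L.nm_St (I.bot L.inj) hN c2))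
  exact L.T_not_le (h'.tle.trans (L.ess.le_inn _ (isPGroup_of_coprime fun τ hτ hc =>
    MulEquiv.ext fun y => L.fix_step hV (h.le hτ.1) hc (fun v hv => L.fix_step hN (h.le hτ.1) hc
      (L.fix_bot hN hτ.2.2) ((mem_St.1 hτ.2.1).2 v hv)) (h1 τ hτ.1 hc y)) h'.le h'.cj))

theorem hh_not (hH : HH p G) : ¬ I ι 𝒜 (Zo p G) := fun hZ => by
  obtain ⟨z, z1, z2, z3, -⟩ := exists_z ((lg_of_index L.pg).2 hH)
  obtain ⟨g, hg⟩ := L.exists_out
  exact hg (L.rad2 hZ (fun x _ => zpowers_le.2 (⟨z2, z1 ▸ pow_orderOf_eq_one z⟩ : z ∈ Zo p G) (z3 x g))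
    fun x hx => cm_mem (cm_symm (SR3.cm_Zo ⊤ ⊥)) hx trivial)

theorem sq_max (h : R3 p G) (hC : Sq p ι 𝒜 C) (hc : C ≤ center G) (hK : I ι 𝒜 K)
    (hk : K ≤ center G) : K ≤ C := by
  obtain ⟨g, hg⟩ := L.exists_out
  exact (L.sq_irr h hC (hC.i.sup L.inj hK) le_sup_left).elim le_sup_right.trans fun e =>
    (hg (L.cen_le fun x hx => cm_mem (cm_symm (cm_center.2 le_rfl)) (sup_le hc hk (e hx)) trivial)).elim

theorem sq_cm (hC : Sq p ι 𝒜 C) (hc : C ≤ center G) : ¬ commutator G ≤ C := fun e => by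
  obtain ⟨g, hg⟩ := L.exists_out
  exact hg (L.rad2 hC.i (fun x _ => e (commutator_mem_commutator trivial trivial))
    fun x hx => cm_mem (cm_symm (cm_center.2 hc)) hx trivial)

theorem hh_le (h : R3 p G) (L' : Loc p ι' 𝒜') (hH : HH p G) {D : Subgroup G} (hC : Sq p ι 𝒜 C)
    (hD : Sq p ι' 𝒜' D) (c : C ≤ center G) (d : D ≤ center G) (n1 : NI ι 𝒜 D)
    (n2 : NI ι 𝒜 (commutator G)) : D ≤ C := by
  by_contra e
  obtain ⟨z, z1, z2, z3, -⟩ := exists_z ((lg_of_index L.pg).2 hH)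
  have hK : commutator G ≤ zpowers z := commutator_le.2 fun a _ b _ => z3 a b
  have hKZ := hK.trans (zpowers_le.2 z2)
  have l1 := (lg_mono (p := p) hK).trans (lg_zp L.pg (z1 ▸ pow_orderOf_eq_one z))
  have l2 := lg_lt L.pg (inf_le_left (a := commutator G) (b := D))
    fun e => L'.sq_cm hD d (e.trans inf_le_right)
  have k1 := le_of_lg L.pg (bot_le (a := commutator G ⊓ D)) (by rw [lg_bot]; omega)
  have l3 := lg_lt L.pg (le_sup_left : C ≤ C ⊔ D) fun e' => e (le_sup_right.trans e')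
  have k2 := le_of_lg L.pg (sup_le c d) (by
    have := L.lg_top; have := hC.l; unfold HH at hH; omega)
  obtain ⟨β, b1, b2, b3⟩ := L.neg' h hC (L.nm_St (I.bot L.inj) hC.i (cm_center.2 c))
  have := normal_of_le_center' d
  obtain ⟨u, hu, hu'⟩ := SetLike.not_le_iff_exists.1 (L.sq_cm hC c)
  obtain ⟨u, rfl⟩ := L.center_le (hKZ hu)
  have k3 : (C ⊔ D).comap ι ≤ fixMod β (D.comap ι) (n1 β b1.1 b2) := by
    rw [← comap_sup_eq_of_le_range ι hC.i.le (d.trans L.center_le)]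
    exact sup_le (fun x hx => mem_fixMod.2 (by simp [L.fix_bot hC.i b1 x hx])) (le_fixMod _)
  have k4 := k1 ⟨(commutator G).mul_mem (inv_mem hu) (n2 β b1.1 b2 u hu), by
    simpa using mem_fixMod.1 (k3 (k2 (hKZ hu)))⟩
  have k5 := mem_comap.1 (b3 u)
  rw [map_mul, ← inv_mul_eq_one.1 k4] at k5
  exact hu' (mem_of_sq h.odd (hC.w _ ⟨u, rfl⟩) k5)

theorem no_sp (h : R3 p G) (hN : I ι 𝒜 N) (hZ : N ≤ Zo p G) (l0 : 0 < lg p N)
    (l1 : lg p (⊤ : Subgroup G) = lg p N + 4) (c1 : ⁅ι.range, ι.range⁆ ≤ N)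
    (c2 : ∀ x ∈ ι.range, x ^ p ∈ N) (l2 : lg p (cz (⊤ : Subgroup G) N) = lg p N + 1)
    (irr : ∀ K, I ι 𝒜 K → N ≤ K → K ≤ N ∨ ι.range ≤ K) : False := by
  have := L.nor
  have := L.normal hN
  have l3 := L.lg_top
  have c0 : ∀ A : Subgroup G, ⁅A, N⁆ ≤ ⊥ := fun A => cm_mono (SR3.cm_Zo A ⊥) le_rfl hZ
  have w1 : ⁅(⊤ : Subgroup G), cz (⊤ : Subgroup G) N⁆ ≤ N := le_cz.1 le_rfl
  have w2 : ∀ A, ⁅(⊤ : Subgroup G), A⁆ ≤ N → A ≤ cz (⊤ : Subgroup G) N := fun A => le_cz.2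
  generalize cz ((⊤ : Subgroup G) : Set G) N = W at *
  have hNW := w2 N (cm_top N)
  have := normal_of_cm (w1.trans hNW)
  have hWE : W ≤ ι.range := fun w hw => L.rad2 hN (fun x _ => cm_mem w1 trivial hw)
    fun x hx => cm_mem (cm_symm (c0 ⊤)) hx trivial
  obtain ⟨Y, _, y1, y2, y3⟩ := exists_between L.pg hWE (by omega)
  have c3 := (lg_step L.pg y1 y3.le).1
  have c4 := (lg_step L.pg y2 (by omega)).1
  rcases irr _ (I.top.cz (I.bot L.inj)) (le_inf hN.le (le_cz.2 (c0 _))) with e | e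
  · obtain ⟨g, hg⟩ := L.exists_out
    obtain ⟨k, hk, hk'⟩ : ∃ k ∈ ι.range, ⁅k, g⁆ ∉ W := by
      by_contra! e'
      have m1 := lg_cm L.pg hNW e'
      have m2 := lg_mono (p := p) (w2 (ι.range ⊓ cm N g) (L.cm_out (cm_mono c1 le_rfl inf_le_left)
        (zpowers_le.not.2 hg) (cm_symm (cm_zp fun k hk => mem_cm.1 hk.2))))
      omega
    have t1 := rot (cm_mono w1 le_top le_rfl) (c0 ⊤) w1 (c0 ι.range)
    obtain ⟨w, hw, hw'⟩ := exists_of_lg L.pg (U := N) (V := W) (by omega)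
    have t2 := two_gen (a := w) (b := w) ((eq_sup L.pg hNW l2.le hw hw').le.trans le_sup_left) hNW
      hw hw le_normalizer_of_normal (c0 W) (by simp)
    have t3 : ⁅Y, Y⁆ ≤ ⊥ := by
      rw [eq_sup L.pg y1 y3.le (cm_mem (cm_symm c4) hk trivial) hk']
      exact commutator_le.2 (comm_sup₂ (commutator_le.1 t2) fun u hu => cm_mem (cm_symm t1) hu
        (cm_mem (cm_symm le_rfl) hk trivial))
    have := lg_mono (p := p) (w2 Y ((le_inf ((cm_top Y).trans y2) (le_cz.2 (cm_symm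
      (rot (cm_mono c1 y2 le_rfl) (c0 ⊤) c4 t3)))).trans e))
    omega
  have c5 : ⁅ι.range, ι.range⁆ ≤ ⊥ := le_cz.1 (e.trans inf_le_right)
  rcases irr _ (I.top.om (I.bot L.inj) (reg_of_comm c5)) (fun x hx => ⟨hN.le hx, (hZ hx).2⟩) with e | e
  · have := lg_mono (p := p) (w2 ι.range (cm_symm (commutator_le.2 fun x hx g _ => e
      ⟨cm_mem (cm_symm (cm_top _)) hx trivial, by
        rw [← Grp.CommPow.commutator_pow_left (commutatorElement_eq_one_iff_commute.1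
          (cm_mem c5 (cm_mem (cm_symm (cm_top _)) hx trivial) hx))]
        exact cm_mem (cm_symm (c0 ⊤)) (c2 x hx) trivial⟩)))
    omega
  · have := h.el ⟨c5, fun x hx => (e hx).2⟩
    omega

theorem no_a3 (h : R3 p G) (hZ : I ι 𝒜 (Zo p G)) (hV : I ι 𝒜 V) (el : El p V) (hZV : Zo p G ≤ V)
    (l1 : lg p (Zo p G) = 1) (l3 : lg p V = 3) {E : Subgroup G} (hE : E.index = p)
    (c : ⁅E, V⁆ ≤ ⊥) (hne : ¬ E ≤ ι.range) (hM : I ι 𝒜 (ι.range ⊓ E)) : False := by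
  have := L.fin
  have := L.nor
  have := L.normal hV
  have := L.normal hM
  have l2 := L.lg_top
  have l4 := (idx_step L.pg hE).1
  have l5 := lg_inf L.pg hE ι.range
  have l6 := lg_lt L.pg (inf_le_left (a := ι.range) (b := E)) fun e => hne
    (le_of_lg L.pg (e.trans inf_le_right) (by omega))
  obtain ⟨U, _, u1, u2, u3⟩ := exists_between L.pg hZV (by omega)
  have hX := hV.inf (I.top.cz hZ)
  obtain ⟨n1, τ, ⟨⟨⟨t1, t2⟩, t3⟩, t4⟩, t5, t6⟩ := L.neg2 h ((((L.nm_St (I.bot L.inj) hZ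
    (SR3.cm_Zo _ _)).inf
    (L.nm_St hZ hX (L.cm_out (le_cz.1 (inf_le_right.trans inf_le_right)) hne
    ((cm_mono c le_rfl inf_le_left).trans bot_le)))).inf (L.nm_St hX hV ((lg_step L.pg u2
    (by omega)).1.trans (le_inf u2 (le_inf (u2.trans hV.le) (le_cz.2 (cm_mono (lg_step L.pg u1
    u3.le).1 le_top le_rfl))))))).inf (L.nm_St hM I.top (lg_step L.pg inf_le_left l5).1)) hM (by omega)
  have fx : ∀ v, ι v ∈ V → τ v = v := fun v hv => L.fix_step hX t1.1 t5 (fun v hv =>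
    L.fix_step hZ t1.1 t5 (L.fix_bot hZ t1) ((mem_St.1 t2).2 v hv)) ((mem_St.1 t3).2 v hv)
  have t7 : ∀ y, ι y ∈ ι.range ⊓ E → y * τ y ∈ frattini H := fun y hy =>
    (mem_map_iff_mem L.inj).1 (by simpa using t6 y hy)
  have e : τ ^ 2 = 1 := eq_one_of_chain L.pgH (t5.coprime_dvd_left (orderOf_pow_dvd 2))
    (fun i => match i with | 0 => frattini H | 1 => (ι.range ⊓ E).comap ι | _ => ⊤) 2 rfl le_rfl
    (fun i hi => by
      interval_cases i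
      exacts [inv_of_char ⊤ (frattini H) _ trivial, hM.inv _ (pow_mem t1.1 2)]) fun i hi y hy => by
      interval_cases i
      · simpa [sq, mul_assoc] using mul_mem (Normal.conj_mem inferInstance _ (inv_mem (t7 y hy)) y⁻¹)
          (t7 _ (hM.ap t1.1 hy))
      · simpa using (mem_St.1 (pow_mem t4 2)).2 y ⟨y, rfl⟩
  refine n1 fun y hy => ?_
  obtain ⟨y, rfl⟩ := hy.1
  refine mem_map_of_mem ι (mem_of_sq h.odd (Grp.PFrattini.pow_mem_frattini L.pgH y) ?_)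
  suffices e' : τ y = y by simpa [e'] using t7 y hy
  by_contra e'
  obtain ⟨i, i1, i2⟩ := Grp.PChain.exists_pow_notMem_pow_mem L.pgH (⊥ : Subgroup H)
    (u := y⁻¹ * τ y) fun e => e' (inv_mul_eq_one.1 e).symm
  have e1 : τ (y⁻¹ * τ y) = (y⁻¹ * τ y)⁻¹ := by
    rw [map_mul, map_inv, ← MulAut.mul_apply, ← sq, e]; simp
  have e2 := fx _ (h.mem_el el l3.ge (x := ι ((y⁻¹ * τ y) ^ p ^ i)) (by
    rw [← map_pow, mem_bot.1 i2, map_one]) fun v hv => cm_mem (cm_symm c) hv (by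
      rw [map_pow, map_mul, map_inv]; exact pow_mem (E.mul_mem (inv_mem hy.2) (hM.ap t1.1 hy).2) _))
  rw [map_pow, e1, inv_pow] at e2
  exact i1 (mem_of_sq h.odd i2 (inv_eq_iff_mul_eq_one.1 e2))

theorem hne_kappa (ho : Odd p) (hV : I ι 𝒜 V) (el : El p V) (hZV : Zo p G ≤ V)
    (l1 : lg p (Zo p G) = 1) (l2 : lg p V = 2) (c : ⁅ι.range, V⁆ ≤ ⊥) (ni : NI ι 𝒜 (Zo p G))
    (hn : ¬ I ι 𝒜 (Zo p G)) (hne : ¬ ι.range ≤ V) (𝒦 : Subgroup (MulAut H)) (h : Nm ι 𝒜 𝒦)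
    (h1 : ∀ τ ∈ 𝒦, (orderOf τ).Coprime p → ∀ y, (ι y)⁻¹ * ι (τ y) ∈ V) : False := by
  obtain ⟨τ, t1, t2, t3⟩ := L.negc ho h (I.bot L.inj) hV bot_le hZV (by rw [lg_bot]; omega)
    (by rw [lg_bot]; omega) el.cm el.pw ni hn
  exact hne (L.kappa ho l1.le hV c hZV (h.le t1) t2 t3 (h1 τ t1 t2))

theorem not_M (l1 : lg p ι.range = 3) (na : ¬ ⁅ι.range, ι.range⁆ ≤ ⊥) (hM : I ι 𝒜 M)
    (l2 : lg p M = 2) : False := by
  have := L.fin
  have l3 := lg_comap (p := p) L.inj hM.le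
  have l4 := lg_range (p := p) L.inj
  have i1 : (M.comap ι).index = p := by rw [← pow_one p]; exact (lg_of_index L.pgH).2 (by omega)
  obtain ⟨-, c1, c2⟩ := idx_step L.pgH i1
  have f1 : frattini H ≤ M.comap ι := Grp.PFrattini.frattini_le c1 c2
  have l5 := lg_mono (p := p) f1
  have l6 := lg_lt L.pgH (bot_le (a := frattini H)) fun e => na (by
    rw [MonoidHom.range_eq_map, ← map_commutator]
    exact (map_mono ((Grp.PFrattini.commutator_le_frattini L.pgH).trans e)).trans (Subgroup.map_bot _).le)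
  rw [lg_bot] at l6
  refine L.ess.not_flag_two L.pgH hM.inv i1.dvd ?_
  rw [relIndex_lg L.pgH f1 (k := lg p (M.comap ι) - lg p (frattini H)) (by omega)]
  exact (pow_dvd_pow p (by omega)).trans (pow_one p).dvd

theorem no_sq (h : R3 p G) (L' : Loc p ι' 𝒜') (hne : ¬ ι'.range ≤ ι.range) (hC : Sq p ι 𝒜 C)
    (hC' : Sq p ι' 𝒜' C) (hc : C ≤ center G) (ext : ∀ β ∈ 𝒜, (∀ t ∈ Tg ι, β * t * β⁻¹ ∈ Tg ι) →
      ∃ γ : MulAut G, (∀ x, γ (ι x) = ι (β x)) ∧ ∀ x ∈ ι'.range, γ x ∈ ι'.range) : HH p G := by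
  by_contra hH
  have := L.nor
  have := L'.nor
  have := normal_of_le_center' hc
  obtain ⟨l1, c1, p1⟩ := idx_step L.pg L.idx
  obtain ⟨l2, c2, p2⟩ := idx_step L.pg L'.idx
  have l3 := hC.l
  have l4 := lg_inf L.pg L.idx ι'.range
  have l5 := lg_lt L.pg (inf_le_left (a := ι'.range) (b := ι.range)) fun e => hne (e.trans inf_le_right)
  have hCM := le_inf hC'.i.le hC.i.le
  have hZM := le_inf L'.center_le L.center_le
  have cM := le_inf c2 c1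
  have hM : ∀ {x}, x ∈ ι'.range ⊓ ι.range ↔ x ∈ ι'.range ∧ x ∈ ι.range := Iff.rfl
  have : (ι'.range ⊓ ι.range).Normal := inferInstance
  generalize ι'.range ⊓ ι.range = M at *
  obtain ⟨c3, p3⟩ := lg_step L.pg hCM (by omega)
  obtain ⟨a, ha, ha'⟩ := exists_of_lg L.pg (U := center G) (V := M) (by
    have := lg_mono (p := p) hZM; unfold HH at hH; omega)
  have eM := eq_sup L.pg hCM (by omega) ha fun e => ha' (hc e)
  have c0 := cm_center.2 hc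
  have c4 : ⁅M, M⁆ ≤ ⊥ := two_gen (a := a) (b := a) (eM.le.trans le_sup_left) hCM ha ha
    le_normalizer_of_normal (cm_mono c0 le_top le_rfl) (by simp)
  obtain ⟨g, hg, hg'⟩ := exists_of_lg L.pg l5
  have eE := eq_sup L.pg (fun x hx => (hM.1 hx).1) l4 hg hg'
  have n1 : ⁅a, g⁆ ≠ 1 := fun e => by
    obtain ⟨x, rfl⟩ := (hM.1 ha).1
    refine ha' (Subgroup.mem_center_iff.2 fun u => commutatorElement_eq_one_iff_mul_comm.1 (two_gen
      (A := ⊥) (by rw [← eM]; exact eE.le) hC'.i.le ⟨x, rfl⟩ hg le_normalizer_of_normal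
      (cm_mono c0 le_top le_rfl) e (L'.foc h hC' hc (fun g => cm_mem (cm_symm c3) ha trivial) u)))
  obtain ⟨_, ⟨y, rfl⟩, n2⟩ : ∃ y ∈ ι.range, ⁅y, g⁆ ∉ C := by
    by_contra! e
    exact hg' (hM.2 ⟨hg, L.rad2 hC.i e fun x hx => cm_mem (cm_symm c0) hx trivial⟩)
  obtain ⟨β, b1, b2, b3⟩ := L.neg' h hC (L.nm_St (I.bot L.inj) hC.i c0)
  obtain ⟨γ, g1, g2⟩ := ext β b1.1 b2
  have g3 : ∀ x ∈ ι.range, (x ^ (-1 : ℤ))⁻¹ * γ x ∈ C := by
    rintro _ ⟨x, rfl⟩; simpa [g1] using mem_comap.1 (b3 x)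
  obtain ⟨l, hl⟩ := exists_wt (eE.le (g2 g hg))
  have w1 := comm_wt (U := ⊥) (X := M) (Y := ⊤) (fun x hx y _ g => cm_mem c0 trivial
    (cm_mem (cm_symm c3) hx trivial)) ha (hM.2 ⟨g2 a (hM.1 ha).1, by
      obtain ⟨x, rfl⟩ := (hM.1 ha).2; exact ⟨_, (g1 x).symm⟩⟩) (mem_top g) (mem_top (γ g))
    (fun y _ => cm_mem (cm_symm c0) (g3 a (hM.1 ha).2) trivial) fun x hx => cm_mem c4 hx hl
  have w2 := comm_wt (U := C) (X := ⊤) (Y := ⊤) (fun x _ y _ g => cm_mem c3 trivial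
    (cm_mem cM trivial trivial)) (mem_top (ι y)) (mem_top (γ (ι y))) (mem_top g) (mem_top (γ g))
    (fun z _ => cm_mem (cm_symm (cm_top C)) (g3 _ ⟨y, rfl⟩) trivial) fun x _ => cm_mem c3 trivial hl
  rw [← map_commutatorElement] at w1 w2
  have k1 := cm_mem (cm_symm c3) ha (mem_top g)
  have d1 := dvd_sub_of_wt (B := ⊥) (b := 1) n1 (by
    rw [← Grp.CommPow.commutator_pow_left (Subgroup.mem_center_iff.1 (hc k1) a).symm]
    exact cm_mem (cm_symm c0) (p3 a ha) trivial) w1 (by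
    obtain ⟨x, e⟩ := hC.i.le k1
    rw [← e] at k1 ⊢
    simp [g1, L.fix_bot hC.i b1 x k1])
  have k2 := cm_mem cM (mem_top (ι y)) (mem_top g)
  have d2 := dvd_sub_of_wt n2 (p3 _ k2) w2 (g3 _ (hM.1 k2).2)
  have := (Nat.prime_dvd_prime_iff_eq hp.out Nat.prime_two).1 (Int.natCast_dvd_natCast.1
    ((dvd_sub d2 d1).trans (dvd_of_eq (by push_cast; ring))))
  exact absurd h.odd (by simp [this])

end Loc

theorem cm_perturb {a b u v : G} (h1 : Commute u (b * v)) (h2 : Commute v a) :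
    ⁅a * u, b * v⁆ = ⁅a, b⁆ := by
  calc _ = a * (u * (b * v)) * u⁻¹ * (v * a)⁻¹ * b⁻¹ := by rw [commutatorElement_def]; group
    _ = _ := by rw [h1.eq, h2.eq, commutatorElement_def]; group

/-- the configuration with a common elementary abelian subgroup of rank three -/
structure UC (p : ℕ) (ι : H →* G) (𝒜 : Subgroup (MulAut H)) (ι' : H' →* G)
    (𝒜' : Subgroup (MulAut H')) (V U : Subgroup G) : Prop where
  h : R3 p G
  L : Loc p ι 𝒜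
  L' : Loc p ι' 𝒜'
  ne : ¬ ι'.range ≤ ι.range
  nZ : ¬ I ι 𝒜 (Zo p G)
  iZ : I ι' 𝒜' (Zo p G)
  iV : I ι 𝒜 V
  nV : ¬ I ι' 𝒜' V
  iU : I ι 𝒜 U
  iU' : I ι' 𝒜' U
  ZV : Zo p G ≤ V
  VU : V ≤ U
  l1 : lg p (Zo p G) = 1
  l2 : lg p V = 2
  l3 : lg p U = 3
  el : El p U
  cV : ⁅ι.range, V⁆ ≤ ⊥
  cen : ∀ g, (∀ v ∈ V, ⁅g, v⁆ = 1) → g ∈ ι.range
  cU : ⁅ι'.range, U⁆ ≤ Zo p G
  niZ : NI ι 𝒜 (Zo p G)
  niV : NI ι' 𝒜' V
  cl : ∀ K, I ι' 𝒜' K → V ≤ K → U ≤ K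

namespace UC

variable (u : UC p ι 𝒜 ι' 𝒜' V U)
include u

theorem cZ : ⁅(⊤ : Subgroup G), V⁆ ≤ Zo p G :=
  have := u.L.normal u.iV
  (lg_step u.h.pg u.ZV (by have := u.l1; have := u.l2; omega)).1

theorem cVU : ⁅(⊤ : Subgroup G), U⁆ ≤ V :=
  have := u.L.normal u.iV
  have := u.L.normal u.iU
  (lg_step u.h.pg u.VU (by have := u.l3; have := u.l2; omega)).1

theorem irr (hK : I ι' 𝒜' K) (h1 : Zo p G ≤ K) (h2 : K ≤ U) : K ≤ Zo p G ∨ U ≤ K := by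
  by_contra! e
  have := u.L'.normal hK
  have l1 := lg_lt u.h.pg h1 e.1
  have l2 := lg_lt u.h.pg h2 e.2
  have l3 := lg_lt u.h.pg (le_sup_right : K ≤ V ⊔ K) fun e' => e.2 (u.cl K hK (le_sup_left.trans e'))
  have l4 := u.l1
  have l5 := u.l3
  exact u.nV (u.L'.fr u.iZ u.iU' (cm_mono (cm_sup u.cZ (lg_step u.h.pg h1 (by omega)).1) le_rfl
    (le_of_lg u.h.pg (sup_le u.VU h2) (by omega))) u.ZV u.VU u.niV)

theorem no : ¬ ⁅ι.range, U⁆ ≤ ⊥ := fun e => by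
  obtain ⟨g, hg, hg'⟩ := SetLike.not_le_iff_exists.1 u.ne
  have l1 := lg_cm u.h.pg bot_le (K := U) fun k hk => cm_mem (cm_symm u.cU) hk hg
  have l2 := lg_mono (p := p) (U := U ⊓ cm ⊥ g) (V := Zo p G) fun x hx => ⟨u.L.mem_center
    (fun y hy => cm_mem e hy hx.1) hg' (comm_symm (B := ⊥) (mem_cm.1 hx.2)), u.el.pw x hx.1⟩
  have := u.l1
  have := u.l3
  rw [lg_bot] at l1; omega

theorem nk : ¬ ⁅ι'.range, U⁆ ≤ ⊥ := fun e =>
  u.ne fun g hg => u.cen g fun _ hv => cm_mem e hg (u.VU hv)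

theorem hne (𝒦 : Subgroup (MulAut H)) (h : Nm ι 𝒜 𝒦)
    (h1 : ∀ τ ∈ 𝒦, (orderOf τ).Coprime p → ∀ y, (ι y)⁻¹ * ι (τ y) ∈ U) : False := by
  obtain ⟨τ, ⟨t0, t1⟩, t2, t3⟩ := u.L.negc u.h.odd (h.inf (u.L.nm_St u.iV u.iU u.cVU)) (I.bot u.L.inj)
    u.iV bot_le u.ZV (by rw [lg_bot, u.l1]) (by rw [lg_bot, u.l2]) (u.el.mono u.VU).cm
    (u.el.mono u.VU).pw u.niZ u.nZ
  refine u.no (commutator_le.2 ?_)
  rintro _ ⟨x, rfl⟩ y hy
  obtain ⟨y, rfl⟩ := u.iU.le hy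
  have c1 := cm_mem u.cVU (mem_top (ι x)) hy
  have e := t3 ⁅x, y⁆ (by rwa [map_commutatorElement])
  have e1 := (mem_St.1 t1).2 y hy
  rw [map_commutatorElement, map_commutatorElement, map_commutatorElement,
    ← mul_inv_cancel_left (ι x) (ι (τ x)), ← mul_inv_cancel_left (ι y) (ι (τ y)), cm_perturb
    (commutatorElement_eq_one_iff_commute.1 (cm_mem u.el.cm (h1 τ t0 t2 x) (mul_mem hy (u.VU e1))))
    (commutatorElement_eq_one_iff_commute.1 (cm_mem (cm_symm u.cV) e1 ⟨x, rfl⟩))] at e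
  exact eq_one_of_sq u.h.odd (u.el.pw _ (u.VU c1)) e

theorem hne' (𝒦 : Subgroup (MulAut H')) (h : Nm ι' 𝒜' 𝒦)
    (h1 : ∀ τ ∈ 𝒦, (orderOf τ).Coprime p → ∀ y, (ι' y)⁻¹ * ι' (τ y) ∈ U) : False := by
  have := u.L.normal u.iV
  obtain ⟨τ, ⟨t0, t1⟩, t2, t3⟩ := u.L'.negc u.h.odd (h.inf (u.L'.nm_St (I.bot u.L'.inj) u.iZ
    (cm_Zo _ _))) u.iZ u.iU' u.ZV u.VU (by rw [u.l1, u.l2]) (by rw [u.l1, u.l3])
    (u.el.cm.trans bot_le) (fun y hy => (u.el.pw y hy).symm ▸ one_mem _) u.niV u.nV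
  refine u.nk (commutator_le.2 ?_)
  rintro _ ⟨x, rfl⟩ y hy
  obtain ⟨y, rfl⟩ := u.iU'.le hy
  have c1 := cm_mem u.cU (⟨x, rfl⟩ : ι' x ∈ ι'.range) hy
  have e := congrArg ι' (u.L'.fix_bot u.iZ t1 ⁅x, y⁆ (by rwa [map_commutatorElement]))
  have e1 := t3 y hy
  rw [map_commutatorElement, map_commutatorElement, map_commutatorElement,
    ← mul_inv_cancel_left (ι' x) (ι' (τ x)), ← inv_mul_cancel_left (ι' y) (ι' (τ y)), cm_perturb
    (commutatorElement_eq_one_iff_commute.1 (cm_mem u.el.cm (h1 τ t0 t2 x)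
      (mul_mem (inv_mem hy) (u.VU (u.ZV e1))))) (Subgroup.mem_center_iff.1 e1.1 _).symm] at e
  have e2 := Grp.CommPow.commutator_mul_right (x := ι' x) (y := ι' y) (z := (ι' y)⁻¹)
    (by rw [e]; exact (Subgroup.mem_center_iff.1 c1.1 _).symm)
  rw [e, mul_inv_cancel, commutatorElement_one_right] at e2
  exact eq_one_of_sq u.h.odd c1.2 e2.symm

theorem big : lg p (⊤ : Subgroup G) ≤ lg p (ι.range ⊓ ι'.range ⊓ cz U ⊥) + 3 := by
  have l1 := u.l1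
  have l2 := u.l2
  have l3 := u.l3
  obtain ⟨a, ha, ha'⟩ := exists_of_lg u.h.pg (U := Zo p G) (V := V) (by omega)
  obtain ⟨b, hb, hb'⟩ := exists_of_lg u.h.pg (U := V) (V := U) (by omega)
  have m1 := lg_cm u.h.pg bot_le (K := ι'.range) fun k hk => cm_mem u.cU hk (u.VU ha)
  have m2 := lg_cm u.h.pg bot_le (K := ι'.range ⊓ cm ⊥ a) fun k hk => cm_mem u.cU hk.1 hb
  have k : ∀ x ∈ ι'.range ⊓ cm ⊥ a ⊓ cm ⊥ b, ∀ y ∈ U, ⁅y, x⁆ ∈ (⊥ : Subgroup G) := fun x hx => by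
    rw [eq_sup u.h.pg u.VU (by omega) hb hb', eq_sup u.h.pg u.ZV (by omega) ha ha']
    exact comm_sup (comm_sup (fun y hy => cm_mem (cm_symm (cm_Zo ⊤ ⊥)) hy trivial)
      (comm_symm (mem_cm.1 hx.1.2))) (comm_symm (mem_cm.1 hx.2))
  have m3 := lg_mono (p := p) (V := ι.range ⊓ ι'.range ⊓ cz U ⊥) fun x hx =>
    ⟨⟨u.cen x fun v hv => comm_symm (B := ⊥) (k x hx v (u.VU hv)), hx.1.1⟩, mem_cz.2 (k x hx)⟩
  have := u.L'.lg_top
  rw [lg_bot] at m1 m2; omega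

theorem no_sp (l : lg p (⊤ : Subgroup G) = lg p U + 4)
    (h : (∀ K, I ι 𝒜 K → U ≤ K → K ≤ U ∨ ι.range ≤ K) ∨
      ∀ K, I ι' 𝒜' K → U ≤ K → K ≤ U ∨ ι'.range ≤ K) : False := by
  have l1 := u.big
  rcases h with h | h
  · rcases h _ (u.iU.cz (I.bot u.L.inj)) (le_inf u.iU.le (le_cz.2 u.el.cm)) with e | e
    · have := lg_mono (p := p) ((inf_le_inf_right _ (inf_le_left (b := ι'.range))).trans e); omega
    · exact u.no (cm_symm (le_cz.1 (e.trans inf_le_right)))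
  · rcases h _ (u.iU'.cz (I.bot u.L'.inj)) (le_inf u.iU'.le (le_cz.2 u.el.cm)) with e | e
    · have := lg_mono (p := p) ((inf_le_inf_right _ (inf_le_right (a := ι.range))).trans e); omega
    · exact u.nk (cm_symm (le_cz.1 (e.trans inf_le_right)))

theorem no_sq (hUC : U ≤ C) (c : ⁅(⊤ : Subgroup G), C⁆ ≤ U) (hC : Sq p ι 𝒜 C) (hC' : Sq p ι' 𝒜' C) :
    False := by
  have := u.L'.nor
  have := u.L.normal hC.i
  have l1 := u.l1
  have l3 := u.l3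
  have c1 : ⁅C, U⁆ ≤ ⊥ := le_cz.1 ((u.cl _ (hC'.i.cz (I.bot u.L'.inj)) (le_inf (u.VU.trans u.iU'.le)
    (le_cz.2 (cm_mono u.cV hC.i.le le_rfl)))).trans inf_le_right)
  have k : ∀ K, I ι 𝒜 K → K ≤ center G → K ≤ ⊥ := fun K hK hc => by
    by_contra e
    have := u.L.normal hK
    refine u.nZ ?_
    convert hK.om (I.bot u.L.inj) (reg_of_comm (cm_mono (cm_center.2 hc) le_top le_rfl)) using 1
    exact le_antisymm (fun y hy => ⟨Zo_le_of_normal u.h.pg l1.le e hy, hy.2⟩) fun y hy => ⟨hc hy.1, hy.2⟩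
  have c2 := k _ (hC.i.cm u.L.inj hC.i) (cm_center.1 (cm_symm (rot (cm_symm c) c1 (cm_symm c) c1)))
  have c3 := k _ (hC.i.pw u.L.inj) ((closure_le _).2 (by
    rintro _ ⟨x, hx, rfl⟩
    refine Subgroup.mem_center_iff.2 fun g => (commutatorElement_eq_one_iff_mul_comm.1 ?_).symm
    have e := cm_mem (cm_symm c) hx (mem_top g)
    rw [Grp.CommPow.commutator_pow_left (commutatorElement_eq_one_iff_commute.1
      (cm_mem (cm_symm c1) e hx)), u.el.pw _ e]))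
  have l4 := u.h.el ⟨c2, fun x hx => c3 (subset_closure ⟨x, hx, rfl⟩)⟩
  obtain rfl := le_antisymm hUC (le_of_lg u.h.pg hUC (by omega))
  have l5 := hC'.l
  obtain ⟨A, _, a1, a2, a3⟩ := exists_between u.h.pg u.iU'.le (by omega)
  obtain ⟨x, hx, hx'⟩ := exists_of_lg u.h.pg (U := U) (V := A) (by omega)
  obtain ⟨y, hy, hy'⟩ := exists_of_lg u.h.pg (U := A) (V := ι'.range) (by omega)
  have z1 := cm_mem hC'.c (a2 hx) hy
  have c4 := two_gen (A := Zo p G ⊔ zpowers ⁅x, y⁆) (by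
    rw [← eq_sup u.h.pg a1 a3.le hx hx']; exact (eq_sup u.h.pg a2 (by omega) hy hy').le) u.iU'.le
    (a2 hx) hy (le_normalizer_iff_commutator_le_right.2 ((cm_mono u.cU le_rfl (sup_le
      (u.ZV.trans u.VU) (zpowers_le.2 z1))).trans le_sup_left)) (u.cU.trans le_sup_left)
    (mem_sup_right (mem_zpowers _))
  have l6 := lg_sup_zp u.h.pg (A := Zo p G) ((u.el.pw _ z1).symm ▸ one_mem _)
  have c5 := (u.irr (u.iZ.sup u.L'.inj (I.top.cm u.L'.inj I.top)) le_sup_left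
    (sup_le (u.ZV.trans u.VU) hC'.c)).elim le_sup_right.trans fun e => by
    have := lg_mono (p := p) (e.trans (sup_le le_sup_left c4)); omega
  have c6 := (u.irr (u.iU'.inf (I.top.cz (I.bot u.L'.inj))) (le_inf (u.ZV.trans u.VU) (le_inf
    u.iZ.le (le_cz.2 (cm_Zo _ _)))) inf_le_left).resolve_right
    fun e => u.nk (le_cz.1 (e.trans (inf_le_right.trans inf_le_right)))
  have := u.h.sec c5 fun x hx => c6 ⟨hC'.w x hx, pow_mem hx p, mem_cz.2 fun g hg => by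
    have e := cm_mem c5 hg hx
    rw [Grp.CommPow.commutator_pow_right (Subgroup.mem_center_iff.1 e.1 x).symm]
    exact e.2⟩
  omega

end UC

end Cfsg.Agent.Fus.SR3
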