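import Mathlib
import Cfsg.Agent.Fus.SR3Tw

/-! Amalgams of two characteristic essential subgroups in sectional rank three. -/

set_option autoImplicit false
set_option linter.unusedSectionVars false
set_option linter.unusedVariables false

namespace Cfsg.Agent.Fus.SR3

open Subgroup Cfsg.FusionSystem Cfsg.Agent.Fus.AC Cfsg.Agent.Fus.P5
open scoped commutatorElement

universe u v w

section
variable {J : Type w} {G : Type u} [Group G] {H : J → Type v} [∀ j, Group (H j)]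

/-- the two possible shapes of an amalgam -/
def Out (p : ℕ) (ι : ∀ j, H j →* G) (𝒜 : ∀ j, Subgroup (MulAut (H j))) : Prop :=
  (∃ i j, SP p (ι i).range (ι j).range ∧ ¬ I (ι i) (𝒜 i) (Zo p G)) ∨
    ∃ C, C ≤ center G ∧ ∀ j, Sq p (ι j) (𝒜 j) C

/-- a family of invariant essential subgroups -/
structure Fam (p : ℕ) (ι : ∀ j, H j →* G) (𝒜 : ∀ j, Subgroup (MulAut (H j)))
    (ℬ : Subgroup (MulAut G)) : Prop where
  h : R3 p G
  L : ∀ j, Loc p (ι j) (𝒜 j)
  inj : ∀ i j, (ι i).range = (ι j).range → i = j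
  inn : Inn G ≤ ℬ
  c1 : ∀ j U, Inv ℬ U → NI (ι j) (𝒜 j) U
  c2 : ∀ β ∈ ℬ, ∀ j U, I (ι j) (𝒜 j) U → I (ι j) (𝒜 j) (U.map β.toMonoidHom)

variable {p : ℕ} [hp : Fact p.Prime] [Finite G] {ι : ∀ j, H j →* G}
  {𝒜 : ∀ j, Subgroup (MulAut (H j))} {ℬ : Subgroup (MulAut G)} {N : Subgroup G}

theorem SP.ne {E : Subgroup G} (h : SP p E E) : False := h.na h.el.cm

theorem Loc.sp_Z {K : Type*} [Group K] {κ : K →* G} {𝒦 : Subgroup (MulAut K)} (L : Loc p κ 𝒦)
    {E : Subgroup G} (h : SP p E κ.range) : I κ 𝒦 (Zo p G) := by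
  have hK := (I.top (ι := κ) (𝒜 := 𝒦)).cz (I.bot L.inj)
  have k : Zo p G ≤ κ.range ⊓ cz κ.range ⊥ := le_inf L.Zo_le' (le_cz.2 (SR3.cm_Zo _ _))
  refine le_antisymm (le_of_lg L.pg k (not_lt.1 fun e => h.na ?_)) k ▸ hK
  have c := le_cz.1 (inf_le_right (a := κ.range) (b := cz κ.range ⊥))
  have l1 := L.lg_Zo
  have l2 := L.lg_top
  have l3 := h.l4
  obtain ⟨x, hx, hx'⟩ := SetLike.not_le_iff_exists.1 fun e => h.na (cm_mono c le_rfl e)
  exact two_gen (a := x) (b := x) ((eq_sup L.pg inf_le_left (by omega) hx hx').le.trans le_sup_left)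
    inf_le_left hx hx le_normalizer_of_normal c (by simp)

namespace Fam

variable (F : Fam p ι 𝒜 ℬ)
include F

theorem nle {i j : J} (h : i ≠ j) : ¬ (ι i).range ≤ (ι j).range := fun e =>
  h (F.inj _ _ (le_antisymm e (le_of_lg F.h.pg e (by
    have := (F.L i).lg_top; have := (F.L j).lg_top; omega))))

theorem not_M (hJ : ∀ i j k : J, i ≠ j → k = i ∨ k = j) (hO : Out p ι 𝒜) {i j : J} (h : i ≠ j) :
    ¬ I (ι i) (𝒜 i) ((ι i).range ⊓ (ι j).range) := fun hM => by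
  have l1 := lg_inf F.h.pg (F.L j).idx (ι i).range
  have l2 := lg_lt F.h.pg (inf_le_left (a := (ι i).range) (b := (ι j).range))
    fun e => F.nle h (e.trans inf_le_right)
  have l3 := (F.L i).lg_top
  rcases hO with ⟨k, l, hs, hn⟩ | ⟨C, -, hC⟩
  · have l4 := hs.l4
    rcases hJ k l i (fun e => (e ▸ hs).ne) with rfl | rfl
    · rcases (F.L i).irr F.h hs hn hM with e | e
      · have := lg_mono (p := p) e; rw [lg_bot] at this; omega
      · exact F.nle h (e.trans inf_le_right)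
    · exact (F.L i).not_M (by omega) hs.na hM (by omega)
  · rcases (F.L i).sq_irr F.h (hC i) hM (le_inf (hC i).i.le (hC j).i.le) with e | e
    · have := lg_mono (p := p) e; have := (hC i).l; omega
    · exact F.nle h (e.trans inf_le_right)

theorem step (hJ : ∀ i j k : J, i ≠ j → k = i ∨ k = j) [N.Normal] (hB : Inv ℬ N)
    (hN : ∀ j, I (ι j) (𝒜 j) N) (hne : ∀ j 𝒦, Nm (ι j) (𝒜 j) 𝒦 → (∀ τ ∈ 𝒦, (orderOf τ).Coprime p →
      ∀ y, (ι j y)⁻¹ * ι j (τ y) ∈ N) → False)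
    (ih : ∀ 𝒜' ℬ', Fam p (fun j => QuotientGroup.map (N.comap (ι j)) N (ι j) le_rfl) 𝒜' ℬ' →
      Out p (fun j => QuotientGroup.map (N.comap (ι j)) N (ι j) le_rfl) 𝒜') :
    (∀ i j, i ≠ j → ¬ I (ι i) (𝒜 i) ((ι i).range ⊓ (ι j).range)) ∧
    ((∃ i, lg p (⊤ : Subgroup G) = lg p N + 4 ∧ ⁅(ι i).range, (ι i).range⁆ ≤ N ∧
      (∀ x ∈ (ι i).range, x ^ p ∈ N) ∧ lg p (cz (⊤ : Subgroup G) N) = lg p N + 1 ∧
      ∀ K, I (ι i) (𝒜 i) K → N ≤ K → K ≤ N ∨ (ι i).range ≤ K) ∨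
      ∃ C, ⁅(⊤ : Subgroup G), C⁆ ≤ N ∧ N ≤ C ∧ ∀ j, Sq p (ι j) (𝒜 j) C) := by
  choose 𝒜' L' hI hNI using fun j => (F.L j).quot' (hN j) (hne j)
  obtain ⟨ρ, hρ⟩ := exists_quotHom hB
  have hk := QuotientGroup.ker_mk' N
  have hc : ∀ {K}, N ≤ K → (K.map (QuotientGroup.mk' N)).comap (QuotientGroup.mk' N) = K :=
    fun h => comap_map_eq_self (hk.le.trans h)
  have hr : ∀ j, (QuotientGroup.map (N.comap (ι j)) N (ι j) le_rfl).range.comap
    (QuotientGroup.mk' N) = (ι j).range := fun j => by rw [range_qmap, hc (hN j).le]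
  have hb : (⊥ : Subgroup (G ⧸ N)).comap (QuotientGroup.mk' N) ≤ N := hk.le
  have hcm : ∀ {A B C : Subgroup (G ⧸ N)}, ⁅A, B⁆ ≤ C → ⁅A.comap (QuotientGroup.mk' N),
      B.comap (QuotientGroup.mk' N)⁆ ≤ C.comap (QuotientGroup.mk' N) :=
    fun h => commutator_le.2 fun x hx y hy => cm_mem h hx hy
  have hin : Inn (G ⧸ N) ≤ ρ.range := by
    rintro _ ⟨x, rfl⟩
    obtain ⟨x, rfl⟩ := QuotientGroup.mk_surjective x
    refine ⟨⟨_, F.inn ⟨x, rfl⟩⟩, MulEquiv.ext fun y => ?_⟩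
    obtain ⟨y, rfl⟩ := QuotientGroup.mk_surjective y
    exact hρ _ y
  have F' : Fam p (fun j => QuotientGroup.map (N.comap (ι j)) N (ι j) le_rfl) 𝒜' ρ.range :=
    ⟨⟨F.h.pg.to_quotient _, F.h.odd, FGS.SecRank.quotient F.h.rk _⟩, L',
      fun i j e => F.inj i j (by rw [← hr, ← hr, e]), hin, fun j U hU =>
      hNI j U (normal_of_inv hin hU) (F.c1 j _ fun β hβ x hx => by
        simpa [hρ] using hU _ ⟨⟨β, hβ⟩, rfl⟩ _ hx), by
      rintro _ ⟨β, rfl⟩ j U hU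
      rw [hI]
      convert F.c2 _ β.2 j _ ((hI j U).1 hU) using 1
      ext x
      obtain ⟨x, rfl⟩ := β.1.surjective x
      refine Iff.trans ?_ (mem_map_iff_mem β.1.injective).symm
      rw [mem_comap, QuotientGroup.mk'_apply, ← hρ]
      exact mem_map_iff_mem (f := (ρ β).toMonoidHom) (ρ β).injective⟩
  have hO := ih _ _ F'
  refine ⟨fun i j h hM => F'.not_M hJ hO h ((hI i _).2 (by rwa [comap_inf, hr, hr])), ?_⟩
  rcases hO with ⟨i, j, hs, hn⟩ | ⟨C, c, hC⟩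
  · refine Or.inl ⟨i, by rw [← hs.l4, ← lg_comap_mk F.h.pg, comap_top], 
      cm_mono ((hcm hs.el.cm).trans hb) (hr i).ge (hr i).ge,
      fun x hx => hb (hs.el.pw _ ((hr i).ge hx)), ?_, fun K hK h => ?_⟩
    · rw [← hs.l1, ← lg_comap_mk F.h.pg]
      congr 1
      refine le_antisymm (fun x hx => Subgroup.mem_center_iff.2 fun g => ?_)
        (le_cz.2 ((hcm (cm_center.2 le_rfl)).trans hb))
      obtain ⟨g, rfl⟩ := QuotientGroup.mk_surjective g
      exact commutatorElement_eq_one_iff_mul_comm.1 (hk.ge (mem_cz.1 hx g trivial))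
    · exact ((L' i).irr F'.h hs hn ((hI i _).2 ((hc h).symm ▸ hK))).imp
        (fun e => (hc h).ge.trans ((comap_mono e).trans hb))
        fun e => (hr i).ge.trans ((comap_mono e).trans (hc h).le)
  · refine Or.inr ⟨C.comap (QuotientGroup.mk' N), (hcm (cm_center.2 c)).trans hb,
      hk.ge.trans (comap_mono (K := ⊥) bot_le), fun j => ⟨(hI j C).1 (hC j).i, ?_,
      cm_mono (hcm (hC j).c) (hr j).ge (hr j).ge, fun x hx => (hC j).w _ ((hr j).ge hx)⟩⟩
    rw [← hr j, lg_comap_mk F.h.pg, lg_comap_mk F.h.pg, (hC j).l, add_assoc]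

end Fam

end

theorem tm {p : ℕ} [hp : Fact p.Prime] {J : Type w} [Nontrivial J]
    (hJ : ∀ i j k : J, i ≠ j → k = i ∨ k = j) (n : ℕ) : ∀ {G : Type u} [Group G] [Finite G]
    {H : J → Type v} [∀ j, Group (H j)] {ι : ∀ j, H j →* G} {𝒜 : ∀ j, Subgroup (MulAut (H j))}
    {ℬ : Subgroup (MulAut G)}, Fam p ι 𝒜 ℬ → Nat.card G < n → Out p ι 𝒜 := by
  induction n with
  | zero => intros; omega
  | succ n ih =>
  intro G _ _ H _ ι 𝒜 ℬ F hn
  have h := F.h
  have L := F.L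
  obtain ⟨i⟩ : Nonempty J := inferInstance
  by_cases hH : HH p G
  · choose D d1 d2 using fun j => (L j).exists_sq hH ((L j).hh_not hH)
    have d3 : ∀ i j, D j ≤ D i := fun i j => (L i).hh_le h (L j) hH (d1 i) (d1 j) (d2 i) (d2 j)
      (F.c1 i _ fun β hβ x hx => (L j).sq_max h (d1 j) (d2 j) (F.c2 β hβ j _ (d1 j).i)
        (map_le_iff_le_comap.2 fun y hy => inv_of_char ℬ _ β hβ y (d2 j hy)) ⟨x, hx, rfl⟩)
      (F.c1 i _ (inv_of_char ℬ _))
    exact Or.inr ⟨D i, d2 i, fun j => le_antisymm (d3 i j) (d3 j i) ▸ d1 j⟩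
  have hZB : Inv ℬ (Zo p G) := fun β _ _ => map_Zo β
  have l2 := (L i).lg_Zo
  have nb : ∀ {U : Subgroup G}, 0 < lg p U → ¬ U ≤ ⊥ := fun h e => by
    have := lg_mono (p := p) e; rw [lg_bot] at this; omega
  by_cases C3 : ∀ U, Inv ℬ U → (∀ j, I (ι j) (𝒜 j) U) → U ≤ ⊥
  · obtain ⟨i, j, hs⟩ := (am h (fun e => nb l2 (le_top.trans e)) L F.inj F.c1 (fun β hβ j => ⟨j, fun U =>
      ⟨fun e => by
        convert F.c2 _ (inv_mem hβ) j _ e using 1
        ext x; simp, F.c2 β hβ j U⟩⟩)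
      C3).resolve_left hH
    refine Or.inl ⟨i, j, hs, fun e => nb l2 (C3 _ hZB fun k => ?_)⟩
    rcases hJ i j k (fun e => (e ▸ hs).ne) with rfl | rfl
    exacts [e, (L k).sp_Z hs]
  push Not at C3
  obtain ⟨N, hNB, hN, hN0⟩ := C3
  have st := fun (N : Subgroup G) [N.Normal] (l0 : 0 < lg p N) hB hN hne =>
    F.step (N := N) hJ hB hN hne fun 𝒜' ℬ' F' => ih F' (by
      have e := N.card_mul_index
      have := Nat.one_lt_pow l0.ne' hp.out.one_lt
      rw [← card_lg h.pg] at this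
      have : 0 < N.index := Nat.pos_of_ne_zero index_ne_zero_of_finite
      change N.index < n
      nlinarith)
  by_cases hα : ∃ D, D ≤ Zo p G ∧ Inv ℬ D ∧ (∀ j, I (ι j) (𝒜 j) D) ∧ 0 < lg p D
  · obtain ⟨D, d1, d2, d3, d4⟩ := hα
    have := (L i).normal (d3 i)
    rcases (st D d4 d2 d3 fun j => (L j).hne_chain (d3 j) (d3 j) (cm_top D)
      (cm_mono (cm_Zo _ _) le_rfl d1)).2 with ⟨i, e1, e2, e3, e4, e5⟩ | ⟨C, c1, -, c2⟩
    · exact ((L i).no_sp h (d3 i) d1 d4 e1 e2 e3 e4 e5).elim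
    · obtain ⟨j, hj⟩ := exists_ne i
      have k := fun j => (L j).lift2 h (c2 j) (d3 j) (d1.trans Zo_le) c1
      exact Or.inr ⟨C, cm_center.1 ((L i).cm_out (k i) (F.nle hj) (k j)), c2⟩
  exfalso
  obtain ⟨o, ho⟩ : ∃ o, ¬ I (ι o) (𝒜 o) (Zo p G) := not_forall.1 fun e => hα ⟨_, le_rfl, hZB, e, l2⟩
  obtain ⟨k, hk⟩ := exists_ne o
  have all : ∀ {P : J → Prop}, P o → P k → ∀ j, P j := fun h1 h2 j => by
    rcases hJ k o j hk with rfl | rfl <;> assumption
  have hZ : I (ι k) (𝒜 k) (Zo p G) := by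
    by_contra e; exact hH ((L k).am0 h (L o) e ho fun e => hk (F.inj _ _ e))
  have hcl : ∀ j U, U ≤ (ι j).range → Inv ℬ U → Inv ℬ (cl (ι j) (𝒜 j) U) := fun j U h1 h2 =>
    inv_of_le_map fun β hβ => cl_le (F.c2 β hβ j _ (I.cl (L j).inj))
      ((map_eq_of_inv h2 hβ).ge.trans (map_mono (le_cl h1)))
  have hV := I.cl (𝒜 := 𝒜 o) (U := Zo p G) (L o).inj
  have hZV := le_cl (𝒜 := 𝒜 o) (L o).Zo_le'
  have elV := (L o).el_V
  have cmV := (L o).cm_V
  have cenV := fun g => (L o).cen_V ho (g := g)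
  have hVB := hcl o _ (L o).Zo_le' hZB
  have l1 := lg_lt h.pg hZV fun e => ho (I.of_cl (L o).inj (L o).Zo_le' e)
  have hVN := cl_le (U := Zo p G) (hN o)
  generalize cl (ι o) (𝒜 o) (Zo p G) = V at *
  have := (L o).normal hV
  have := (L o).normal (hN o)
  have l3 := h.el elV
  have hVZ : V ⊓ center G = Zo p G := le_antisymm (fun x hx => ⟨hx.2, elV.pw x hx.1⟩)
    (le_inf hZV Zo_le)
  have l4 : lg p (Zo p G) = 1 := by
    by_contra l4
    obtain ⟨g, hg⟩ := (L o).exists_out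
    obtain ⟨a, ha, ha'⟩ := exists_of_lg h.pg l1
    have e1 := cm_mem (cm_symm (lg_step h.pg hZV (by omega)).1) ha (mem_top g)
    have := normal_of_le_center' (zpowers_le.2 e1.1)
    obtain ⟨D, w, d1, d2, -, d3, -, -, d4⟩ := (L o).exists_D hV cmV (hVZ ▸ ho) hg e1 (hZV e1) (by
      rw [eq_sup h.pg hZV (by omega) ha ha']
      exact comm_sup (fun u hu => cm_mem (cm_symm (cm_Zo ⊤ _)) hu trivial) (mem_zpowers _))
    have := normal_of_le_center' d2
    have l5 := lg_sup_zp h.pg (A := D) (e1.2.symm ▸ one_mem D)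
    have l6 := lg_sup_zp h.pg (A := D ⊔ zpowers ⁅a, g⁆) (d3.symm ▸ one_mem _)
    rw [← d4] at l6
    have hDZ : D ≤ Zo p G := hVZ ▸ le_inf (d4 ▸ le_sup_of_le_left le_sup_left) d2
    have hDB : Inv ℬ D := fun β hβ x hx => by
      have e2 : D ⊔ D.map β.toMonoidHom ≤ Zo p G :=
        sup_le hDZ ((map_mono hDZ).trans (map_eq_of_inv hZB hβ).le)
      have := lg_lt h.pg e2 fun e => ho (le_antisymm e2 e ▸ d1.sup (L o).inj (F.c2 β hβ o D d1))
      exact le_of_lg h.pg (le_sup_left : D ≤ D ⊔ D.map β.toMonoidHom) (by omega)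
        (mem_sup_right ⟨x, hx, rfl⟩)
    exact hα ⟨D, hDZ, hDB, all d1 ((L k).fr (I.bot (L k).inj) hZ (cm_Zo _ _) bot_le hDZ
      (F.c1 k D hDB)), by omega⟩
  replace hVN := hVN (Zo_le_of_normal h.pg l4.le hN0)
  have hVE := hVN.trans (hN k).le
  by_cases hkV : I (ι k) (𝒜 k) V
  · have hM : I (ι k) (𝒜 k) ((ι k).range ⊓ (ι o).range) := by
      convert hkV.cz (I.bot (L k).inj) using 1
      exact le_antisymm (inf_le_inf_left _ (le_cz.2 (cm_symm cmV))) fun x hx =>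
        ⟨hx.1, cenV x fun v hv => comm_symm (B := ⊥) (hx.2.2 v hv)⟩
    by_cases l5 : lg p V = 3
    · exact (L k).no_a3 h hZ hkV elV hZV l4 l5 (L o).idx cmV (F.nle hk.symm) hM
    · exact (st V (by omega) hVB (all hV hkV) (all ((L o).hne_kappa h.odd hV elV hZV l4 (by omega) cmV
        (F.c1 o _ hZB) ho fun e => F.nle hk.symm (e.trans hVE)) ((L k).hne_chain hZ hkV
        (lg_step h.pg hZV (by omega)).1 (cm_Zo _ _)))).1 k o hk hM
  have hU := I.cl (𝒜 := 𝒜 k) (U := V) (L k).inj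
  have hUE := (cl_le (hN k) hVN).trans (hN o).le
  have n1 := fun e => hkV (I.of_cl (L k).inj hVE e)
  have l5 : lg p V = 2 := by
    by_contra e
    exact n1 ((L k).cl_le_el h elV (by omega) elV.pw (cm_symm (cm_mono cmV hUE le_rfl)))
  have := (L k).normal hU
  have c1 := cm_cl I.top hZ hVE (cm_mono (lg_step h.pg hZV (by omega)).1 le_top le_rfl)
  have el : El p (cl (ι k) (𝒜 k) V) := ⟨cm_cl hU (I.bot (L k).inj) hVE (cm_mono cmV hUE le_rfl),
    pow_cl (L k).inj hVE (reg_of h.odd (cm_mono c1 hU.le le_rfl) (cm_Zo _ _) el_Zo.pw) elV.pw⟩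
  have m1 := h.el el
  have m2 := lg_lt h.pg (le_cl hVE) n1
  have hU' : I (ι o) (𝒜 o) (cl (ι k) (𝒜 k) V) := by
    by_contra e
    exact ho (((L o).cl_x5 h l4 hV I.top hZV (le_cl hVE) hUE el l5 (by omega) cmV e).2.1 ▸
      (I.cl (L o).inj).cm (L o).inj (I.cl (L o).inj))
  have u : UC p (ι o) (𝒜 o) (ι k) (𝒜 k) V _ := ⟨h, L o, L k, F.nle hk, ho, hZ, hV, hkV, hU', hU, hZV,
    le_cl hVE, l4, l5, by omega, el, cmV, cenV, c1, F.c1 o _ hZB, F.c1 k _ hVB, fun K => cl_le⟩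
  rcases (st _ (by omega) (hcl k V hVE hVB) (all hU' hU) (all u.hne u.hne')).2 with
    ⟨i, e1, -, -, -, e2⟩ | ⟨C, e1, e2, e3⟩
  · refine u.no_sp e1 ?_
    rcases hJ k o i hk with rfl | rfl
    exacts [Or.inr e2, Or.inl e2]
  · exact u.no_sq e2 e1 (e3 o) (e3 k)

variable {Ω : Type u} [Group Ω] {S : Subgroup Ω} {F : FusionSystem S} {E E' : Subgroup Ω}
  {p : ℕ} [hp : Fact p.Prime] [Finite S]

theorem no_hh (h : R3 p S) (h2 : ¬ SectionalPRankLE p 2 S) (hF : F.IsSaturated p) (hO : F.core = ⊥) :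
    ¬ HH p S := fun hH => by
  obtain ⟨z, z1, z2, z3, -, ⟨x, y, z4⟩, -⟩ := exists_z ((lg_of_index h.pg).2 hH)
  have zp : z ^ p = 1 := z1 ▸ pow_orderOf_eq_one z
  have hcm : ⁅S, S⁆ = (commutator S).map S.subtype := by
    rw [commutator_def, map_commutator, ← MonoidHom.range_eq_map, range_subtype]
  have := normal_of_le_center' (zpowers_le.2 z2)
  have := (center_le_zpowers h.pg hF (fun e => absurd h.odd (by simp [e])) hO
    (fun e => hp.out.one_lt.ne' (by rw [← z1, orderOf_eq_one_iff]; exact Subtype.ext (e.le z.2)))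
    (z := z) (congrArg Subtype.val zp) ((center_subgroupOf_self S).ge z2) (fun u _ hu => by
      obtain ⟨u, hu', rfl⟩ := hcm.le hu
      obtain ⟨i, rfl⟩ := commutator_le.2 (fun a _ b _ => z3 a b) hu'
      exact ⟨i, rfl⟩) (z4 ▸ commutator_mem_commutator x.2 y.2) fun R hR => Or.inl (by
      have hlt := essential_lt h.pg hF hR
      have k : center S ≤ R.subgroupOf S := fun u hu =>
        center_le_of_centric hR.1 ((center_subgroupOf_self S).ge hu)
      have l1 := lg_lt h.pg (le_top (a := R.subgroupOf S)) fun e => hlt.not_ge fun u hu =>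
        e (mem_top (⟨u, hu⟩ : S))
      have l2 := lg_lt h.pg k fun e => hlt.not_ge fun u hu => isCentric_self hR.1
        (mem_centralizerIn.2 ⟨hu, fun y hy => (congrArg Subtype.val (Subgroup.mem_center_iff.1
          (e (show (⟨y, hlt.le hy⟩ : S) ∈ R.subgroupOf S from hy)) ⟨u, hu⟩)).symm⟩)
      have e := relIndex_lg h.pg k (k := 1) (by unfold HH at hH; omega)
      rwa [← center_subgroupOf_self, relIndex_subgroupOf hR.1.1, pow_one] at e)).2
  refine h2 (h.rank_two hH ((lg_mono fun u hu => ?_).trans (lg_zp h.pg zp)))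
  obtain ⟨i, e⟩ := this ((center_subgroupOf_self S).ge hu)
  exact ⟨i, Subtype.ext e⟩

theorem two_char (h : R3 p S) (h2 : ¬ SectionalPRankLE p 2 S) (hF : F.IsSaturated p)
    (hO : F.core = ⊥) (hne : E ≠ E') (hE : ∀ R, R = E ∨ R = E' → F.IsEssential p R ∧
      ∀ φ ∈ F.autGroup S, (R.subgroupOf S).map φ.toMonoidHom = R.subgroupOf S) :
    ∃ R R', (R = E ∧ R' = E' ∨ R = E' ∧ R' = E) ∧ (R.subgroupOf S).index = p ∧
      (R'.subgroupOf S).index = p ∧ SP p (R.subgroupOf S) (R'.subgroupOf S) := by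
  have hI : Inn S ≤ F.autGroup S := autInducedBy_self S ▸ autInducedBy_le_autGroup F le_rfl
  have hN : ∀ j : {R // R = E ∨ R = E'}, normalizerIn S j.1 = S := fun j => inf_eq_left.2
    ((normal_subgroupOf_iff_le_normalizer (hE _ j.2).1.1.1).1 (normal_of_inv hI fun φ hφ x hx =>
      ((hE _ j.2).2 φ hφ).le ⟨x, hx, rfl⟩))
  have L := fun j : {R // R = E ∨ R = E'} => loc_of_essential h hF (hE _ j.2).1 (hN j) (hE _ j.2).1.1.1
  have : Nontrivial {R // R = E ∨ R = E'} :=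
    ⟨⟨⟨E, Or.inl rfl⟩, ⟨E', Or.inr rfl⟩, fun e => hne (congrArg Subtype.val e)⟩⟩
  have ext := fun j β => ext_norm' h.pg hF (hE _ j.2).1.1 (hN j) (hE _ j.2).1.1.1 (β := β)
  have A : Fam p _ _ (F.autGroup S) := ⟨h, L, fun i j e => Subtype.ext (by
    rw [inclusion_range, inclusion_range] at e
    rw [← map_subgroupOf_eq_of_le (hE _ i.2).1.1.1, e, map_subgroupOf_eq_of_le (hE _ j.2).1.1.1]), hI,
    fun j U hU α hα hn x hx => by
      obtain ⟨β, hβ, e⟩ := ext j α hα hn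
      exact e x ▸ hU β hβ _ hx, fun β hβ j U hU => by
      have hle := (hE _ j.2).1.1.1
      obtain ⟨e, he, he'⟩ := ((isMap_afn le_rfl hβ).mono hle).exists_isIso (Q := j.1)
        (img_afn_of_mem_stab hle (have := finite_of_le hle; mem_stab_of_maps hle fun x hx =>
          (afn_coe β ⟨x, hle hx⟩).symm ▸ ((hE _ j.2).2 β hβ).le ⟨⟨x, hle hx⟩, hx, rfl⟩))
      exact (I_congr e β (fun x => Subtype.ext ((he' x).trans (afn_coe β ⟨x, hle x.2⟩)))
        (fun α => he.congr_mem_iff) U).2 hU⟩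
  rcases tm (fun i j k e => by
    have := i.2; have := j.2; have := k.2
    simp only [ne_eq, Subtype.ext_iff] at e ⊢
    grind) _ A (Nat.lt_succ_self _) with ⟨i, j, hs, -⟩ | ⟨C, c, hC⟩
  · have i1 := (L i).idx
    have i2 := (L j).idx
    rw [inclusion_range] at i1 i2
    rw [inclusion_range, inclusion_range] at hs
    refine ⟨i, j, ?_, i1, i2, hs⟩
    have := i.2; have := j.2
    have : i.1 ≠ j.1 := fun e => (e ▸ hs).ne
    grind
  · obtain ⟨i, j, e⟩ := exists_pair_ne {R // R = E ∨ R = E'}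
    refine (no_hh h h2 hF hO ((L i).no_sq h (L j) (A.nle e.symm) (hC i) (hC j) c fun β hβ hn => ?_)).elim
    obtain ⟨γ, g1, g2⟩ := ext i β hβ hn
    exact ⟨γ, g2, fun x hx => (A.c2 γ g1 j _ I.top).le ⟨x, hx, rfl⟩⟩

theorem SP.types (h : R3 p S) (hF : F.IsSaturated p) (hE : F.IsEssential p E)
    (hE' : F.IsEssential p E') (i1 : (E.subgroupOf S).index = p) (i2 : (E'.subgroupOf S).index = p)
    (hs : SP p (E.subgroupOf S) (E'.subgroupOf S)) : IsExtraspecial p E' ∧ Nat.card E' = p ^ 3 ∧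
      (∀ x ∈ E', x ^ p = 1) ∧ IsElementaryAbelian p E ∧ Nat.card E = p ^ 3 := by
  have hc : ∀ R ≤ S, (R.subgroupOf S).index = p → Nat.card R = p ^ 3 := fun R hR i => by
    have := (idx_step h.pg i).1
    rw [← Nat.card_congr (subgroupOfEquivOfLe hR).toEquiv, card_lg h.pg,
      show lg p (R.subgroupOf S) = 3 by have := hs.l4; omega]
  have := finite_of_le hE'.1.1
  rcases (ess_of_essential h.pg hF hE').cube (hc _ hE'.1.1 i2) with ⟨e1, -⟩ | ⟨-, e1, e2⟩ | ⟨e1, -⟩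
  · exact (hs.na (commutator_le.2 fun x hx y hy => commutatorElement_eq_one_iff_mul_comm.2
      (Subtype.ext (congrArg Subtype.val (e1 ⟨x, hx⟩ ⟨y, hy⟩) :)))).elim
  · exact ⟨e1, hc _ hE'.1.1 i2, fun x hx => congrArg Subtype.val (e2 ⟨x, hx⟩), ⟨⟨⟨fun x y =>
      Subtype.ext (congrArg Subtype.val (commutatorElement_eq_one_iff_mul_comm.1 (cm_mem hs.el.cm
        (k := ⟨x, hE.1.1 x.2⟩) (u := ⟨y, hE.1.1 y.2⟩) x.2 y.2)) :)⟩⟩, fun x hx => congrArg Subtype.val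
        (hs.el.pw ⟨x, hE.1.1 hx⟩ hx)⟩, hc _ hE.1.1 i1⟩
  · exact absurd h.odd (by simp [e1])

end Cfsg.Agent.Fus.SR3
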