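import Mathlib
import Cfsg.Agent.Fus.Hyper
import Cfsg.Agent.Fus.FunctorGen
import Cfsg.Agent.Fus.GroupFus
import Cfsg.Agent.Grp.CritExp
import Cfsg.Agent.Grp.PChain

/-!
# Control of fusion by subgroups of small exponent of the hyperfocal subgroup
(Benson-Grodal-Henke, Henke-Liao)
-/

set_option autoImplicit false

namespace Cfsg.Agent.Fus
open Cfsg Cfsg.FusionSystem Cfsg.Agent.Grp Cfsg.Agent.Grp.CritExp

section Groups
variable {G : Type*} [Group G] [Finite G] {p : ℕ} [Fact p.Prime]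

theorem exists_small_invariant (hG : IsPGroup p G) {𝒜 : Subgroup (MulAut G)} {N : Subgroup G}
    (hN : ∀ a ∈ 𝒜, ∀ x ∈ N, a x ∈ N)
    (hc : ∀ a ∈ 𝒜, (orderOf a).Coprime p → ∀ x, x⁻¹ * a x ∈ N) :
    ∃ D : Subgroup G, D ≤ N ∧ (∀ a ∈ 𝒜, ∀ x ∈ D, a x ∈ D) ∧ (∀ d ∈ D, d ^ expQ p = 1) ∧
      ∀ a ∈ 𝒜, (orderOf a).Coprime p → (∀ d ∈ D, a d = d) → a = 1 := by
  obtain ⟨D, hD, h1, -, h3⟩ := exists_char (hG.to_subgroup N)
  have hρ : ∀ a ∈ 𝒜, ∃ b : MulAut N, (∀ x : N, (b x : G) = a x) ∧ orderOf b ∣ orderOf a := by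
    intro a ha
    let ρ : 𝒜 →* MulAut N :=
      { toFun := fun a =>
          { toFun := fun x => ⟨a.1 x, hN a a.2 x x.2⟩
            invFun := fun x => ⟨a.1⁻¹ x, hN _ (𝒜.inv_mem a.2) x x.2⟩
            left_inv := fun x => Subtype.ext (by simp)
            right_inv := fun x => Subtype.ext (by simp)
            map_mul' := fun x y => Subtype.ext (by simp) }
        map_one' := rfl
        map_mul' := fun _ _ => rfl }
    exact ⟨ρ ⟨a, ha⟩, fun _ => rfl, (orderOf_map_dvd ρ _).trans (by rw [Subgroup.orderOf_mk])⟩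
  refine ⟨D.map N.subtype, Subgroup.map_subtype_le _, ?_, ?_, fun a ha hco hfix => ?_⟩
  · rintro a ha _ ⟨x, hx, rfl⟩
    obtain ⟨b, e, -⟩ := hρ a ha
    exact ⟨b x, Subgroup.characteristic_iff_le_comap.1 hD b hx, e x⟩
  · rintro _ ⟨d, hd, rfl⟩
    exact congrArg Subtype.val (h1 d hd)
  · obtain ⟨b, e, o⟩ := hρ a ha
    have hb := h3 b (hco.coprime_dvd_left o) fun d hd =>
      Subtype.ext ((e d).trans (hfix _ ⟨d, hd, rfl⟩))
    ext x
    refine CommPow.mulAut_fix_of_isPGroup hG hco ?_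
    rw [← e ⟨_, hc a ha hco x⟩, hb]
    rfl

theorem exists_small_abelian (hG : IsPGroup p G) {𝒜 B : Subgroup (MulAut G)} {N : Subgroup G}
    (hI : Inn G ≤ 𝒜) (hB : SylIn p B 𝒜) (hN : ∀ a ∈ 𝒜, ∀ x ∈ N, a x ∈ N)
    (hc : ∀ a ∈ 𝒜, (orderOf a).Coprime p → ∀ x, x⁻¹ * a x ∈ N) :
    ∃ A : Subgroup G, A ≤ N ∧ A.Normal ∧ IsMulCommutative A ∧ (∀ d ∈ A, d ^ expQ p = 1) ∧
      ∀ a ∈ 𝒜, (∀ x ∈ A, a x = x) → a ∈ B := by
  obtain ⟨D, h1, h2, h3, h4⟩ := exists_small_invariant hG hN hc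
  have hD : D.Normal := ⟨fun x hx g => h2 (MulAut.conj g) (hI ⟨g, rfl⟩) x hx⟩
  have := hG.isNilpotent
  obtain ⟨A, ⟨a1, a2, a3⟩, hmax⟩ := Set.Finite.exists_maximal
    (s := {A : Subgroup G | A.Normal ∧ IsMulCommutative A ∧ A ≤ D}) (Set.toFinite _)
    ⟨⊥, inferInstance, inferInstance, bot_le⟩
  have hself : Subgroup.centralizer (A : Set G) ⊓ D ≤ A := by
    by_contra h
    obtain ⟨u, u1, u2, u3⟩ := PChain.exists_central_mod _ A h
    exact u2 (hmax ⟨PChain.normal_sup_zpowers u3, PChain.isMulCommutative_sup_zpowers a2 u1.1,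
      sup_le a3 (Subgroup.zpowers_le.2 u1.2)⟩ le_sup_left
      (Subgroup.mem_sup_right (Subgroup.mem_zpowers u)))
  let C : Subgroup (MulAut G) :=
    { carrier := {a | a ∈ 𝒜 ∧ ∀ x ∈ A, a x = x}
      one_mem' := ⟨𝒜.one_mem, fun _ _ => rfl⟩
      mul_mem' := fun {a b} ha hb => ⟨𝒜.mul_mem ha.1 hb.1, fun x hx => by
        rw [MulAut.mul_apply, hb.2 x hx, ha.2 x hx]⟩
      inv_mem' := fun {a} ha => ⟨𝒜.inv_mem ha.1, fun x hx => by
        conv_lhs => rw [← ha.2 x hx]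
        simp⟩ }
  have hC : IsPGroup p C := isPGroup_of_coprime_eq_one fun a ha hco => h4 a ha.1 hco fun d hd =>
    CommPow.mulAut_fix_of_isPGroup hG hco (ha.2 _ (hself ⟨fun x hx => by
      have := ha.2 _ (a1.conj_mem x hx d)
      rw [map_mul, map_mul, map_inv, ha.2 x hx] at this
      calc x * (d⁻¹ * a d) = d⁻¹ * (d * x * d⁻¹) * a d := by group
        _ = _ := by rw [← this]; group, D.mul_mem (D.inv_mem hd) (h2 a ha.1 d hd)⟩))
  obtain ⟨g, hg, e⟩ := hB.exists_conj hC fun a ha => ha.1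
  refine ⟨A.map g.toMonoidHom, ?_, a1.map _ g.surjective, Subgroup.map_isMulCommutative _ _, ?_,
    fun a ha hfix => ?_⟩
  · rintro _ ⟨x, hx, rfl⟩
    exact hN g hg x (h1 (a3 hx))
  · rintro _ ⟨x, hx, rfl⟩
    rw [← map_pow, h3 x (a3 hx), map_one]
  · have := e (g⁻¹ * a * g) ⟨𝒜.mul_mem (𝒜.mul_mem (𝒜.inv_mem hg) ha) hg, fun x hx => by
      rw [MulAut.mul_apply, MulAut.mul_apply, hfix (g x) ⟨x, hx, rfl⟩]
      simp⟩
    simpa [mul_assoc] using this

end Groups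

variable {Ω : Type*} [Group Ω] {S : Subgroup Ω} [Finite S] {F E : FusionSystem S}
  {P Q : Subgroup Ω} {p : ℕ} [Fact p.Prime]

theorem exists_small_invariant_hyp (hS : IsPGroup p S) (hF : F.IsSaturated p) (hP : P ≤ S) :
    ∃ D : Subgroup Ω, D ≤ P ∧ D ≤ F.hyperfocalSubgroup p ∧
      (∀ α ∈ F.autGroup P, ∀ x ∈ D, afn α x ∈ D) ∧ (∀ d ∈ D, d ^ expQ p = 1) ∧
      ∀ α ∈ F.autGroup P, (orderOf α).Coprime p → (∀ d ∈ D, afn α d = d) → α = 1 := by
  have := finite_of_le hP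
  obtain ⟨D, h1, h2, h3, h4⟩ := exists_small_invariant (isPGroup_of_le hS hP) (𝒜 := F.autGroup P)
    (N := (F.hyperfocalSubgroup p).subgroupOf P) (fun a ha x hx => by
      have := (isMap_afn hP ha).mem_of_stronglyClosed (stronglyClosed_hyp hS hF) x.2 hx
      rwa [afn_coe] at this) fun a ha hc x => by
      have := mem_hyp_of_coprime hP ha hc x.2
      rwa [afn_coe] at this
  refine ⟨D.map P.subtype, Subgroup.map_subtype_le _, ?_, ?_, ?_, fun a ha hc h => h4 a ha hc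
    fun d hd => Subtype.ext (by rw [← afn_coe]; exact h _ ⟨d, hd, rfl⟩)⟩
  · rintro _ ⟨x, hx, rfl⟩
    exact h1 hx
  · rintro a ha _ ⟨x, hx, rfl⟩
    exact ⟨_, h2 a ha x hx, (afn_coe a x).symm⟩
  · rintro _ ⟨x, hx, rfl⟩
    exact congrArg Subtype.val (h3 x hx)

theorem exists_small_abelian_hyp (hS : IsPGroup p S) (hF : F.IsSaturated p)
    (hP : F.IsFullyNormalized P) :
    ∃ A : Subgroup Ω, A ≤ P ∧ A ≤ F.hyperfocalSubgroup p ∧ P ≤ normalizerIn S A ∧
      (∀ x ∈ A, ∀ y ∈ A, x * y = y * x) ∧ (∀ d ∈ A, d ^ expQ p = 1) ∧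
      ∀ α ∈ F.autGroup P, (∀ d ∈ A, afn α d = d) → α ∈ autInducedBy S P := by
  have := finite_of_le hP.1
  obtain ⟨A, h1, h2, h3, h4, h5⟩ := exists_small_abelian (isPGroup_of_le hS hP.1)
    ((inn_le_autInducedBy hP.1).trans (autInducedBy_le_autGroup F hP.1))
    (sat_fullyAutomized hS hF hP).2
    (N := (F.hyperfocalSubgroup p).subgroupOf P) (fun a ha x hx => by
      have := (isMap_afn hP.1 ha).mem_of_stronglyClosed (stronglyClosed_hyp hS hF) x.2 hx
      rwa [afn_coe] at this) fun a ha hc x => by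
      have := mem_hyp_of_coprime hP.1 ha hc x.2
      rwa [afn_coe] at this
  refine ⟨A.map P.subtype, Subgroup.map_subtype_le _, ?_,
    fun g hg => mem_normalizerIn_of_conj' (hP.1 hg) ?_ ?_, ?_, ?_, fun a ha h => h5 a ha
    fun d hd => Subtype.ext (by rw [← afn_coe]; exact h _ ⟨d, hd, rfl⟩)⟩
  · rintro _ ⟨x, hx, rfl⟩
    exact h1 hx
  · rintro _ ⟨x, hx, rfl⟩
    exact ⟨_, h2.conj_mem x hx ⟨g, hg⟩, rfl⟩
  · rintro _ ⟨x, hx, rfl⟩
    exact ⟨_, h2.conj_mem' x hx ⟨g, hg⟩, rfl⟩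
  · rintro _ ⟨x, hx, rfl⟩ _ ⟨y, hy, rfl⟩
    exact congrArg Subtype.val (PChain.commute_of_mem h3 hx hy).eq
  · rintro _ ⟨x, hx, rfl⟩
    exact congrArg Subtype.val (h4 x hx)

/-- **Benson-Grodal-Henke, Henke-Liao.** -/
theorem le_of_small_abelian (hS : IsPGroup p S) (hE : E.IsSaturated p) (hF : F.IsSaturated p)
    (hEF : E ≤ F) (h : ∀ A f, A ≤ F.hyperfocalSubgroup p → (∀ x ∈ A, ∀ y ∈ A, x * y = y * x) →
      (∀ d ∈ A, d ^ expQ p = 1) → IsMap F A f → IsMap E A f) : F ≤ E := by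
  refine le_of_aut_fullyNormalized hS hF E fun Q hQ ih φ hφ => ?_
  obtain ⟨A, hAQ, hAh, hQA, hAc, hAe, hA⟩ := exists_small_abelian_hyp hS hF hQ
  have up : ∀ {P f}, IsMap E P f → IsMap F P f := fun hf => le_iff_isMap.1 hEF _ _ hf
  have hm := isMap_afn hQ.1 hφ
  have hm' := isMap_afn hQ.1 ((F.autGroup Q).inv_mem hφ)
  obtain ⟨β₁, hβ₁, hA'⟩ := sat_exists_fullyNormalized_map hS hE (hAQ.trans hQ.1)
  replace hβ₁ := hβ₁.mono hQA
  have hB : ∀ {b}, b ∈ img A (afn φ⁻¹) ↔ ∃ a ∈ A, afn φ⁻¹ a = b := (hm'.mono hAQ).mem_img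
  have hBQ : img A (afn φ⁻¹) ≤ Q := img_le_iff.2 fun x hx => afn_mem _ (hAQ hx)
  have hk : IsMap E (img A (afn φ⁻¹)) fun x => β₁ (afn φ x) := by
    refine h _ _ (img_le_iff.2 fun x hx => hm'.mem_of_stronglyClosed (stronglyClosed_hyp hS hF)
      (hAQ hx) (hAh hx)) ?_ ?_ (((up hβ₁).comp' hm fun x hx => afn_mem φ hx).mono hBQ)
    · intro x hx y hy
      obtain ⟨a, ha, rfl⟩ := hB.1 hx
      obtain ⟨b, hb, rfl⟩ := hB.1 hy
      rw [← hm'.map_mul (hAQ ha) (hAQ hb), hAc a ha b hb, hm'.map_mul (hAQ hb) (hAQ ha)]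
    · intro x hx
      obtain ⟨a, ha, rfl⟩ := hB.1 hx
      rw [← hm'.map_pow (hAQ ha), hAe a ha, hm'.map_one]
  have hi : img (img A (afn φ⁻¹)) (fun x => β₁ (afn φ x)) = img A β₁ := by
    rw [(hm'.mono hAQ).homOn.img_img]
    exact img_congr fun x hx => by simp only [Function.comp, afn_afn_inv _ (hAQ hx)]
  obtain ⟨β, hβ, eβ⟩ := sat_extend (R := Q) hS hE hk (hi ▸ sat_fullyCentralized hS hE hA')
    fun q hq => ⟨by
      have := hm'.mem_normalizerIn_img hAQ (afn_mem φ hq) (hQA (afn_mem φ hq))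
      rwa [afn_inv_afn _ hq] at this, β₁ (afn φ q), hβ₁.mem (afn_mem φ hq), fun x hx => by
      beta_reduce
      rw [hm.map_conj hq (hBQ hx), hβ₁.map_conj (afn_mem φ hq) (afn_mem φ (hBQ hx))]⟩
  have eA : ∀ a ∈ A, β (afn φ⁻¹ a) = β₁ a := fun a ha => by
    rw [eβ _ (mem_img_of_mem _ ha), afn_afn_inv _ (hAQ ha)]
  obtain ⟨β', hβ', e1, e2⟩ := hβ.exists_inv
  by_cases hC : centralizerIn S (img A β₁) ≤ img Q β
  · have h1 : ∀ q ∈ Q, β₁ q ∈ img Q β := fun q hq => by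
      have hq' := afn_mem φ⁻¹ hq
      have h2 : (β (afn φ⁻¹ q))⁻¹ * β₁ q ∈ centralizerIn S (img A β₁) := by
        refine mem_centralizerIn.2 ⟨S.mul_mem (S.inv_mem (hβ.mem hq')) (hβ₁.mem hq), fun y hy => ?_⟩
        obtain ⟨a, ha, rfl⟩ := (hβ₁.mono hAQ).mem_img.1 hy
        have h3 := eA _ (conj_mem_of_mem_normalizerIn (hQA hq) ha)
        rw [hm'.map_conj hq (hAQ ha), hβ.map_conj hq' (afn_mem _ (hAQ ha)), eA a ha,
          hβ₁.map_conj hq (hAQ ha)] at h3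
        calc β₁ a * ((β (afn φ⁻¹ q))⁻¹ * β₁ q)
            = (β (afn φ⁻¹ q))⁻¹ * (β (afn φ⁻¹ q) * β₁ a * (β (afn φ⁻¹ q))⁻¹) * β₁ q := by group
          _ = _ := by rw [h3]; group
      simpa using Subgroup.mul_mem _ (mem_img_of_mem β hq') (hC h2)
    obtain ⟨χ, hχ, eχ⟩ := (hβ'.comp' hβ₁ h1).exists_aut' fun q hq => (e2 _ (h1 q hq)).1
    have h4 := hA (φ * χ) (Subgroup.mul_mem _ hφ
      (autGroup_mono (isSubsystemOf_iff.2 fun _ _ => up) Q hχ)) fun a ha => by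
        rw [afn_mul _ _ (hAQ ha), eχ a (hAQ ha), ← eA a ha, e1 _ (afn_mem _ (hAQ ha)),
          afn_afn_inv _ (hAQ ha)]
    simpa using Subgroup.mul_mem _ (autInducedBy_le_autGroup E hQ.1 h4) (Subgroup.inv_mem _ hχ)
  · have hAβ : img A β₁ = img (img A (afn φ⁻¹)) β := by rw [← hi]; exact (img_congr eβ).symm
    have hQN : img Q β ≤ normalizerIn S (img A β₁) := img_le_iff.2 fun q hq => by
      rw [hAβ]
      refine hβ.mem_normalizerIn_img hBQ hq ?_
      have := hm'.mem_normalizerIn_img hAQ (afn_mem φ hq) (hQA (afn_mem φ hq))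
      rwa [afn_inv_afn _ hq] at this
    have : ∃ x ∈ centralizerIn S (img A β₁), x ∈ normalizerIn S (img Q β) ∧ x ∉ img Q β := by
      by_contra h1
      push Not at h1
      exact hC (le_of_normalizer_le hS inf_le_left
        (hQN.trans (le_inf inf_le_left (normalizerIn_le_normalizer_centralizerIn le_rfl))) h1)
    obtain ⟨x, hxC, hxN, hx⟩ := this
    have hδ : IsMap F (img Q β) fun y => afn φ (β' y) := hm.comp' (up hβ') fun y hy => (e2 y hy).1
    have hε : IsMap F Q fun y => β (afn φ⁻¹ y) := (up hβ).comp' hm' fun y hy => afn_mem _ hy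
    have hεm : ∀ y ∈ Q, x * β (afn φ⁻¹ y) * x⁻¹ ∈ img Q β := fun y hy =>
      conj_mem_of_mem_normalizerIn hxN (mem_img_of_mem β (afn_mem _ hy))
    obtain ⟨θ, hθ, eθ⟩ := (hδ.comp' ((isMap_conj F le_rfl hxC.1).comp' hε fun y hy => hε.mem hy)
      hεm).exists_aut' fun y hy => afn_mem _ (e2 _ (hεm y hy)).1
    obtain ⟨s, hs, es⟩ := mem_autInducedBy.1 (hA θ hθ fun a ha => by
      rw [eθ a (hAQ ha), eA a ha, ← (mem_centralizerIn.1 hxC).2 _ (mem_img_of_mem β₁ ha),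
        mul_inv_cancel_right, ← eA a ha, e1 _ (afn_mem _ (hAQ ha)), afn_afn_inv _ (hAQ ha)])
    have hxf : x ∈ Nf S (img Q β) fun y => afn φ (β' y) := ⟨hxN, s, hs, fun y hy => by
      rw [← es _ (afn_mem φ (e2 y hy).1), eθ _ (afn_mem φ (e2 y hy).1), afn_inv_afn _ (e2 y hy).1,
        (e2 y hy).2]⟩
    obtain ⟨g, hg, eg⟩ := receptive_extend (sat_receptive_of_fullyNormalized hS hF hQ) hδ
      (img_eq_of (fun y hy => afn_mem _ (e2 y hy).1) fun y hy => ⟨β (afn φ⁻¹ y),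
        mem_img_of_mem β (afn_mem _ hy), by rw [e1 _ (afn_mem _ hy), afn_afn_inv _ hy]⟩) le_rfl
    have hlt : img Q β < Nf S (img Q β) fun y => afn φ (β' y) :=
      lt_of_le_of_ne hδ.le_Nf fun e => hx (e ▸ hxf)
    have hgE := (ih _ g (hβ.card_img ▸ card_lt_of_lt_of_le hlt Nf_le) hg).mono hlt.le
    exact mem_autGroup_of_isMap (hgE.comp' hβ fun y hy => mem_img_of_mem β hy) fun y hy => by
      rw [eg _ (mem_img_of_mem β hy), e1 y hy]

/-- If the terms of the upper central series of `S` are closed under the fusion of the elements of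
order dividing `p` (or `4`) of the hyperfocal subgroup, then `S` is normal. -/
theorem isNormal_top_of_small_cyclic (hS : IsPGroup p S) (hF : F.IsSaturated p)
    (h : ∀ x ∈ F.hyperfocalSubgroup p, x ^ expQ p = 1 → ∀ f, IsMap F (Subgroup.zpowers x) f →
      ∃ α : MulAut S, f x = afn α x) : F.IsNormal S := by
  refine isNormal_of_le_cr hS hF (weaklyClosed_of_stronglyClosed (stronglyClosed_top F))
    fun R h1 h2 h3 => le_of_normalizer_le hS le_rfl (le_inf h1.1 (h1.1.trans Subgroup.le_normalizer))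
      fun x _ hx => ?_
  obtain ⟨D, d1, d2, d3, d4, d5⟩ := exists_small_invariant_hyp hS hF h1.1
  have := finite_of_le h1.1
  let U : ℕ → Subgroup Ω := fun i => D ⊓ (Subgroup.upperCentralSeries S i).map S.subtype
  have hU : ∀ i, ∀ α ∈ F.autGroup R, ∀ y ∈ R, y ∈ U i → afn α y ∈ U i := fun i α hα y hy hyU => by
    obtain ⟨β, e⟩ := h y (d2 hyU.1) (d4 y hyU.1) _
      ((isMap_afn h1.1 hα).mono (Subgroup.zpowers_le.2 hy))
    refine ⟨d3 α hα y hyU.1, ?_⟩
    obtain ⟨z, hz, rfl⟩ := hyU.2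
    rw [e]
    exact ⟨β z, Subgroup.characteristic_iff_le_comap.1 inferInstance β hz, (afn_coe β z).symm⟩
  refine mem_of_pairs (h2.2 R (isConj_refl F h1.1)) h3 U (fun i => U (i + 1)) hU
    (fun i => hU (i + 1)) (fun α hα hc hs y hy => ?_) hx fun i y hy hyU => ⟨?_, ?_⟩
  · have key : ∀ i, ∀ y ∈ R, y ∈ U i → afn α y = y := by
      intro i
      induction i with
      | zero =>
        rintro y - ⟨-, z, hz, rfl⟩
        rw [show z = 1 from hz, map_one, (homOn_afn α).map_one]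
      | succ i ih => exact fun y hy hyU => fix_of_step (isPGroup_of_le hS h1.1) hc ih hy (hs i y hy hyU)
    have := hS.isNilpotent
    rw [d5 α hα hc fun d hd => key (Group.nilpotencyClass S) d (d1 hd) ⟨hd, ⟨d, h1.1 (d1 hd)⟩,
      by rw [Subgroup.upperCentralSeries_nilpotencyClass]; trivial, rfl⟩, afn_one]
  · refine D.mul_mem ?_ (D.inv_mem hyU.1)
    rw [← afn_conjAut hx.2 hy]
    exact d3 _ (autInducedBy_le_autGroup F h1.1 (conjAut_mem_autInducedBy hx)) y hyU.1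
  · obtain ⟨z, hz, rfl⟩ := hyU.2
    have := Subgroup.inv_mem _ (Subgroup.mem_upperCentralSeries_succ_iff.1 hz ⟨x, hx.1⟩)
    refine ⟨_, this, ?_⟩
    simp [commutatorElement_def, mul_assoc]

theorem le_of_homSet_eq (hS : IsPGroup p S) (hE : E.IsSaturated p) (hF : F.IsSaturated p)
    (hEF : E.IsSubsystemOf F)
    (hodd : p ≠ 2 → ∀ A B : Subgroup Ω, A ≤ F.hyperfocalSubgroup p → B ≤ F.hyperfocalSubgroup p →
      IsElementaryAbelian p A → IsElementaryAbelian p B → E.homSet A B = F.homSet A B)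
    (htwo : p = 2 → ∀ A B : Subgroup Ω, A ≤ F.hyperfocalSubgroup p → B ≤ F.hyperfocalSubgroup p →
      IsMulCommutative A → IsMulCommutative B → (∀ a ∈ A, a ^ 4 = 1) → (∀ b ∈ B, b ^ 4 = 1) →
      E.homSet A B = F.homSet A B) : F ≤ E := by
  refine le_of_small_abelian hS hE hF hEF fun A f h1 h2 h3 hf => ?_
  have b1 : img A f ≤ F.hyperfocalSubgroup p := img_le_iff.2 fun x hx =>
    hf.mem_of_stronglyClosed (stronglyClosed_hyp hS hF) hx (h1 hx)
  have a2 : IsMulCommutative A := PChain.isMulCommutative_of_commute h2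
  have b2 : IsMulCommutative (img A f) := PChain.isMulCommutative_of_commute fun x hx y hy => by
    obtain ⟨a, ha, rfl⟩ := hf.mem_img.1 hx
    obtain ⟨b, hb, rfl⟩ := hf.mem_img.1 hy
    rw [Commute, SemiconjBy, ← hf.map_mul ha hb, h2 a ha b hb, hf.map_mul hb ha]
  have b3 : ∀ y ∈ img A f, y ^ expQ p = 1 := fun y hy => by
    obtain ⟨a, ha, rfl⟩ := hf.mem_img.1 hy
    rw [← hf.map_pow ha, h3 a ha, hf.map_one]
  have key : E.homSet A (img A f) = F.homSet A (img A f) := by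
    by_cases hp : p = 2
    · subst hp
      exact htwo rfl A _ h1 b1 a2 b2 h3 b3
    · rw [expQ_of_ne hp] at h3 b3
      exact hodd hp A _ h1 b1 ⟨a2, h3⟩ ⟨b2, b3⟩
  exact ⟨_, (key.ge ⟨hf.toHom_mem, fun x => mem_img_of_mem f x.2⟩).1, fun _ => rfl⟩

theorem small_cyclic_of_homSet (hS : IsPGroup p S) (hF : F.IsSaturated p)
    {M : ∀ A : Subgroup Ω, Set (A →* Ω)}
    (h : ∀ A B : Subgroup Ω, A ≤ F.hyperfocalSubgroup p → B ≤ F.hyperfocalSubgroup p →
      IsCyclic A → (Nat.card A = p ∨ Nat.card A = 4) → IsCyclic B →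
      (Nat.card B = p ∨ Nat.card B = 4) → F.homSet A B ⊆ M A)
    {x : Ω} (hx : x ∈ F.hyperfocalSubgroup p) (hq : x ^ expQ p = 1) (h1 : x ≠ 1) {f : Ω → Ω}
    (hf : IsMap F (Subgroup.zpowers x) f) : hf.homOn.toHom ∈ M _ := by
  have hc : Nat.card (Subgroup.zpowers x) = p ∨ Nat.card (Subgroup.zpowers x) = 4 := by
    rw [Nat.card_zpowers]
    by_cases h2 : x ^ p = 1
    · exact Or.inl (orderOf_eq_prime h2 h1)
    · obtain ⟨rfl, h3⟩ := (pow_expQ_eq_one_iff.1 hq).resolve_left h2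
      exact Or.inr (orderOf_eq_prime_pow (p := 2) (n := 1) h2 h3)
  have hle := Subgroup.zpowers_le.2 hx
  refine h _ (img (Subgroup.zpowers x) f) hle (img_le_iff.2 fun y hy =>
    hf.mem_of_stronglyClosed (stronglyClosed_hyp hS hF) hy (hle hy)) inferInstance hc ?_
    (hf.card_img ▸ hc) ⟨hf.toHom_mem, fun x => mem_img_of_mem f x.2⟩
  rw [hf.homOn.img_eq_range]
  exact isCyclic_of_surjective _ (MonoidHom.rangeRestrict_surjective _)

theorem eq_inner_of_small_cyclic (hS : IsPGroup p S) (hF : F.IsSaturated p)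
    (h : ∀ x ∈ F.hyperfocalSubgroup p, x ^ expQ p = 1 → ∀ f, IsMap F (Subgroup.zpowers x) f →
      ∃ s ∈ S, f x = s * x * s⁻¹) : F = innerFusionSystem S := by
  have hn := isNormal_top_of_small_cyclic hS hF fun x hx hq f hf => by
    obtain ⟨s, hs, e⟩ := h x hx hq f hf
    exact ⟨conjAut S s (Subgroup.le_normalizer hs), by rw [e, afn_conjAut _ (hyp_le F p hx)]⟩
  refine eq_inner_of_isPGroup_cr hS hF fun P h1 h2 h3 => ?_
  obtain rfl : P = S := le_antisymm h1.1 (le_of_isNormal_of_cr hS hn h2 h3)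
  obtain ⟨D, d1, d2, d3, d4, d5⟩ := exists_small_invariant_hyp hS hF le_rfl
  refine isPGroup_of_coprime_eq_one fun α hα hc => ?_
  have key : ∀ i, ∀ y ∈ P, y ∈ D ⊓ (Subgroup.upperCentralSeries P i).map P.subtype →
      afn α y = y := by
    intro i
    induction i with
    | zero =>
      rintro y - ⟨-, z, hz, rfl⟩
      rw [show z = 1 from hz, map_one, (homOn_afn α).map_one]
    | succ i ih =>
      refine fun y hy hyU => fix_of_step hS hc ih hy
        ⟨D.mul_mem (d3 α hα y hyU.1) (D.inv_mem hyU.1), ?_⟩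
      obtain ⟨s, hs, e⟩ := h y (d2 hyU.1) (d4 y hyU.1) _
        ((isMap_afn le_rfl hα).mono (Subgroup.zpowers_le.2 hy))
      obtain ⟨z, hz, rfl⟩ := hyU.2
      have := Subgroup.inv_mem _ (Subgroup.mem_upperCentralSeries_succ_iff.1 hz ⟨s, hs⟩)
      refine ⟨_, this, ?_⟩
      rw [e]
      simp [commutatorElement_def, mul_assoc]
  have := hS.isNilpotent
  exact d5 α hα hc fun d hd => key (Group.nilpotencyClass P) d (d1 hd) ⟨hd, ⟨d, d1 hd⟩,
    by rw [Subgroup.upperCentralSeries_nilpotencyClass]; trivial, rfl⟩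

end Cfsg.Agent.Fus
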