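import Mathlib
import Cfsg.Agent.Fus.FunctorGen
import Cfsg.Agent.Fus.FunctorInst
import Cfsg.Agent.Fus.AutCop
import Cfsg.Agent.PLocal.ZJ
import Cfsg.Agent.Grp.PFrattini

/-!
# The closure of `Z(S)` in a constrained fusion system
-/

set_option autoImplicit false
universe u

namespace Cfsg.Agent.Fus
open Cfsg Cfsg.FusionSystem

open Polynomial in
theorem prime_pow_mul_eq_zero_comm {R : Type*} [CommRing R] {p : ℕ} (hp : p.Prime) (D : R) (h1 : (D + 1) ^ p = 1)
    (n : ℕ) (hn : D ^ (n * (p - 1) + 1) = 0) : (p : R) ^ n * D = 0 := by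
  obtain ⟨r, hr⟩ := exists_add_pow_prime_eq hp (X : ℤ[X]) 1
  have h0 : r.coeff 0 = 1 := by
    have := congrArg (fun f => coeff f 1) hr
    simp only [coeff_X_add_one_pow, Nat.choose_one_right, one_pow, mul_one, coeff_add,
      coeff_X_pow, coeff_one, hp.one_lt.ne, if_false, one_ne_zero, zero_add] at this
    rw [mul_assoc, ← C_eq_natCast, coeff_C_mul, coeff_X_mul] at this
    exact (mul_eq_left₀ (by exact_mod_cast hp.ne_zero)).1 this.symm
  have h2 : r = 1 + X * r.divX := by
    conv_lhs => rw [← X_mul_divX_add r, h0]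
    simp [add_comm]
  have h3 := congrArg (aeval D) hr
  rw [h2] at h3
  simp only [map_pow, map_add, map_mul, aeval_X, map_one, map_natCast, one_pow, mul_one, h1] at h3
  set u := 1 + D * aeval D r.divX
  have hu : IsUnit u := IsNilpotent.isUnit_one_add
    ((Commute.all _ _).isNilpotent_mul_right ⟨_, hn⟩)
  have h4 : p * D * u = -(D ^ (p - 1) * D) := by
    rw [← pow_succ, Nat.sub_add_cancel hp.one_le]; linear_combination -h3
  have key : ∀ k : ℕ, (p : R) ^ k * D * u ^ k = (-1) ^ k * D ^ (k * (p - 1) + 1) := by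
    intro k
    induction k with
    | zero => simp
    | succ k ih =>
      have : (p : R) ^ (k + 1) * D * u ^ (k + 1) = (p : R) ^ k * u ^ k * (p * D * u) := by ring
      rw [this, h4]
      have : (k + 1) * (p - 1) + 1 = (k * (p - 1) + 1) + (p - 1) := by ring
      rw [this, pow_add D]
      linear_combination (-D ^ (p - 1)) * ih
  exact (hu.pow n).mul_left_eq_zero.1 (by rw [key, hn, mul_zero])

theorem prime_pow_mul_eq_zero {R : Type*} [Ring R] {p : ℕ} (hp : p.Prime) (D : R) (h1 : (D + 1) ^ p = 1)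
    (n : ℕ) (hn : D ^ (n * (p - 1) + 1) = 0) : (p : R) ^ n * D = 0 := by
  have := prime_pow_mul_eq_zero_comm hp (⟨D, Algebra.self_mem_adjoin_singleton ℤ D⟩ : Algebra.adjoin ℤ {D})
    (Subtype.ext h1) n (Subtype.ext hn)
  exact congrArg Subtype.val this

open scoped commutatorElement in
theorem pow_comm_of_class {Ω : Type*} [Group Ω] {S Z : Subgroup Ω} {p : ℕ} (hp : p.Prime)
    (hZ : Z ≤ S) (hc : ∀ x ∈ Z, ∀ y ∈ Z, x * y = y * x) {t : Ω} (ht : t ∈ S)
    (hn : t ∈ Subgroup.normalizer (Z : Set Ω)) (htp : ∀ x ∈ Z, t ^ p * x = x * t ^ p) (n : ℕ)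
    (hcl : S.lowerCentralSeries (n * (p - 1) + 1) = ⊥) {z : Ω} (hz : z ∈ Z) :
    t * z ^ p ^ n = z ^ p ^ n * t := by
  let _ : CommGroup Z := { (inferInstance : Group Z) with
    mul_comm := fun x y => Subtype.ext (hc x x.2 y y.2) }
  let φ : MulAut Z := Z.normalizerMonoidHom ⟨t, hn⟩
  let T : MulAut Z →* AddMonoid.End (Additive Z) :=
    { toFun := fun φ => MonoidHom.toAdditive φ.toMonoidHom
      map_one' := rfl
      map_mul' := fun _ _ => rfl }
  have hφ : φ ^ p = 1 := by
    rw [← map_pow]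
    ext x
    change t ^ p * x * (t ^ p)⁻¹ = x
    rw [htp x x.2, mul_inv_cancel_right]
  have hD : ∀ k : ℕ, ∀ x : Z, ((Additive.toMul (((T φ - 1) ^ k) (Additive.ofMul x)) : Z) : Ω) ∈
      S.lowerCentralSeries k := by
    intro k x
    induction k with
    | zero => exact hZ x.2
    | succ k ih =>
      rw [pow_succ', Subgroup.lowerCentralSeries_succ, Subgroup.commutator_comm]
      have := Subgroup.commutator_mem_commutator ht ih
      rw [commutatorElement_def] at this
      convert this using 1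
      rw [← div_eq_mul_inv]
      rfl
  have := prime_pow_mul_eq_zero hp (T φ - 1) (by rw [sub_add_cancel, ← map_pow, hφ, map_one]) n (by
    ext x
    have := hD (n * (p - 1) + 1) (Additive.toMul x)
    rw [hcl, Subgroup.mem_bot] at this
    exact this)
  have h2 := congrArg (fun f : AddMonoid.End (Additive Z) =>
    ((Additive.toMul (f (Additive.ofMul ⟨z, hz⟩)) : Z) : Ω)) this
  rw [← Nat.cast_pow, (Nat.cast_commute _ _).eq] at h2
  change ((φ (⟨z, hz⟩ ^ p ^ n) / (⟨z, hz⟩ ^ p ^ n) : Z) : Ω) = 1 at h2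
  rw [OneMemClass.coe_eq_one, div_eq_one] at h2
  exact mul_inv_eq_iff_eq_mul.1 (congrArg Subtype.val h2)

variable {Ω : Type*} [Group Ω] {S : Subgroup Ω} {F : FusionSystem S} {p : ℕ}

/-- The subgroup generated by the `Aut_F(O_p(F))`-conjugates of `Z(S)`. -/
def zcl (F : FusionSystem S) : Subgroup Ω :=
  Subgroup.closure {y | ∃ α ∈ F.autGroup F.core, ∃ z ∈ centralizerIn S S, y = afn α z}

theorem center_le_zcl (F : FusionSystem S) : centralizerIn S S ≤ zcl F := fun z hz =>
  Subgroup.subset_closure ⟨1, Subgroup.one_mem _, z, hz, (afn_one z).symm⟩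

theorem isNormal_powerClosure [Finite S] {Z : Subgroup Ω} (hZ : F.IsNormal Z) (n : ℕ) :
    F.IsNormal (powerClosure p n Z) := by
  have hle := Grp.Reg.powerClosure_le (p := p) n Z
  have := finite_of_le (hle.trans hZ.1)
  refine isNormal_of_invariant hZ hle fun α hα => ((isMap_afn hZ.1 hα).mono hle).img_eq_self ?_
  refine HomOn.mem_of_closure ((homOn_afn α).mono hle) ?_
  rintro _ ⟨x, hx, rfl⟩
  rw [(homOn_afn α).map_pow hx]
  exact Grp.Reg.pow_mem_powerClosure (afn_mem α hx)

variable [Finite S] [hp : Fact p.Prime]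

theorem centralizerIn_core_le (h : F.IsConstrained p) : centralizerIn S F.core ≤ F.core := by
  obtain ⟨-, Q, h1, h2⟩ := h
  exact (centralizerIn_anti (le_core h1)).trans
    ((h2.2 Q (isConj_refl F h1.1)).trans (le_core h1))

theorem zcl_le (h : F.IsConstrained p) : zcl F ≤ F.core ⊓ centralizerIn S F.core := by
  refine (Subgroup.closure_le _).2 ?_
  rintro _ ⟨α, hα, z, hz, rfl⟩
  have hz' := centralizerIn_anti (core_le F) hz
  exact ⟨afn_mem α (centralizerIn_core_le h hz'), (isMap_afn (core_le F) hα).mem_centralizerIn_of_img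
    le_rfl (img_afn α) (centralizerIn_core_le h hz') hz'⟩

theorem zcl_comm (h : F.IsConstrained p) : ∀ x ∈ zcl F, ∀ y ∈ zcl F, x * y = y * x :=
  fun x hx _ hy => (mem_centralizerIn.1 (zcl_le h hy).2).2 x (zcl_le h hx).1

theorem isNormal_zcl (h : F.IsConstrained p) : F.IsNormal (zcl F) := by
  have hle : zcl F ≤ F.core := (zcl_le h).trans inf_le_left
  have := finite_of_le (hle.trans (core_le F))
  refine isNormal_of_invariant (isNormal_core F) hle fun α hα =>
    ((isMap_afn (core_le F) hα).mono hle).img_eq_self ?_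
  refine HomOn.mem_of_closure ((homOn_afn α).mono hle) ?_
  rintro _ ⟨β, hβ, z, hz, rfl⟩
  exact Subgroup.subset_closure ⟨α * β, Subgroup.mul_mem _ hα hβ, z, hz,
    (afn_mul _ _ (hle (center_le_zcl F hz))).symm⟩

/-- An element of `S` acting trivially on `Z / ℧¹(Z)` centralizes `Z`. -/
theorem comm_zcl_of_mod (hS : IsPGroup p S) (h : F.IsConstrained p) {s : Ω} (hs : s ∈ S)
    (hm : ∀ z ∈ zcl F, z⁻¹ * (s * z * s⁻¹) ∈ powerClosure p 1 (zcl F)) :
    ∀ z ∈ zcl F, s * z = z * s := by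
  have hZ := isNormal_zcl h
  have hle : zcl F ≤ F.core := (zcl_le h).trans inf_le_left
  have hsc := stronglyClosed_of_isNormal (isNormal_powerClosure (p := p) hZ 1)
  have := finite_of_le hZ.1
  have hsn : s ∈ normalizerIn S (zcl F) := (normalizerIn_eq_of_isNormal hZ).ge hs
  have hK := trivMod_inf_le hS h.1 hsc (fullyNormalized_of_weaklyClosed (weaklyClosed_of_isNormal hZ))
    (isPGroup_of_coprime_eq_one fun α hα hc => AC.eq_one_of_frattini (isPGroup_of_le hS hZ.1) hc
      fun y => by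
        have h1 : powerClosure p 1 (zcl F) ≤ (frattini (zcl F)).map (zcl F).subtype :=
          Grp.Reg.powerClosure_le_iff.2 fun x hx => ⟨⟨x, hx⟩ ^ p,
            Grp.PFrattini.pow_mem_frattini (isPGroup_of_le hS hZ.1) _, by rw [pow_one]; rfl⟩
        obtain ⟨w, hw, e⟩ := h1 (mem_trivMod.1 hα.1 y y.2)
        rw [afn_coe] at e
        rwa [← show w = y⁻¹ * α y from Subtype.ext e])
  have hβ : conjAut _ s hsn.2 ∈ trivMod (zcl F) (powerClosure p 1 (zcl F)) :=
    mem_trivMod.2 fun y hy => by rw [afn_conjAut _ hy]; exact hm y hy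
  have hβ' := autInducedBy_le_autGroup F hZ.1 (conjAut_mem_autInducedBy hsn)
  suffices h1 : zcl F ≤ Subgroup.centralizer {s} from
    fun z hz => Subgroup.mem_centralizer_singleton_iff.1 (h1 hz) |>.symm
  refine (Subgroup.closure_le _).2 ?_
  rintro _ ⟨α, hα, z, hz, rfl⟩
  have hzZ := center_le_zcl F hz
  have hm := (isMap_afn (core_le F) hα).mono hle
  obtain ⟨γ, hγ, e⟩ := hm.exists_aut' fun x hx =>
    hm.mem_of_stronglyClosed (stronglyClosed_of_isNormal hZ) hx hx
  obtain ⟨t, ht, e'⟩ := mem_autInducedBy.1 (hK ⟨conj_mem_trivMod_of_stronglyClosed hZ.1 hsc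
    (Subgroup.inv_mem _ hγ) hβ, Subgroup.mul_mem _ (Subgroup.mul_mem _ (Subgroup.inv_mem _ hγ) hβ')
      (Subgroup.inv_mem _ (Subgroup.inv_mem _ hγ))⟩)
  have h2 := congrArg (afn γ) (e' z hzZ)
  rw [(mem_centralizerIn.1 hz).2 t ht, mul_inv_cancel_right, inv_inv, afn_mul _ _ hzZ,
    afn_mul _ _ (afn_mem _ hzZ), afn_afn_inv _ (afn_mem _ (afn_mem _ hzZ)),
    afn_conjAut _ (afn_mem _ hzZ), e z hzZ] at h2
  exact Subgroup.mem_centralizer_singleton_iff.2 (mul_inv_eq_iff_eq_mul.1 h2).symm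

/-- An element of `S` acting quadratically on `Z` centralizes `℧¹(Z)`. -/
theorem mem_centralizerIn_of_quadratic (hS : IsPGroup p S) (h : F.IsConstrained p) {a : Ω}
    (ha : a ∈ S) (hq : ∀ z ∈ zcl F, Commute a (z⁻¹ * (a * z * a⁻¹))) :
    a ∈ centralizerIn S (powerClosure p 1 (zcl F)) := by
  have hZ := isNormal_zcl h
  have hsc := stronglyClosed_of_isNormal hZ
  have h1 : ∀ z ∈ zcl F, ∀ k : ℕ, z⁻¹ * (a ^ k * z * (a ^ k)⁻¹) = (z⁻¹ * (a * z * a⁻¹)) ^ k := by
    intro z hz k
    induction k with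
    | zero => simp
    | succ k ih =>
      have h2 := ((hq z hz).pow_left k).eq
      rw [pow_succ (z⁻¹ * _), ← ih]
      calc z⁻¹ * (a ^ (k + 1) * z * (a ^ (k + 1))⁻¹)
          = z⁻¹ * a ^ k * z * ((z⁻¹ * (a * z * a⁻¹)) * (a ^ k)⁻¹) := by rw [pow_succ]; group
        _ = _ := by rw [← ((hq z hz).pow_left k).inv_left.eq]; group
  have h2 := comm_zcl_of_mod hS h (S.pow_mem ha p) fun z hz => by
    rw [h1 z hz]
    simpa using Grp.Reg.pow_mem_powerClosure (p := p) (n := 1)
      ((zcl F).mul_mem ((zcl F).inv_mem hz) (conj_mem_of_stronglyClosed hsc ha hz))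
  refine mem_centralizerIn.2 ⟨ha, fun y hy => ?_⟩
  refine (Subgroup.mem_centralizer_singleton_iff.1 ((show _ ≤ Subgroup.centralizer {a} from
    Grp.Reg.powerClosure_le_iff.2 fun z hz => ?_) hy))
  have h3 := h1 z hz p
  rw [h2 z hz, mul_inv_cancel_right, inv_mul_cancel, Commute.mul_pow (zcl_comm h _
    ((zcl F).inv_mem hz) _ (conj_mem_of_stronglyClosed hsc ha hz)), conj_pow, inv_pow, eq_comm,
    inv_mul_eq_one] at h3
  rw [pow_one, Subgroup.mem_centralizer_singleton_iff]
  exact (mul_inv_eq_iff_eq_mul.1 h3.symm).symm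

theorem base_thompson (hS : IsPGroup p S) (h : F.IsConstrained p) :
    F.IsNormal (thompsonSubgroupAOf S) ∨ ∃ Y, F.IsNormal Y ∧
      powerClosure p 1 (centralizerIn S S) ≤ Y ∧ ¬ centralizerIn S Y ≤ F.core := by
  have hZ := isNormal_zcl h
  by_cases h1 : centralizerIn S (powerClosure p 1 (zcl F)) ≤ F.core
  swap
  · exact Or.inr ⟨_, isNormal_powerClosure hZ 1, Grp.Reg.powerClosure_mono (center_le_zcl F), h1⟩
  left
  have hn := normal_of_stronglyClosed (stronglyClosed_of_isNormal hZ)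
  have hc : IsMulCommutative ((zcl F).subgroupOf S) :=
    ⟨⟨fun x y => Subtype.ext (Subtype.ext (zcl_comm h _ x.2 _ y.2))⟩⟩
  have h2 : ∀ A ∈ PLocal.maxAb (⊤ : Subgroup S), (zcl F).subgroupOf S ≤ A := by
    by_contra h2
    push Not at h2
    obtain ⟨U, hU, h2⟩ := h2
    obtain ⟨A, hA, -, h3, h4⟩ := PLocal.replacement_maxAb (S := ⊤) (D := ⊤) (hS.to_subgroup ⊤)
      le_top Subgroup.le_normalizer_of_normal le_rfl Subgroup.le_normalizer_of_normal (Or.inl hc)
      ⟨U, hU, by rw [Subgroup.commutator_eq_bot_iff_le_centralizer.2 (Subgroup.le_centralizer _)]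
                 exact bot_le, h2⟩
    refine h3 fun z hz => PLocal.mem_of_mem_maxAb_of_centralizes hA trivial fun a ha => ?_
    have h5 := h1 (mem_centralizerIn_of_quadratic hS h a.2 fun w hw => by
      have h6 := (Subgroup.mem_normalizer_iff''.1 (h4 (show (⟨w, hZ.1 hw⟩ : S) ∈ _ from hw)) a).1 ha
      have := hA.2.1
      have h7 := congrArg (fun x : A => ((x : S) : Ω))
        (mul_comm' (⟨a, ha⟩ : A) ⟨_, A.mul_mem h6 (A.inv_mem ha)⟩)
      simpa [Commute, SemiconjBy, mul_assoc] using h7)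
    exact Subtype.ext ((mem_centralizerIn.1 (zcl_le h hz).2).2 a h5)
  have h3 : thompsonSubgroupAOf (⊤ : Subgroup S) ≤ F.core.subgroupOf S :=
    PLocal.thompsonSubgroupAOf_le_iff.2 fun A hA a ha => h1 (mem_centralizerIn.2 ⟨a.2, fun y hy => by
      have hy' := Grp.Reg.powerClosure_le 1 _ hy
      have := hA.2.1
      exact congrArg (fun x : A => ((x : S) : Ω))
        (mul_comm' (⟨⟨y, hZ.1 hy'⟩, h2 A hA hy'⟩ : A) ⟨a, ha⟩)⟩)
  have h4 := congrArg (Subgroup.map S.subtype) (PLocal.thompsonSubgroupAOf_eq_of_le h3 le_top)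
  rw [PLocal.map_thompsonSubgroupAOf _ S.subtype_injective,
    PLocal.map_thompsonSubgroupAOf _ S.subtype_injective,
    Subgroup.map_subgroupOf_eq_of_le (core_le F), ← MonoidHom.range_eq_map,
    Subgroup.range_subtype] at h4
  rw [← h4, ← induced_jFun]
  have := finite_of_le (core_le F)
  have h5 := isPGroup_of_le hS (core_le F)
  exact isNormal_of_characteristic (isNormal_core F) (Subgroup.map_subtype_le _)
    (induced_characteristic isCharPFunctor_jFun h5)

theorem base_class (hS : IsPGroup p S) (h : F.IsConstrained p) (n : ℕ)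
    (hcl : S.lowerCentralSeries (n * (p - 1) + 1) = ⊥) :
    F.IsNormal S ∨ ∃ Y, F.IsNormal Y ∧
      powerClosure p n (centralizerIn S S) ≤ Y ∧ ¬ centralizerIn S Y ≤ F.core := by
  classical
  have hZ := isNormal_zcl h
  by_cases h1 : S ≤ F.core
  · left
    have := isNormal_core F
    rwa [le_antisymm (core_le F) h1] at this
  refine Or.inr ⟨_, isNormal_powerClosure hZ n, Grp.Reg.powerClosure_mono (center_le_zcl F),
    fun h2 => h1 fun s hs => ?_⟩
  have key : ∀ t ∈ S, t ^ p ∈ F.core → t ∈ F.core := fun t ht h3 =>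
    h2 (mem_centralizerIn.2 ⟨ht, fun y hy => Subgroup.mem_centralizer_singleton_iff.1
      ((show _ ≤ Subgroup.centralizer {t} from Grp.Reg.powerClosure_le_iff.2 fun z hz =>
        Subgroup.mem_centralizer_singleton_iff.2 (pow_comm_of_class hp.out hZ.1 (zcl_comm h) ht
          ((normalizerIn_eq_of_isNormal hZ).ge ht).2 (fun x hx =>
            (mem_centralizerIn.1 (zcl_le h hx).2).2 _ h3) n hcl hz).symm) hy)⟩)
  obtain ⟨k, hk⟩ := hS ⟨s, hs⟩
  have : ∀ k : ℕ, s ^ p ^ k ∈ F.core → s ∈ F.core := by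
    intro k
    induction k with
    | zero => simp
    | succ k ih => exact fun h3 => ih (key _ (S.pow_mem hs _) (by rwa [← pow_mul, ← pow_succ]))
  exact this k (by rw [show s ^ p ^ k = 1 from congrArg Subtype.val hk]; exact Subgroup.one_mem _)

end Cfsg.Agent.Fus
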