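import Mathlib
import Cfsg.Agent.Fus.ZJFChief
import Cfsg.Agent.S2834
import Cfsg.Agent.PLocal.PMinimal

/-!
The local analysis for a `p`-minimal group with a quadratic element.
-/

set_option autoImplicit false

namespace Cfsg.Agent.Fus.ZJF

open Subgroup Cfsg.Agent.PLocal Cfsg.Agent.PLocal.Amb Cfsg.Agent.PLocal.CP Cfsg.Agent.PLocal.CommMod
open scoped commutatorElement

variable {p : ℕ} [hp : Fact p.Prime] {G : Type*} [Group G] [Finite G]

omit hp [Finite G] in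
theorem le_subgroupOf_iff' {L B : Subgroup G} {A : Subgroup L} : A ≤ B.subgroupOf L ↔ A.map L.subtype ≤ B :=
  map_le_iff_le_comap.symm

omit hp [Finite G] in
theorem zpowers_map_subtype {L : Subgroup G} {x : G} (hx : x ∈ L) :
    (zpowers (⟨x, hx⟩ : L)).map L.subtype = zpowers x := by
  rw [MonoidHom.map_zpowers]; rfl

omit hp [Finite G] in
theorem pRes_top_map_subtype (L : Subgroup G) : (𝐎[p, (⊤ : Subgroup L)]).map L.subtype = 𝐎[p, L] := by
  rw [pRes_top]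

theorem concl_of_lemmaL_amb (hp2 : p ≠ 2) {L L₀ : Subgroup G} {x : G} (hx : x ∈ L)
    (hxp : IsPGroup p (zpowers x)) (hL : L₀ < L)
    (hmax : ∀ X : Subgroup G, zpowers x ⊔ pCoreOf p L ≤ X → X < L → X ≤ L₀)
    (hgen : ∀ g ∈ L, g ∉ L₀ → zpowers x ⊔ cj(g, zpowers x) ⊔ pCoreOf p L = L)
    {V V0 Y : Subgroup G} (hVL : V ≤ L) (hVn : L ≤ 𝐍[V]) (h0n : L ≤ 𝐍[V0]) (hV : IsPGroup p V) (h0V : V0 ≤ V)
    (hYV : Y ≤ V) (hY : ⁅Y, Y⁆ = ⊥) (hn : L₀ ≤ 𝐍[Y]) (hnc : ¬ ⁅Y, 𝐎[p, L]⁆ ≤ V0)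
    (hq : ⁅⁅V, zpowers x⁆, zpowers x⁆ ≤ V0) : Concl p L₀ Y := by
  have := normal_subgroupOf' hVn
  have := normal_subgroupOf' h0n
  have h := concl_of_lemmaL (Γ := L) hp2 (x := ⟨x, hx⟩) (L₀ := L₀.subgroupOf L)
    (V := V.subgroupOf L) (V0 := V0.subgroupOf L) (Y := Y.subgroupOf L)
    ((Amb.isPGroup_subgroupOf hxp L).to_le (by rw [le_subgroupOf_iff', zpowers_map_subtype hx]))
    (fun h => hL.not_ge (subgroupOf_eq_top.1 h))
    (fun X h1 h2 => by
      rw [le_subgroupOf_iff']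
      refine hmax _ ?_ (lt_of_le_of_ne (map_subtype_le X) fun h3 => h2 ?_)
      · rw [← zpowers_map_subtype hx, pCoreOf, ← Subgroup.map_sup]
        exact map_mono h1
      · rw [← map_subtype_subgroupOf X, h3, subgroupOf_self])
    (fun g hg => by
      rw [← map_subtype_inj, Subgroup.map_sup, Subgroup.map_sup, map_subtype_cj, zpowers_map_subtype hx,
        ← MonoidHom.range_eq_map, range_subtype]
      exact hgen g g.2 hg)
    (Amb.isPGroup_subgroupOf hV L) (comap_mono h0V) (comap_mono hYV)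
    (by
      rw [← map_subtype_inj, map_commutator, map_subgroupOf_of_le (hYV.trans hVL), hY, Subgroup.map_bot])
    (by
      rw [normalizer_eq_subgroupOf, map_subgroupOf_of_le (hYV.trans hVL)]
      exact comap_mono hn)
    (by
      rwa [le_subgroupOf_iff', map_commutator, map_subgroupOf_of_le (hYV.trans hVL), pRes_top_map_subtype])
    (by
      rwa [le_subgroupOf_iff', map_commutator, map_commutator, map_subgroupOf_of_le hVL,
        zpowers_map_subtype hx])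
  have h2 := h.map L.subtype L.subtype_injective
  rwa [map_subgroupOf_of_le hL.le, map_subgroupOf_of_le (hYV.trans hVL)] at h2

theorem concl_of_minOver_top (hp2 : p ≠ 2) {T M : Subgroup G} (hT : IsSyl p T ⊤) (hM : MinOver T M ⊤) {x : G}
    (hx : x ∈ T) (hxO : x ∉ pCore p G) {V V0 Y : Subgroup G} [V.Normal] [V0.Normal] (hV : IsPGroup p V)
    (h0V : V0 ≤ V) (hYV : Y ≤ V) (hY : ⁅Y, Y⁆ = ⊥) (hn : M ≤ 𝐍[Y])
    (hnc : ¬ ⁅Y, 𝐎[p, (⊤ : Subgroup G)]⁆ ≤ V0) (hq : ⁅⁅V, zpowers x⁆, zpowers x⁆ ≤ V0) : Concl p M Y := by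
  obtain ⟨T', rfl⟩ := hT.exists_sylow_top
  obtain ⟨L, hL, L₀, h1, h2, h3, ⟨g, hg⟩, h4⟩ := S2834.result T' (isMinimalOver_iff.2 ⟨M, hM⟩) M
    ⟨hM.isCoatom, hM.le⟩ (zpowers x) (zpowers_le.2 hx) (fun h => hxO (h (mem_zpowers x)))
  have hxp : IsPGroup p (zpowers x) := hT.pgrp.to_le (zpowers_le.2 hx)
  have hVL : V ≤ L := (le_pCore' hV).trans (le_sup_right.trans hL)
  have hL₀ : L₀ ≤ cj(g, M) := hg.le.trans inf_le_right
  have hng : cj(g, M) ≤ 𝐍[cj(g, Y)] := by rw [normalizer_cj]; exact cj_mono g hn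
  have hYV' : cj(g, Y) ≤ V := by rw [← cj_of_normal g V]; exact cj_mono g hYV
  have h := concl_of_lemmaL_amb hp2 ((le_sup_left.trans hL) (mem_zpowers x)) hxp h2 h3 h4 hVL
    le_normalizer_of_normal le_normalizer_of_normal hV h0V hYV' (by rw [commutator_cj, hY, cj_bot])
    (hL₀.trans hng) ?_ hq
  · have h5 := (h.mono hL₀ le_rfl).map (MulAut.conj g⁻¹).toMonoidHom (MulAut.conj g⁻¹).injective
    rwa [cj_inv_cj, cj_inv_cj] at h5
  intro h5
  obtain ⟨P, hP, hxP⟩ := exists_isSyl_ge hxp ((le_sup_left.trans hL))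
  have hPL : P ≤ L₀ := h3 P (sup_le hxP hP.pCoreOf_le) (lt_of_le_of_ne hP.le fun h => h2.not_ge (by
    have := Amb.pCoreOf_eq_self (h ▸ hP.pgrp : IsPGroup p L)
    exact this.ge.trans (le_sup_right.trans h1)))
  have hmg := hM.cj_of_mem (mem_top g)
  have hLM : ¬ 𝐎[p, L] ≤ cj(g, M) := fun h => h2.not_ge (by
    rw [hg]
    refine le_inf le_rfl ?_
    rw [← hP.pRes_sup]
    exact sup_le h (hPL.trans hL₀))
  have h6 : (cj(g, Y) ⊔ V0).Normal := normal_of_top_le (by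
    refine (hmg.eq_of_not_le (hmg.le.trans (Amb.le_normalizer_sup hng le_normalizer_of_normal)) le_top
      fun h => hLM ((le_normalizer_sup_of_commutator_le (h5.trans le_sup_right)
        le_normalizer_of_normal).trans h)).ge)
  have h7 := centMod_normal (cj(g, Y) ⊔ V0) V0
  rcases hmg.pRes_le_or (isPGroup_cj g hT.pgrp) (N := centMod (cj(g, Y) ⊔ V0) V0) le_top
    le_normalizer_of_normal with h | h
  · apply hnc
    have h8 : ⁅cj(g, Y), 𝐎[p, (⊤ : Subgroup G)]⁆ ≤ V0 := by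
      rw [commutator_comm]
      exact (commutator_mono le_rfl le_sup_left).trans (le_centMod_of_normal.1 h)
    have h9 := cj_mono g⁻¹ h8
    rwa [← commutator_cj, cj_inv_cj, ← pRes_cj, cj_top, cj_of_normal] at h9
  · refine hLM (le_trans (le_centMod_of_normal.2 ?_) h)
    rw [commutator_comm]
    exact commutator_sup_le_of_normal h5 (commutator_le_left _ _)

theorem concl_of_minOver (hp2 : p ≠ 2) {T M N : Subgroup G} (hT : IsSyl p T N) (hM : MinOver T M N) {x : G}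
    (hx : x ∈ T) (hxO : x ∉ pCoreOf p N) {V V0 Y : Subgroup G} (hVN : V ≤ N) (hVn : N ≤ 𝐍[V])
    (h0n : N ≤ 𝐍[V0]) (hV : IsPGroup p V) (h0V : V0 ≤ V) (hYV : Y ≤ V) (hY : ⁅Y, Y⁆ = ⊥) (hn : M ≤ 𝐍[Y])
    (hnc : ¬ ⁅Y, 𝐎[p, N]⁆ ≤ V0) (hq : ⁅⁅V, zpowers x⁆, zpowers x⁆ ≤ V0) : Concl p M Y := by
  have := normal_subgroupOf' hVn
  have := normal_subgroupOf' h0n
  obtain ⟨P, hP⟩ := hT.exists_sylow
  have h := concl_of_minOver_top (G := N) hp2 (T := T.subgroupOf N) (M := M.subgroupOf N)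
    (hP ▸ isSyl_top P)
    (by rwa [← minOver_map_subtype, map_subgroupOf_of_le hT.le, map_subgroupOf_of_le hM.lt.le])
    (x := ⟨x, hT.le hx⟩) hx (fun h => hxO ⟨_, h, rfl⟩)
    (V := V.subgroupOf N) (V0 := V0.subgroupOf N) (Y := Y.subgroupOf N)
    (Amb.isPGroup_subgroupOf hV N) (comap_mono h0V) (comap_mono hYV)
    (by
      rw [← map_subtype_inj, map_commutator, map_subgroupOf_of_le (hYV.trans hVN), hY, Subgroup.map_bot])
    (by
      rw [normalizer_eq_subgroupOf, map_subgroupOf_of_le (hYV.trans hVN)]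
      exact comap_mono hn)
    (by
      rwa [le_subgroupOf_iff', map_commutator, map_subgroupOf_of_le (hYV.trans hVN), pRes_top_map_subtype])
    (by
      rwa [le_subgroupOf_iff', map_commutator, map_commutator, map_subgroupOf_of_le hVN,
        zpowers_map_subtype (hT.le hx)])
  have h2 := h.map N.subtype N.subtype_injective
  rwa [map_subgroupOf_of_le hM.lt.le, map_subgroupOf_of_le (hYV.trans hVN)] at h2

end Cfsg.Agent.Fus.ZJF
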