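import Mathlib
import Cfsg.Agent.Fus.ZJFCore
import Cfsg.Agent.PLocal.ZJ

/-!
Finding a quadratic element in a `p`-minimal group: the three cases.
-/

set_option autoImplicit false

namespace Cfsg.Agent.Fus.ZJF

open Subgroup Cfsg.Agent.PLocal Cfsg.Agent.PLocal.Amb Cfsg.Agent.PLocal.CP Cfsg.Agent.PLocal.CommMod
open scoped commutatorElement

variable {p : ℕ} [hp : Fact p.Prime] {G : Type*} [Group G] [Finite G]

/-- An element of `T` outside `O_p(N)` acts quadratically on a section of `O_p(N)` on which `Z` is not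
centralized by `O^p(N)`. -/
def Quad (p : ℕ) {G : Type*} [Group G] (T N Z : Subgroup G) : Prop :=
  ∃ x ∈ T, x ∉ pCoreOf p N ∧ ∃ V V0 : Subgroup G, V ≤ pCoreOf p N ∧ N ≤ 𝐍[V] ∧ N ≤ 𝐍[V0] ∧ V0 ≤ V ∧
    ¬ ⁅Z ⊓ V, 𝐎[p, N]⁆ ≤ V0 ∧ ⁅⁅V, zpowers x⁆, zpowers x⁆ ≤ V0

theorem pm {T M N D : Subgroup G} (hT : IsSyl p T N) (hM : MinOver T M N) (hD : D ≤ N) (hn : N ≤ 𝐍[D]) :
    𝐎[p, N] ≤ D ∨ T ⊓ D ≤ pCoreOf p N := by
  by_cases h : 𝐎[p, N] ≤ D
  · exact Or.inl h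
  · exact Or.inr ((hM.pIrr hT.pgrp).le_pCoreOf hD hn h (hT.pgrp.to_le inf_le_left) inf_le_right)

omit [Finite G] hp in
theorem comm_zp_eq_bot {A : Subgroup G} (hA : ∀ a ∈ A, ∀ b ∈ A, a * b = b * a) {x : G} (hx : x ∈ A) :
    ⁅A, zpowers x⁆ = ⊥ := by
  rw [commutator_eq_bot_iff_le_centralizer]
  intro a ha b hb
  exact hA b (zpowers_le.2 hx hb) a ha

theorem le_of_inf_normalizer_le {S B U : Subgroup G} (hS : IsPGroup p S) (hB : B ≤ S) (hU : U ≤ S)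
    (hn : U ≤ 𝐍[B]) (h : B ⊓ 𝐍[U] ≤ U) : B ≤ U := by
  have := eq_of_inf_normalizer_le (hS.to_le (sup_le hU hB)) (le_sup_left : U ≤ U ⊔ B) (by
    rw [sup_inf_of_le_normalizer le_normalizer hn]
    exact sup_le le_rfl h)
  exact le_sup_right.trans this.ge

theorem quad_of_not_le {S T M N Z : Subgroup G} (hS : IsPGroup p S) (hT : IsSyl p T N) (hM : MinOver T M N)
    (hTS : T ≤ S) (hST : S ⊓ 𝐍[pCoreOf p N] ≤ T) (hZ : Z ≤ S) (hZn : S ≤ 𝐍[Z])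
    (hZc : ∀ a ∈ Z, ∀ b ∈ Z, a * b = b * a) (hC : N ⊓ 𝐂[pCoreOf p N] ≤ M) (h : ¬ Z ≤ pCoreOf p N) :
    Quad p T N Z := by
  set Q := pCoreOf p N with hQ
  have hQT : Q ≤ T := hT.pCoreOf_le
  have hNQ : N ≤ 𝐍[Q] := Amb.le_normalizer_pCoreOf p N
  obtain ⟨x, ⟨hxZ, hxN⟩, hxQ⟩ : ∃ x ∈ Z ⊓ 𝐍[Q], x ∉ Q := by
    by_contra h1
    push Not at h1
    exact h (le_of_inf_normalizer_le hS hZ (hQT.trans hTS) ((hQT.trans hTS).trans hZn) h1)
  have hxT : x ∈ T := hST ⟨hZ hxZ, hxN⟩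
  have h1 : ⁅Q, zpowers x⁆ ≤ Z ⊓ Q := le_inf
    ((commutator_mono le_rfl (zpowers_le.2 hxZ)).trans
      (le_normalizer_iff_commutator_le_right.1 ((hQT.trans hTS).trans hZn)))
    (le_normalizer_iff_commutator_le_left.1 (zpowers_le.2 hxN))
  refine ⟨x, hxT, hxQ, Q, ⊥, le_rfl, hNQ, le_normalizer_of_normal, bot_le, fun h2 => ?_, ?_⟩
  · have h3 : N ≤ 𝐍[Z ⊓ Q] := by
      rw [← hT.pRes_sup]
      refine sup_le (le_normalizer_iff_commutator_le_left.2 (h2.trans bot_le))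
        (Amb.le_normalizer_inf (hTS.trans hZn) (hT.le.trans hNQ))
    rcases pm hT hM (D := N ⊓ centMod Q (Z ⊓ Q)) inf_le_left (Amb.le_normalizer_inf le_normalizer
      ((le_inf hNQ h3).trans (inf_normalizer_le_normalizer_centMod _ _))) with h4 | h4
    · refine hM.not_pRes_le hT (le_trans (le_inf (pRes_le p N) ?_) hC)
      have h5 : ⁅Q, 𝐎[p, N]⁆ ≤ Z ⊓ Q := by
        rw [commutator_comm]
        exact (le_centMod.1 (h4.trans inf_le_right)).2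
      rw [← commutator_eq_bot_iff_le_centralizer, commutator_comm, ← commutator_pRes_pRes
        (Amb.isPGroup_pCoreOf p N) hNQ, eq_bot_iff]
      exact (commutator_mono h5 le_rfl).trans h2
    · refine hxQ (h4 ⟨hxT, hT.le hxT, ?_⟩)
      refine zpowers_le.1 (le_centMod.2 ⟨(zpowers_le.2 (hT.le hxT)).trans h3, ?_⟩)
      rwa [commutator_comm]
  · rw [← comm_zp_eq_bot hZc hxZ]
    exact commutator_mono (h1.trans inf_le_left) le_rfl

theorem commutator_lt_of_isPGroup {B : Subgroup G} (hB : IsPGroup p B) (hb : B ≠ ⊥) : ⁅B, B⁆ < B := by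
  have : Nontrivial B := (nontrivial_iff_ne_bot B).mpr hb
  have := hB.isNilpotent
  have h1 := Group.IsSolvable.commutator_lt_top_of_nontrivial B
  have h2 := (Subgroup.map_subtype_lt_map_subtype (G' := B)).mpr h1
  rwa [Subgroup.map_subtype_commutator, ← MonoidHom.range_eq_map, range_subtype] at h2

theorem quad_of_sylow (hp2 : p ≠ 2) {S N : Subgroup G} (hS : IsSyl p S N)
    (hZ : centerThompsonAOf S ≤ pCoreOf p N) (h : ¬ N ≤ 𝐍[centerThompsonAOf S]) :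
    Quad p S N (centerThompsonAOf S) := by
  set Q := pCoreOf p N with hQ
  set Z := centerThompsonAOf S with hZdef
  have hQS : Q ≤ S := hS.pCoreOf_le
  have hNQ : N ≤ 𝐍[Q] := Amb.le_normalizer_pCoreOf p N
  have hSZ : S ≤ 𝐍[Z] := le_normalizer_centerThompsonAOf S
  obtain ⟨B, ⟨hBQ, hBn, hB⟩, hmin⟩ := WellFounded.has_min (wellFounded_lt (α := Subgroup G))
    {B : Subgroup G | B ≤ Q ∧ N ≤ 𝐍[B] ∧ ¬ N ≤ 𝐍[Z ⊓ B]} ⟨Q, le_rfl, hNQ, by rwa [inf_eq_left.2 hZ]⟩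
  have hmin' : ∀ B' < B, N ≤ 𝐍[B'] → N ≤ 𝐍[Z ⊓ B'] := fun B' h1 h2 => by
    by_contra h3
    exact hmin B' ⟨h1.le.trans hBQ, h2, h3⟩ h1
  have hBS : B ≤ S := hBQ.trans hQS
  have hBp : IsPGroup p B := hS.pgrp.to_le hBS
  have hW : ncl (Z ⊓ B) N = B := by
    have h1 : ncl (Z ⊓ B) N ≤ B := ncl_le inf_le_right hBn
    refine h1.eq_of_not_lt fun h2 => hB ?_
    have h3 := hmin' _ h2 (le_normalizer_ncl _ _)
    rwa [show Z ⊓ ncl (Z ⊓ B) N = Z ⊓ B from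
      le_antisymm (inf_le_inf_left _ h1) (le_inf inf_le_left (le_ncl _ _))] at h3
  have hb : B ≠ ⊥ := by
    rintro rfl
    exact hB (by rw [inf_bot_eq]; exact le_normalizer_of_normal)
  have hlt := commutator_lt_of_isPGroup hBp hb
  have hK := hmin' _ hlt (Amb.le_normalizer_commutator hBn hBn)
  have hBB : ⁅B, B⁆ ≤ Z := by
    have := commutator_ncl_le (X := Z ⊓ B) hBn hK ((inf_le_right.trans (hBS.trans hS.le)).trans hK)
      (le_inf ((commutator_mono le_rfl inf_le_left).trans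
        (le_normalizer_iff_commutator_le_right.1 (hBS.trans hSZ))) (commutator_mono le_rfl inf_le_right))
    rw [hW] at this
    exact this.trans inf_le_left
  have hex : ∃ A ∈ maxAb S, ¬ A ≤ Q := by
    by_contra h1
    push Not at h1
    apply h
    rw [hZdef, ← centerThompsonAOf_eq_of_le (thompsonSubgroupAOf_le_iff.2 h1) hQS]
    exact hNQ.trans (normalizer_le_normalizer_centerThompsonAOf Q)
  obtain ⟨A, ⟨hA, hAQ⟩, hmax⟩ := Set.exists_max_image {A ∈ maxAb S | ¬ A ≤ Q}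
    (fun U => Nat.card (U ⊓ B : Subgroup G)) (Set.toFinite _) hex
  have hBA : B ≤ 𝐍[A] := by
    by_contra hnot
    obtain ⟨b, hb, hbA⟩ := exists_replSetup hS.pgrp hA.1 hBS (hS.le.trans hBn) hA.2.1
      (hBB.trans (centerThompsonAOf_le_of_mem hA)) hnot
    have h1 : repl A b ∈ maxAb S := mem_maxAb_of_card_le hA
      (ReplSetup.repl_le_of_le hA.1 (le_normalizer (hBS hb.hb)))
      (hb.repl_comm (Or.inr (sq_eq_one_imp_of_isPGroup hp2 hBp))) hb.card_repl.ge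
    have h2 : repl A b ≤ Q := by
      by_contra h2
      exact absurd (hmax _ ⟨h1, h2⟩) (not_le.mpr (Grp.card_lt_of_lt (hb.inf_lt_repl_inf hbA)))
    apply hb.not_le_repl hbA
    refine le_trans ?_ (centerThompsonAOf_le_of_mem (mem_maxAb_of_le h1 h2 hQS))
    rw [← hW]
    refine ncl_le (inf_le_left.trans ?_) (hNQ.trans (normalizer_le_normalizer_centerThompsonAOf Q))
    rw [centerThompsonAOf_eq_sInf Q]
    exact le_sInf fun A' hA' => centerThompsonAOf_le_of_mem (maxAb_subset_of_mem h1 h2 hQS hA')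
  obtain ⟨x, hx, hxQ⟩ := SetLike.not_le_iff_exists.1 hAQ
  refine ⟨x, hA.1 hx, hxQ, B, ⊥, hBQ, hBn, le_normalizer_of_normal, bot_le, fun h2 => hB ?_, ?_⟩
  · rw [← hS.pRes_sup]
    exact sup_le (le_normalizer_iff_commutator_le_left.2 (h2.trans bot_le))
      (Amb.le_normalizer_inf hSZ (hS.le.trans hBn))
  · have := hA.2.1
    rw [← comm_zp_eq_bot (A := A) (fun a ha b hb => setLike_mul_comm ha hb) hx]
    exact commutator_mono ((commutator_mono le_rfl (zpowers_le.2 hx)).trans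
      (le_normalizer_iff_commutator_le_right.1 hBA)) le_rfl

theorem thompson_bot {T Q V : Subgroup G} (hT : IsPGroup p T) (hVQ : V ≤ Q) (hQT : Q ≤ T) (hn : T ≤ 𝐍[V])
    (hc : Q ≤ 𝐂[V]) (hc' : T ⊓ 𝐂[V] ≤ Q) (h0 : T ≠ ⊥) :
    (∃ x ∈ T, x ∉ Q ∧ ⁅⁅V, zpowers x⁆, zpowers x⁆ = ⊥) ∨
      ∃ J : Subgroup G, J ≠ ⊥ ∧ J ≤ Q ∧ 𝐍[T] ≤ 𝐍[J] ∧ 𝐍[Q] ≤ 𝐍[J] := by
  by_cases h : thompsonSubgroupAOf T ≤ Q
  · right
    refine ⟨thompsonSubgroupAOf T, fun h1 => centerThompsonAOf_ne_bot hT h0 ?_, h,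
      normalizer_le_normalizer_thompsonSubgroupAOf T, ?_⟩
    · rw [centerThompsonAOf, h1, bot_inf_eq]
    · rw [← thompsonSubgroupAOf_eq_of_le h hQT]
      exact normalizer_le_normalizer_thompsonSubgroupAOf Q
  left
  rw [thompsonSubgroupAOf_le_iff] at h
  push Not at h
  obtain ⟨A, hA, hAQ⟩ := h
  have hV : ⁅V, V⁆ = ⊥ := commutator_eq_bot_iff_le_centralizer.2 (hVQ.trans hc)
  obtain ⟨A', hA', -, h1, h2⟩ := replacement_maxAb hT (hVQ.trans hQT) hn le_rfl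
    ((hVQ.trans hQT).trans le_normalizer)
    (Or.inl (IsMulCommutative.of_setLike_mul_comm fun a ha b hb => ((hVQ.trans hc) hb a ha)))
    ⟨A, hA, by rw [hV]; exact bot_le, fun h3 => hAQ (le_trans (le_inf hA.1 (show A ≤ 𝐂[V] from fun a ha b hb => by
      have := hA.2.1
      exact setLike_mul_comm (h3 hb) ha)) hc')⟩
  have h3 : ¬ A' ≤ Q := fun h3 => h1 (le_trans (le_inf (hVQ.trans hQT) (le_centralizer_iff.1 (h3.trans hc)))
    (inf_centralizer_le_of_mem_maxAb hA'))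
  obtain ⟨x, hx, hxQ⟩ := SetLike.not_le_iff_exists.1 h3
  refine ⟨x, hA'.1 hx, hxQ, eq_bot_iff.2 ?_⟩
  have := hA'.2.1
  rw [← comm_zp_eq_bot (A := A') (fun a ha b hb => setLike_mul_comm ha hb) hx]
  exact commutator_mono ((commutator_mono le_rfl (zpowers_le.2 hx)).trans
    (le_normalizer_iff_commutator_le_right.1 h2)) le_rfl

theorem thompson_normal {T Q V K : Subgroup G} [K.Normal] (hT : IsPGroup p T) (hKQ : K ≤ Q) (hVQ : V ≤ Q)
    (hQT : Q ≤ T) (hn : T ≤ 𝐍[V]) (hc : ⁅Q, V⁆ ≤ K) (hc' : T ⊓ centMod V K ≤ Q) (h0 : ¬ T ≤ K) :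
    (∃ x ∈ T, x ∉ Q ∧ ⁅⁅V, zpowers x⁆, zpowers x⁆ ≤ K) ∨
      ∃ J : Subgroup G, K < J ∧ J ≤ Q ∧ 𝐍[T] ≤ 𝐍[J] ∧ 𝐍[Q] ≤ 𝐍[J] := by
  set f := QuotientGroup.mk' K with hf
  have hfs : Function.Surjective f := QuotientGroup.mk'_surjective K
  have hfk : f.ker = K := QuotientGroup.ker_mk' K
  have hcm : ∀ J : Subgroup (G ⧸ K), (𝐍[J]).comap f ≤ 𝐍[J.comap f] := fun J => le_normalizer_comap f
  rcases thompson_bot (hT.map f) (map_mono hVQ) (map_mono hQT) ((map_mono hn).trans (le_normalizer_map f))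
    (by rwa [← commutator_eq_bot_iff_le_centralizer, ← map_commutator, Subgroup.map_eq_bot_iff, hfk])
    (by
      rintro _ ⟨⟨x, hx, rfl⟩, h⟩
      refine ⟨x, hc' ⟨hx, mem_centMod_of_normal.2 fun y hy => ?_⟩, rfl⟩
      rw [← hfk, MonoidHom.mem_ker, map_commutatorElement, commutatorElement_eq_one_iff_mul_comm]
      exact (h _ ⟨y, hy, rfl⟩).symm)
    (by rwa [Ne, Subgroup.map_eq_bot_iff, hfk]) with ⟨_, ⟨x, hx, rfl⟩, h1, h2⟩ | ⟨J, h1, h2, h3, h4⟩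
  · left
    refine ⟨x, hx, fun h => h1 ⟨x, h, rfl⟩, ?_⟩
    rwa [← MonoidHom.map_zpowers, ← map_commutator, ← map_commutator, Subgroup.map_eq_bot_iff, hfk] at h2
  · right
    refine ⟨J.comap f, lt_of_le_of_ne (hfk.ge.trans (ker_le_comap f J)) fun h => h1 ?_, ?_, ?_, ?_⟩
    · rw [← map_comap_eq_self_of_surjective hfs J, ← h, Subgroup.map_eq_bot_iff, hfk]
    · refine (comap_mono h2).trans ?_
      rw [comap_map_eq, hfk, sup_eq_left.2 hKQ]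
    · exact le_trans (map_le_iff_le_comap.1 ((le_normalizer_map f).trans h3)) (hcm J)
    · exact le_trans (map_le_iff_le_comap.1 ((le_normalizer_map f).trans h4)) (hcm J)

theorem thompson_amb {T Q V K : Subgroup G} (hT : IsPGroup p T) (hK : T ≤ 𝐍[K]) (hKQ : K ≤ Q) (hVQ : V ≤ Q)
    (hQT : Q ≤ T) (hn : T ≤ 𝐍[V]) (hc : ⁅Q, V⁆ ≤ K) (hc' : T ⊓ centMod V K ≤ Q) (h0 : ¬ T ≤ K) :
    (∃ x ∈ T, x ∉ Q ∧ ⁅⁅V, zpowers x⁆, zpowers x⁆ ≤ K) ∨
      ∃ J : Subgroup G, K < J ∧ J ≤ Q ∧ 𝐍[K] ⊓ 𝐍[T] ≤ 𝐍[J] ∧ 𝐍[K] ⊓ 𝐍[Q] ≤ 𝐍[J] := by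
  set L := 𝐍[K] with hL
  have : (K.subgroupOf L).Normal := normal_subgroupOf' le_rfl
  have hQL := hQT.trans hK
  have hVL := hVQ.trans hQL
  have hKL := hKQ.trans hQL
  have key : ∀ (A : Subgroup G) (J : Subgroup L), A ≤ L → 𝐍[A.subgroupOf L] ≤ 𝐍[J] →
      L ⊓ 𝐍[A] ≤ 𝐍[J.map L.subtype] := by
    intro A J hA h g hg
    rw [normalizer_eq_subgroupOf, normalizer_eq_subgroupOf, map_subgroupOf_of_le hA] at h
    exact h (x := ⟨g, hg.1⟩) hg.2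
  rcases thompson_normal (T := T.subgroupOf L) (Q := Q.subgroupOf L) (V := V.subgroupOf L)
    (K := K.subgroupOf L) (Amb.isPGroup_subgroupOf hT L) (comap_mono hKQ) (comap_mono hVQ) (comap_mono hQT)
    (by rw [normalizer_eq_subgroupOf, map_subgroupOf_of_le hVL]; exact comap_mono hn)
    (by rwa [le_subgroupOf_iff', map_commutator, map_subgroupOf_of_le hQL, map_subgroupOf_of_le hVL])
    (by
      rintro x ⟨hx, h⟩
      exact hc' ⟨hx, x.2, fun y hy => h.2 ⟨y, hVL hy⟩ hy⟩)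
    (by rwa [le_subgroupOf_iff', map_subgroupOf_of_le hK]) with ⟨x, hx, h1, h2⟩ | ⟨J, h1, h2, h3, h4⟩
  · left
    refine ⟨x, hx, h1, ?_⟩
    rwa [le_subgroupOf_iff', map_commutator, map_commutator, map_subgroupOf_of_le hVL,
      zpowers_map_subtype x.2] at h2
  · right
    refine ⟨J.map L.subtype, ?_, le_subgroupOf_iff'.1 h2, key T J hK h3, key Q J hQL h4⟩
    rw [← map_subgroupOf_of_le hKL]
    exact (Subgroup.map_subtype_lt_map_subtype (G' := L)).mpr h1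

end Cfsg.Agent.Fus.ZJF
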