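import Mathlib
import Cfsg.Agent.Fus.ZJFQuad
import Cfsg.Agent.PLocal.CFGold

/-!
The case where the Sylow subgroup of the `p`-minimal group is not Sylow in `G`.
-/

set_option autoImplicit false

namespace Cfsg.Agent.Fus.ZJF

open Subgroup Cfsg.Agent.PLocal Cfsg.Agent.PLocal.Amb Cfsg.Agent.PLocal.CP Cfsg.Agent.PLocal.CommMod
open scoped commutatorElement

variable {p : ℕ} [hp : Fact p.Prime] {G : Type*} [Group G] [Finite G]

/-- `g` acts on `K` as some element of `H`. -/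
def Agree {G : Type*} [Group G] (H K : Subgroup G) (g : G) : Prop :=
  ∃ h ∈ H, ∀ a ∈ K, g * a * g⁻¹ = h * a * h⁻¹

omit hp [Finite G] in
theorem Agree.cj {H K : Subgroup G} {g y : G} (hy : y ∈ H) (h : Agree H cj(y, K) (y * g * y⁻¹)) :
    Agree H K g := by
  obtain ⟨h, hh, e⟩ := h
  refine ⟨y⁻¹ * h * y, H.mul_mem (H.mul_mem (H.inv_mem hy) hh) hy, fun a ha => ?_⟩
  have := e _ (conj_mem_cj y ha)
  calc _ = y⁻¹ * (y * g * y⁻¹ * (y * a * y⁻¹) * (y * g * y⁻¹)⁻¹) * y := by group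
    _ = _ := by rw [this]; group

omit hp [Finite G] in
theorem Agree.mono {H K K' : Subgroup G} {g : G} (h : Agree H K g) (hK : K' ≤ K) : Agree H K' g := by
  obtain ⟨h, hh, e⟩ := h
  exact ⟨h, hh, fun a ha => e a (hK ha)⟩

omit hp [Finite G] in
theorem Agree.mem_centralizer {K : Subgroup G} {g h : G} (e : ∀ a ∈ K, g * a * g⁻¹ = h * a * h⁻¹) :
    h⁻¹ * g ∈ 𝐂[K] := by
  intro a ha
  calc _ = h⁻¹ * (h * a * h⁻¹) * g := by group
    _ = _ := by rw [← e a ha]; group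

omit hp in
theorem Agree.mem_normalizer {Z K : Subgroup G} {g : G} (h : Agree 𝐍[Z] K g) (hZ : Z ≤ K) : g ∈ 𝐍[Z] := by
  obtain ⟨h, hh, e⟩ := h
  refine mem_normalizer_of_cj_le (cj_le_iff_forall.2 fun a ha => ?_)
  rw [e a (hZ ha)]
  exact Amb.conj_mem_of_mem_normalizer hh ha

theorem syl_of_isSyl {T L : Subgroup G} (h : IsSyl p T L) : CF.Syl p T L :=
  ⟨h.le, h.pgrp, h.not_dvd_relIndex⟩

theorem isSyl_of_syl {T L : Subgroup G} (h : CF.Syl p T L) : IsSyl p T L :=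
  isSyl_of_not_dvd_relIndex h.pg h.le h.nd

theorem exists_opr {P U : Subgroup G} (hU : IsPGroup p U) (hP : IsSyl p P 𝐍[U]) (hc : P ⊓ 𝐂[U] ≤ U) :
    ∃ O : Subgroup G, (∀ o ∈ O, (orderOf o).Coprime p) ∧ 𝐍[U] ≤ 𝐍[O] ∧ O ≤ 𝐂[U] ∧ 𝐂[U] ≤ U ⊔ O := by
  refine ⟨CF.Opr p (CF.Nm U), fun o ho => ?_, CF.le_nm_map_subtype _ _, CF.opr_le_ce hU,
    CF.ce_le_sup_opr (S := P) hU ?_ hc⟩
  · exact Nat.Coprime.coprime_dvd_left (orderOf_dvd_natCard _ ho) (CF.opr_coprime _)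
  · rw [inf_eq_left.2 hP.le, top_inf_eq]
    exact syl_of_isSyl hP

theorem quad_of_lt {S T M N Z : Subgroup G} (hS : IsSyl p S ⊤) (hSZ : S ≤ 𝐍[Z]) (hTS : T < S)
    (hT : IsSyl p T N) (hT' : IsSyl p T 𝐍[pCoreOf p N]) (hM : MinOver T M N) (hZ : Z ≤ pCoreOf p N)
    (hN : ¬ N ≤ 𝐍[Z]) (hF : ∀ g, cj(g, T) ≤ S → g ∈ 𝐍[Z])
    (hmax : ∀ K ≤ S, IsSyl p (S ⊓ 𝐍[K]) 𝐍[K] → S ⊓ 𝐂[K] ≤ K →
      Nat.card T < Nat.card (S ⊓ 𝐍[K] : Subgroup G) → ∀ g ∈ 𝐍[K], Agree 𝐍[Z] K g) :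
    Quad p T N Z := by
  set Q := pCoreOf p N with hQ
  have hQT : Q ≤ T := hT.pCoreOf_le
  have hNQ : N ≤ 𝐍[Q] := Amb.le_normalizer_pCoreOf p N
  have hQp : IsPGroup p Q := hT.pgrp.to_le hQT
  have hTZ : T ≤ 𝐍[Z] := hTS.le.trans hSZ
  obtain ⟨K, ⟨hKQ, hNK, P, hP, hTP, hPK⟩, hKmax⟩ := WellFounded.has_min (wellFounded_gt (α := Subgroup G))
    {K : Subgroup G | K ≤ Q ∧ N ≤ 𝐍[K] ∧ ∃ P : Subgroup G, IsPGroup p P ∧ T < P ∧ P ≤ 𝐍[K]}
    ⟨⊥, bot_le, le_normalizer_of_normal, S, hS.pgrp, hTS, le_normalizer_of_normal⟩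
  obtain ⟨S', hS', hPS⟩ := exists_isSyl_ge hP hPK
  have hTS' : T < S' := hTP.trans_le hPS
  have hT1 : T < S' ⊓ 𝐍[T] := lt_inf_normalizer hS'.pgrp hTS'
  set T1 := S' ⊓ 𝐍[T] with hT1def
  have hKM : ∀ K2, K < K2 → K2 ≤ Q → N ≤ 𝐍[K2] → ¬ T1 ≤ 𝐍[K2] := fun K2 h1 h2 h3 h4 =>
    hKmax K2 ⟨h2, h3, T1, hS'.pgrp.to_le inf_le_left, hT1, h4⟩ h1
  obtain ⟨y, -, hy⟩ := hS.exists_cj_le hS'.pgrp le_top
  have hyH : y ∈ 𝐍[Z] := hF y ((cj_mono y hTS'.le).trans hy)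
  have hS'Z : S' ≤ 𝐍[Z] := (cj_le_iff.1 hy).trans (cj_le_of_mem hSZ (inv_mem hyH))
  have hT1K : T1 ≤ 𝐍[K] := inf_le_left.trans hS'.le
  have hKT : K ≤ T := hKQ.trans hQT
  have hTK : T ≤ 𝐍[K] := hT.le.trans hNK
  -- `O^p(N)` centralizes `K`
  have hLK : 𝐎[p, N] ≤ 𝐂[K] := by
    rcases pm hT hM (D := N ⊓ 𝐂[K]) inf_le_left
      (Amb.le_normalizer_inf le_normalizer (Amb.le_normalizer_centralizer hNK)) with h | h
    · exact h.trans inf_le_right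
    exfalso
    have h1 : T ⊓ 𝐂[K] ≤ Q := le_trans (le_inf inf_le_left (inf_le_inf_right _ hT.le)) h
    have h2 : T ⊓ 𝐂[K] = Q ⊓ 𝐂[K] := le_antisymm (le_inf h1 inf_le_right) (inf_le_inf_right _ hQT)
    have h3 : T ⊓ 𝐂[K] ≤ K := by
      by_contra h3
      refine hKM (K ⊔ T ⊓ 𝐂[K]) (lt_of_le_not_ge le_sup_left fun h4 => h3 (le_sup_right.trans h4))
        (sup_le hKQ h1) ?_ (Amb.le_normalizer_sup hT1K
          (Amb.le_normalizer_inf inf_le_right (Amb.le_normalizer_centralizer hT1K)))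
      rw [h2]
      exact Amb.le_normalizer_sup hNK (Amb.le_normalizer_inf hNQ (Amb.le_normalizer_centralizer hNK))
    have hS'B : S' ≤ 𝐍[S' ⊓ 𝐂[K]] := Amb.le_normalizer_inf le_normalizer (Amb.le_normalizer_centralizer hS'.le)
    have h4 : S' ⊓ 𝐂[K] ≤ K := by
      have h5 : S' ⊓ 𝐂[K] ⊓ 𝐍[Q] ≤ T := hT'.le_of_le_normalizer
        (hS'.pgrp.to_le (inf_le_left.trans inf_le_left)) inf_le_right
        (Amb.le_normalizer_inf (hTS'.le.trans hS'B) (hT'.le.trans le_normalizer))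
      have h6 : S' ⊓ 𝐂[K] ≤ Q := le_of_inf_normalizer_le hS'.pgrp inf_le_left (hQT.trans hTS'.le)
        ((hQT.trans hTS'.le).trans hS'B) ((le_inf h5 (inf_le_left.trans inf_le_right)).trans h1)
      exact (le_inf (h6.trans hQT) inf_le_right).trans h3
    have hyS : IsSyl p cj(y, S') 𝐍[cj(y, K)] := by rw [normalizer_cj]; exact hS'.cj y
    have h5 : S ⊓ 𝐍[cj(y, K)] = cj(y, S') :=
      hyS.eq (hS.pgrp.to_le inf_le_left) (le_inf hy hyS.le) inf_le_right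
    have h6 := hmax cj(y, K) ((cj_mono y (hKT.trans hTS'.le)).trans hy) (by rw [h5]; exact hyS) (by
      refine le_trans (le_inf (le_inf inf_le_left (inf_le_right.trans (centralizer_le_normalizer' _)))
        inf_le_right) ?_
      rw [h5, centralizer_cj, ← cj_inf]
      exact cj_mono y h4) (by rw [h5, card_cj]; exact Grp.card_lt_of_lt hTS')
    obtain ⟨O, hO1, hO2, -, hO4⟩ := exists_opr (hT.pgrp.to_le hKT) hS' h4
    apply hN
    intro g hg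
    obtain ⟨h, hh, e⟩ := Agree.cj hyH (h6 (y * g * y⁻¹) (by
      rw [normalizer_cj]; exact conj_mem_cj y (hNK hg)))
    obtain ⟨k, hk, o, ho, e'⟩ := (mem_sup_of_le_normalizer_right (le_normalizer.trans hO2)).1
      (hO4 (Agree.mem_centralizer e))
    have hkH : h * k ∈ 𝐍[Z] := mul_mem hh (hTZ (hKT hk))
    have hg' : g = h * k * o := by rw [mul_assoc, ← e']; group
    have hoZ : o ∈ 𝐂[Z] := by
      intro z hz
      have a1 : o * z * o⁻¹ * z⁻¹ ∈ O := by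
        have := O.mul_mem ho (Amb.conj_mem_of_mem_normalizer (hO2 (hTK (hQT (hZ hz)))) (O.inv_mem ho))
        simpa [mul_assoc] using this
      have a2 : o * z * o⁻¹ * z⁻¹ ∈ cj((h * k)⁻¹, Q) := by
        refine mul_mem ?_ (inv_mem ?_)
        · rw [mem_cj]
          have := Amb.conj_mem_of_mem_normalizer (hNQ hg) (hZ hz)
          rw [hg'] at this
          simpa [mul_assoc] using this
        · rw [mem_cj]
          simpa using hZ (Amb.conj_mem_of_mem_normalizer hkH hz)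
      have a3 := eq_one_of_isPGroup_of_coprime (isPGroup_cj _ hQp) a2 (hO1 _ a1)
      rw [mul_inv_eq_one, mul_inv_eq_iff_eq_mul] at a3
      exact a3.symm
    rw [hg']
    exact mul_mem hkH (centralizer_le_normalizer' Z hoZ)
  have hZK : ¬ Z ≤ K := fun h => hN (by
    rw [← hT.pRes_sup]
    exact sup_le ((hLK.trans (centralizer_anti h)).trans (centralizer_le_normalizer' Z)) hTZ)
  set U := (K ⊔ Z) ⊓ centMod T K with hU
  have hKU : K ≤ U := le_inf le_sup_left (le_centMod.2 ⟨le_normalizer,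
    le_normalizer_iff_commutator_le_left.1 hTK⟩)
  have hUQ : U ≤ Q := inf_le_left.trans (sup_le hKQ hZ)
  have hKU' : K < U := by
    obtain ⟨u, hu, huK, h⟩ := exists_notMem_commutator_mem (hQp.to_le hZ) hT.pgrp hTZ hZK
    exact lt_of_le_not_ge hKU fun h1 => huK (h1 ⟨(le_sup_right : Z ≤ K ⊔ Z) hu,
      hTK (hQT (hZ hu)), fun r hr => (h r ((le_sup_right : T ≤ Z ⊔ T) hr)).2⟩)
  have hT1U : T1 ≤ 𝐍[U] := Amb.le_normalizer_inf
    (Amb.le_normalizer_sup hT1K (inf_le_left.trans hS'Z))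
    ((le_inf inf_le_right hT1K).trans (inf_normalizer_le_normalizer_centMod _ _))
  have hUL : ¬ ⁅U, 𝐎[p, N]⁆ ≤ K := fun h => hKM U hKU' hUQ (by
    rw [← hT.pRes_sup]
    exact sup_le (le_normalizer_iff_commutator_le_left.2 (h.trans hKU)) (hT1.le.trans hT1U)) hT1U
  set V := ncl U N with hV
  have hVQ : V ≤ Q := ncl_le hUQ hNQ
  have hNV : N ≤ 𝐍[V] := le_normalizer_ncl U N
  have hUV : U ≤ V := le_ncl U N
  have hQV : ⁅Q, V⁆ ≤ K := commutator_ncl_le hNQ hNK ((hUQ.trans hQT).trans hTK) (by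
    rw [commutator_comm]
    exact (commutator_mono inf_le_right hQT).trans (commutator_centMod_le T K))
  have hc' : T ⊓ centMod V K ≤ Q := by
    rcases pm hT hM (D := N ⊓ centMod V K) inf_le_left (Amb.le_normalizer_inf le_normalizer
      ((le_inf hNV hNK).trans (inf_normalizer_le_normalizer_centMod _ _))) with h | h
    · refine absurd ?_ hUL
      rw [commutator_comm]
      exact (commutator_mono le_rfl hUV).trans (le_centMod.1 (h.trans inf_le_right)).2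
    · exact le_trans (le_inf inf_le_left (inf_le_inf_right _ hT.le)) h
  rcases thompson_amb hT.pgrp hTK hKQ hVQ hQT (hT.le.trans hNV) hQV hc'
    (fun h => hZK ((hZ.trans hQT).trans h)) with ⟨x, hx, h1, h2⟩ | ⟨J, h1, h2, h3, h4⟩
  · refine ⟨x, hx, h1, V, K, hVQ, hNV, hNK, hKU.trans hUV, fun h => hUL ?_, h2⟩
    have h3 : U ≤ K ⊔ Z ⊓ V := by
      rw [← sup_inf_of_le_normalizer' (hKU.trans hUV) ((hZ.trans hQT).trans hTK)]
      exact le_inf inf_le_left hUV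
    have h4 : Z ⊓ V ≤ 𝐍[K] := ((inf_le_left.trans hZ).trans hQT).trans hTK
    have h5 : ⁅K, 𝐎[p, N]⁆ ≤ K := le_normalizer_iff_commutator_le_left.1 ((pRes_le p N).trans hNK)
    exact (commutator_mono h3 le_rfl).trans (CommMod.commutator_sup_le le_normalizer h4 h5 h)
  · exact absurd ((le_inf hT1K inf_le_right).trans h3) (hKM J h1 h2 ((le_inf hNK hNQ).trans h4))

end Cfsg.Agent.Fus.ZJF
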