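import Mathlib
import Cfsg.Agent.Fus.ZJFThird

/-!
If `Z(J(S))` does not control strong fusion then `F(p)` is involved in its normalizer.
-/

set_option autoImplicit false

namespace Cfsg.Agent.Fus.ZJF

open Subgroup Cfsg.Agent.PLocal Cfsg.Agent.PLocal.Amb Cfsg.Agent.PLocal.CP Cfsg.Agent.PLocal.CommMod
open scoped commutatorElement

variable {p : ℕ} [hp : Fact p.Prime] {G : Type*} [Group G] [Finite G]

theorem fOver_normal_eq_bot (N : Subgroup (fOver (ZMod p))) [hN : N.Normal]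
    (h : ∀ x ∈ N, (orderOf x).Coprime p) : N = ⊥ := by
  have hle : fOver (ZMod p) ≤ qdOver (ZMod p) := closure_mono fun M hM => hM.2
  have h1 : ∀ x ∈ N, inclusion hle x ∈ Qd.V (ZMod p) → x = 1 := by
    intro x hx hV
    have h2 := Qd.pow_eq_one_of_mem_V p hV
    rw [← map_pow, ← map_one (inclusion hle)] at h2
    have h3 := orderOf_dvd_of_pow_eq_one (inclusion_injective hle h2)
    exact orderOf_eq_one_iff.1 (Nat.Coprime.eq_one_of_dvd (h x hx) h3)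
  rw [eq_bot_iff]
  intro x hx
  refine h1 x hx ?_
  rw [← Qd.centralizer_V]
  intro v hv
  obtain ⟨w, rfl⟩ := Qd.mem_V.1 hv
  let t : fOver (ZMod p) := ⟨(Qd.aff 1 w).1, subset_closure ⟨rfl, rfl, rfl, rfl⟩⟩
  have ht : inclusion hle t = Qd.aff 1 w := rfl
  have h2 := h1 (x * (t * x⁻¹ * t⁻¹)) (N.mul_mem hx (hN.conj_mem _ (N.inv_mem hx) t)) (by
    rw [← mul_assoc, ← mul_assoc, map_mul, map_mul, map_mul, map_inv, map_inv, ht]
    exact mul_mem ((Qd.V_normal).conj_mem _ hv _) (inv_mem hv))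
  rw [← ht, ← map_mul, ← map_mul]
  congr 1
  rw [← mul_assoc, ← mul_assoc, mul_inv_eq_one, mul_inv_eq_iff_eq_mul] at h2
  exact h2.symm

omit [Finite G] in
theorem exists_surj_of_coprime {A O K : Subgroup G} (hO : ∀ o ∈ O, (orderOf o).Coprime p) (hA : A ≤ 𝐍[O])
    (hK : K ≤ A ⊔ O) (ψ : K →* fOver (ZMod p)) (hψ : Function.Surjective ψ) :
    ∃ (K' : Subgroup G) (ψ' : K' →* fOver (ZMod p)), K' ≤ A ∧ Function.Surjective ψ' := by
  have hKO : K ≤ 𝐍[O] := hK.trans (sup_le hA le_normalizer)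
  have hn := normal_subgroupOf' hKO
  have h1 : ∀ k : K, (k : G) ∈ O → ψ k = 1 := by
    intro k hk
    have : ((O.subgroupOf K).map ψ).Normal := hn.map ψ hψ
    have h2 := fOver_normal_eq_bot ((O.subgroupOf K).map ψ) (by
      rintro _ ⟨x, hx, rfl⟩
      refine Nat.Coprime.coprime_dvd_left (orderOf_map_dvd ψ x) ?_
      rw [← Subgroup.orderOf_coe]
      exact hO _ hx)
    exact mem_bot.1 (h2 ▸ (⟨k, hk, rfl⟩ : ψ k ∈ (O.subgroupOf K).map ψ))
  let X : Subgroup (G × fOver (ZMod p)) :=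
    { carrier := {q | q.1 ∈ A ∧ ∃ k : K, ∃ o ∈ O, q.1 = k * o ∧ q.2 = ψ k}
      one_mem' := ⟨A.one_mem, 1, 1, O.one_mem, by simp, by simp⟩
      mul_mem' := by
        rintro ⟨a, f⟩ ⟨b, g⟩ ⟨ha, k, o, ho, e1, e2⟩ ⟨hb, k', o', ho', e1', e2'⟩
        refine ⟨A.mul_mem ha hb, k * k', (k' : G)⁻¹ * o * k' * o',
          O.mul_mem (Amb.inv_conj_mem_of_mem_normalizer (hKO k'.2) ho) ho', ?_, ?_⟩
        · simp only [Prod.fst_mul, Subgroup.coe_mul] at e1 e1' ⊢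
          rw [e1, e1']; group
        · simp only [Prod.snd_mul, map_mul] at e2 e2' ⊢
          rw [e2, e2']
      inv_mem' := by
        rintro ⟨a, f⟩ ⟨ha, k, o, ho, e1, e2⟩
        refine ⟨A.inv_mem ha, k⁻¹, k * o⁻¹ * (k : G)⁻¹,
          Amb.conj_mem_of_mem_normalizer (hKO k.2) (O.inv_mem ho), ?_, ?_⟩
        · simp only [Prod.fst_inv, Subgroup.coe_inv] at e1 ⊢
          rw [e1]; group
        · simp only [Prod.snd_inv, map_inv] at e2 ⊢
          rw [e2] }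
  let f : X →* G := (MonoidHom.fst _ _).comp X.subtype
  have hf : Function.Injective f := by
    rw [injective_iff_map_eq_one]
    rintro ⟨⟨a, b⟩, ha, k, o, ho, e1, e2⟩ h
    have h2 : a = 1 := h
    refine Subtype.ext (Prod.ext h2 (e2.trans (h1 k ?_)))
    simp only [h2] at e1
    rw [eq_inv_of_mul_eq_one_left e1.symm]
    exact O.inv_mem ho
  let g : X →* fOver (ZMod p) := (MonoidHom.snd _ _).comp X.subtype
  have hg : Function.Surjective g := by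
    intro b
    obtain ⟨k, rfl⟩ := hψ b
    obtain ⟨a, ha, o, ho, e⟩ := (mem_sup_of_le_normalizer_right hA).1 (hK k.2)
    exact ⟨⟨(a, ψ k), ha, k, o⁻¹, O.inv_mem ho, by simp [e], rfl⟩, rfl⟩
  refine ⟨f.range, g.comp (MonoidHom.ofInjective hf).symm.toMonoidHom, ?_,
    hg.comp (MonoidHom.ofInjective hf).symm.surjective⟩
  rintro _ ⟨x, rfl⟩
  exact x.2.1

theorem alperin_agree {S H : Subgroup G} (hS : IsSyl p S ⊤) (s : ℕ)
    (h : ∀ U ≤ S, IsSyl p (S ⊓ 𝐍[U]) 𝐍[U] → S ⊓ 𝐂[U] ≤ U → s ≤ Nat.card U → ∀ x ∈ 𝐍[U], Agree H U x)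
    {T : Subgroup G} {g : G} (h1 : T ≤ S) (h2 : cj(g, T) ≤ S) (h3 : s ≤ Nat.card T) : Agree H T g := by
  refine CF.alperin_ind_centric (syl_of_isSyl hS) Set.univ
    (fun T hT => by
      obtain ⟨g, hg, a1, a2, -⟩ := CF.exists_fullyNormalized' (syl_of_isSyl hS) hT
      exact ⟨g, hg, trivial, a1, a2⟩)
    (fun T g => s ≤ Nat.card T → Agree H T g)
    (fun T T' g h _ _ _ h' hs => (h' (hs.trans (card_le_of_le h))).mono h)
    (fun T g k _ _ _ _ _ h h' hs => ?_) (fun T g _ _ _ h hs => ?_)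
    (fun T _ c hc _ => ⟨1, one_mem _, fun a ha => by simp [CF.conj_eq_of_mem_ce hc.2 ha]⟩)
    (fun U _ a1 a2 a3 _ x hx hs => h U a1 (by rw [top_inf_eq] at a2; exact isSyl_of_syl a2) a3 hs x hx.2)
    T g trivial h1 h2 h3
  · obtain ⟨n, hn, e⟩ := h hs
    obtain ⟨m, hm, e'⟩ := h' (hs.trans (card_cj g T).ge)
    refine ⟨m * n, mul_mem hm hn, fun a ha => ?_⟩
    have := e' _ (conj_mem_cj g ha)
    calc _ = k * (g * a * g⁻¹) * k⁻¹ := by group
      _ = _ := by rw [this, e a ha]; group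
  · obtain ⟨n, hn, e⟩ := h (hs.trans (card_cj g T).le)
    refine ⟨n⁻¹, inv_mem hn, fun b hb => ?_⟩
    obtain ⟨a, ha, rfl⟩ := mem_cj_iff_exists.1 hb
    conv_rhs => rw [e a ha]
    group

theorem concl_of_not_controls (hp2 : p ≠ 2) {S : Subgroup G} (hS : IsSyl p S ⊤)
    (h : ¬ ∀ (T : Subgroup G) (g : G), T ≤ S → cj(g, T) ≤ S → Agree 𝐍[centerThompsonAOf S] T g) :
    Concl p 𝐍[centerThompsonAOf S] (centerThompsonAOf S) := by
  set Z := centerThompsonAOf S with hZ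
  set H := 𝐍[Z] with hH
  have hSH : S ≤ H := le_normalizer_centerThompsonAOf S
  have hZS : Z ≤ S := centerThompsonAOf_le S
  set 𝓑 : Set (Subgroup G) := {U | U ≤ S ∧ IsSyl p (S ⊓ 𝐍[U]) 𝐍[U] ∧ S ⊓ 𝐂[U] ≤ U ∧
    ¬ ∀ x ∈ 𝐍[U], Agree H U x} with h𝓑
  have hne : 𝓑.Nonempty := by
    by_contra h1
    refine h fun T g h2 h3 => alperin_agree hS 0 (fun U a1 a2 a3 _ => ?_) h2 h3 (Nat.zero_le _)
    by_contra a4
    exact h1 ⟨U, a1, a2, a3, a4⟩
  obtain ⟨Q₀, hQ₀, hmax₀⟩ := Set.exists_max_image 𝓑 (fun U => Nat.card (S ⊓ 𝐍[U] : Subgroup G))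
    (Set.toFinite _) hne
  obtain ⟨Q, ⟨⟨hQS, hT', hQc, hbad⟩, hQe⟩, hmax₁⟩ := Set.exists_max_image
    {U ∈ 𝓑 | Nat.card (S ⊓ 𝐍[Q₀] : Subgroup G) ≤ Nat.card (S ⊓ 𝐍[U] : Subgroup G)} (fun U => Nat.card U)
    (Set.toFinite _) ⟨Q₀, hQ₀, le_rfl⟩
  set T := S ⊓ 𝐍[Q] with hT
  have hQT : Q ≤ T := le_inf hQS le_normalizer
  have hTS : T ≤ S := inf_le_left
  have hQp : IsPGroup p Q := hS.pgrp.to_le hQS
  have hmax : ∀ K ≤ S, IsSyl p (S ⊓ 𝐍[K]) 𝐍[K] → S ⊓ 𝐂[K] ≤ K →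
      Nat.card T < Nat.card (S ⊓ 𝐍[K] : Subgroup G) → ∀ g ∈ 𝐍[K], Agree H K g := by
    intro K a1 a2 a3 a4
    by_contra a5
    exact absurd ((hmax₀ K ⟨a1, a2, a3, a5⟩).trans hQe) (not_le.2 a4)
  have hF : ∀ g, cj(g, T) ≤ S → Agree H T g := fun g hg =>
    alperin_agree hS (Nat.card T) (fun U a1 a2 a3 a4 x hx => by
      rcases a1.lt_or_eq with a5 | rfl
      · exact hmax U a1 a2 a3 (a4.trans_lt (Grp.card_lt_of_lt (lt_inf_normalizer hS.pgrp a5))) x hx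
      · exact ⟨x, normalizer_le_normalizer_centerThompsonAOf _ hx, fun _ _ => rfl⟩) hTS hg le_rfl
  set M := (H ⊓ 𝐍[Q]) ⊔ 𝐂[Q] with hM
  have hHC : H ⊓ 𝐍[Q] ≤ 𝐍[𝐂[Q]] := inf_le_right.trans (Amb.normalizer_le_normalizer_centralizer Q)
  have hMa : ∀ g ∈ 𝐍[Q], Agree H Q g → g ∈ M := by
    rintro g hg ⟨k, hk, e⟩
    have h1 := Agree.mem_centralizer e
    refine (mem_sup_of_le_normalizer_right hHC).2 ⟨k, ⟨hk, ?_⟩, _, h1, by group⟩
    have := mul_mem hg (inv_mem (centralizer_le_normalizer' Q h1))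
    simpa using this
  have hMb : ∀ g ∈ M, Agree H Q g := by
    intro g hg
    obtain ⟨k, hk, c, hc, rfl⟩ := (mem_sup_of_le_normalizer_right hHC).1 hg
    refine ⟨k, hk.1, fun a ha => ?_⟩
    calc _ = k * (c * a * c⁻¹) * k⁻¹ := by group
      _ = _ := by rw [CF.conj_eq_of_mem_ce hc ha]
  have hTM : T ≤ M := le_trans (inf_le_inf_right _ hSH) le_sup_left
  obtain ⟨N, ⟨hTN, hNQ, hNM⟩, hNmin⟩ := WellFounded.has_min (wellFounded_lt (α := Subgroup G))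
    {N : Subgroup G | T ≤ N ∧ N ≤ 𝐍[Q] ∧ ¬ N ≤ M} ⟨𝐍[Q], hT'.le, le_rfl, fun h1 =>
      hbad fun x hx => hMb x (h1 hx)⟩
  have hTN' : IsSyl p T N := hT'.mono hTN hNQ
  have hmo : MinOver T (N ⊓ M) N := minOver_of_isSyl hTN'
    (fun h1 => hNM fun g hg => hMa g (hNQ hg)
      ((hF g ((cj_of_mem_normalizer (h1 hg)).le.trans hTS)).mono hQT))
    (le_inf hTN hTM) (lt_of_le_not_ge inf_le_left fun h1 => hNM (h1.trans inf_le_right))
    (fun X h1 h2 => le_inf h2.le (by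
      by_contra h3
      exact hNmin X ⟨h1, h2.le.trans hNQ, h3⟩ h2))
  have hQO : pCoreOf p N = Q := by
    have h1 : Q ≤ pCoreOf p N := Amb.le_pCoreOf hQp (hQT.trans hTN) hNQ
    refine (h1.eq_of_not_lt fun h2 => ?_).symm
    set Q1 := pCoreOf p N with hQ1
    have hQ1T : Q1 ≤ T := hTN'.pCoreOf_le
    have hNQ1 : N ≤ 𝐍[Q1] := Amb.le_normalizer_pCoreOf p N
    obtain ⟨g, -, a1, a2, a3⟩ := CF.exists_fullyNormalized (syl_of_isSyl hS) hQ1T hTN'.pgrp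
      (le_inf le_top (hTN.trans hNQ1))
    rw [top_inf_eq] at a2
    obtain ⟨k, hk, e⟩ := hF g (a3.trans inf_le_left)
    have h3 := hmax₁ cj(g, Q1) ⟨⟨a1, isSyl_of_syl a2, ?_, fun a4 => hNM fun x hx => ?_⟩,
      hQe.trans ((card_cj g T).ge.trans (card_le_of_le a3))⟩
    · rw [card_cj] at h3
      exact absurd h3 (not_le.2 (Grp.card_lt_of_lt h2))
    · have b1 : IsSyl p (T ⊓ 𝐂[Q]) 𝐂[Q] :=
        hT'.inf_of_le (centralizer_le_normalizer' Q) (Amb.normalizer_le_normalizer_centralizer Q)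
      rw [le_cj_iff]
      obtain ⟨c, hc, b2⟩ := b1.exists_le_cj (R := cj(g⁻¹, S ⊓ 𝐂[cj(g, Q1)]))
        (isPGroup_cj _ (hS.pgrp.to_le inf_le_left)) (by
          rw [cj_le_iff, inv_inv, ← centralizer_cj]
          exact inf_le_right.trans (centralizer_anti (cj_mono g h1)))
      refine b2.trans (le_trans (cj_le_of_mem_normalizer ?_ (centralizer_le_normalizer' Q hc)) h1)
      exact (inf_le_inf_right _ hTS).trans hQc
    · obtain ⟨m, hm, e'⟩ := a4 (g * x * g⁻¹) (by rw [normalizer_cj]; exact conj_mem_cj g (hNQ1 hx))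
      refine hMa x (hNQ hx) ⟨k⁻¹ * m * k, mul_mem (mul_mem (inv_mem hk) hm) hk, fun a ha => ?_⟩
      have b1 := e' _ (conj_mem_cj g (h1 ha))
      have b2 := e _ (hQ1T (Amb.conj_mem_of_mem_normalizer (hNQ1 hx) (h1 ha)))
      calc _ = k⁻¹ * (k * (x * a * x⁻¹) * k⁻¹) * k := by group
        _ = k⁻¹ * (g * x * g⁻¹ * (g * a * g⁻¹) * (g * x * g⁻¹)⁻¹) * k := by rw [← b2]; group
        _ = _ := by rw [b1, e a (hQT ha)]; group
  have hq : Quad p T N Z := by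
    by_cases h1 : Z ≤ pCoreOf p N
    · have h2 : ¬ N ≤ H := fun h2 => hNM ((le_inf h2 hNQ).trans le_sup_left)
      rcases hTS.lt_or_eq with h3 | h3
      · exact quad_of_lt hS hSH h3 hTN' (hQO ▸ hT') hmo h1 h2
          (fun g hg => (hF g hg).mem_normalizer (h1.trans hTN'.pCoreOf_le)) hmax
      · rw [h3] at hTN' ⊢
        exact quad_of_sylow hp2 hTN' h1 h2
    · exact quad_of_not_le hS.pgrp hTN' hmo hTS (hQO ▸ le_rfl) hZS hSH (centerThompsonAOf_comm S)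
        (hQO ▸ inf_le_inf_left _ le_sup_right) h1
  obtain ⟨x, hx, hxQ, V, V0, hVQ, hNV, hNV0, h0V, hnc, hq⟩ := hq
  have hMZ : M ≤ 𝐍[Z ⊓ Q] := sup_le (Amb.le_normalizer_inf inf_le_left inf_le_right)
    ((centralizer_anti inf_le_right).trans (centralizer_le_normalizer' _))
  have hVQ' : V ≤ Q := hQO ▸ hVQ
  obtain ⟨⟨K, ψ, hK, hψ⟩, t, ht, y, hy, hy1, n, hn, e⟩ := concl_of_minOver hp2 hTN' hmo hx hxQ
    (hVQ'.trans (hQT.trans hTN)) hNV hNV0 (hQp.to_le hVQ') h0V (Y := Z ⊓ V) inf_le_right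
    (commutator_eq_bot_iff_le_centralizer.2 fun a ha b hb => centerThompsonAOf_comm S b hb.1 a ha.1)
    (by
      rw [show Z ⊓ V = Z ⊓ Q ⊓ V by rw [inf_assoc, inf_eq_right.2 hVQ']]
      exact Amb.le_normalizer_inf (inf_le_right.trans hMZ) (inf_le_left.trans hNV)) hnc hq
  obtain ⟨O, hO1, hO2, -, hO4⟩ := exists_opr hQp hT' ((inf_le_inf_right _ hTS).trans hQc)
  obtain ⟨K', ψ', hK', hψ'⟩ := exists_surj_of_coprime (A := H ⊓ 𝐍[Q]) hO1 (inf_le_right.trans hO2)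
    ((hK.trans inf_le_right).trans (sup_le le_sup_left (hO4.trans
      (sup_le_sup_right (le_inf (hQS.trans hSH) le_normalizer) _)))) ψ hψ
  obtain ⟨k, hk, e'⟩ := hMb t ht.2
  exact ⟨⟨K', ψ', hK'.trans inf_le_left, hψ'⟩, k, hk, y, hy.1, hy1, n, hn, by rw [← e' y (hVQ' hy.2), e]⟩

theorem relIndex_eq_of_primitive {H : Subgroup G} {t z : G} (ht : t ∈ H) (hz : orderOf z = p) {n : ℕ}
    (hn : IsPrimitiveRoot (n : ZMod p) (p - 1)) (e : t * z * t⁻¹ = z ^ n) :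
    (H ⊓ 𝐂[zpowers z]).relIndex (H ⊓ 𝐍[zpowers z]) = p - 1 := by
  set C := zpowers z with hC
  have hc : Nat.card C = p := by rw [hC, Nat.card_zpowers, hz]
  let φ : (H ⊓ 𝐍[C] : Subgroup G) →* MulAut C := C.normalizerMonoidHom.comp (inclusion inf_le_right)
  have hk : φ.ker = (H ⊓ 𝐂[C]).subgroupOf (H ⊓ 𝐍[C]) := by
    ext x
    rw [MonoidHom.mem_ker, mem_subgroupOf, MonoidHom.comp_apply, ← MonoidHom.mem_ker,
      normalizerMonoidHom_ker, mem_subgroupOf]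
    exact ⟨fun h => ⟨x.2.1, h⟩, fun h => h.2⟩
  have htN : t ∈ 𝐍[C] := mem_normalizer_of_cj_le (by
    rw [hC, MonoidHom.map_zpowers, zpowers_le]
    change t * z * t⁻¹ ∈ _
    rw [e]
    exact npow_mem_zpowers z n)
  rw [relIndex, ← hk, index_ker]
  have : IsCyclic C := isCyclic_of_prime_card hc
  refine Nat.dvd_antisymm ?_ ?_
  · have := card_subgroup_dvd_card φ.range
    rwa [IsCyclic.card_mulAut, hc, Nat.totient_prime hp.out] at this
  · refine dvd_trans ?_ (orderOf_dvd_natCard φ.range ⟨⟨t, ht, htN⟩, rfl⟩)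
    set m := orderOf (φ ⟨t, ht, htN⟩)
    have h1 : (⟨t, ht, htN⟩ : (H ⊓ 𝐍[C] : Subgroup G)) ^ m ∈ φ.ker := by
      rw [MonoidHom.mem_ker, map_pow, pow_orderOf_eq_one]
    rw [hk] at h1
    have h2 : z * t ^ m = t ^ m * z := h1.2 z (mem_zpowers z)
    have h3 : ∀ j : ℕ, t ^ j * z * (t ^ j)⁻¹ = z ^ n ^ j := by
      intro j
      induction j with
      | zero => simp
      | succ j ih =>
        rw [pow_succ n, pow_mul, ← ih, conj_pow, ← e]
        group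
    have h4 : z ^ n ^ m = z ^ 1 := by rw [← h3, ← h2]; group
    rw [pow_eq_pow_iff_modEq, hz, ← ZMod.natCast_eq_natCast_iff] at h4
    exact (hn.pow_eq_one_iff_dvd m).1 (by simpa using h4)

end Cfsg.Agent.Fus.ZJF
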